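import Cfsg.Agent.Amalgam.SThreeCentralEven

/-!
Critical distance 2: the edge stabilizers have order at most 64.
-/

set_option autoImplicit false
set_option linter.unusedSectionVars false
set_option linter.unusedVariables false
open Cfsg
open scoped Pointwise commutatorElement

namespace CfsgLib.Amalgam

variable {X : Type*} [Group X] {M₁ M₂ : Subgroup X}

namespace SThreeCentral

variable (h : SThreeCentral M₁ M₂) [hp : Fact (Nat.Prime 2)]

include h

theorem two_noncomm {p : ℕ → CosetVertex M₁ M₂} (c : ACrit 2 p) {u v w : CosetVertex M₁ M₂}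
    (hu : (cosetGraph M₁ M₂).Adj v u) (hw : (cosetGraph M₁ M₂).Adj v w) (hne : u ≠ w) (hB : IsB v) :
    ¬ vertexZ 2 u ≤ vertexQ 2 w := by
  have hT : Transit M₁ M₂ 2 true := by
    refine h.toSThreePair.transit_of_movers 2 (by omega) (fun t _ => ?_) true
    obtain ⟨a, hAa⟩ : ∃ a : CosetVertex M₁ M₂, Sum.isLeft a = t := by
      cases t
      exacts [⟨base₂ M₁ M₂, rfl⟩, ⟨base₁ M₁ M₂, rfl⟩]
    obtain ⟨b, hab⟩ : ∃ b, (cosetGraph M₁ M₂).Adj a b := SThreeActive.exists_adj a
    obtain ⟨g, hg, hgQ⟩ := h.toSThreePair.exists_edge_not_Q hab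
    refine ⟨fun i => if i = 0 then b else a, g, ⟨fun i hi => ?_, fun i hi => by omega⟩, by simpa using hAa,
      fun i hi => ?_, by simpa using hgQ⟩
    · rw [show i = 0 by omega]; simpa using hab.symm
    · dsimp only
      split
      exacts [MulAction.mem_stabilizer_iff.1 hg.2, MulAction.mem_stabilizer_iff.1 hg.1]
  have hq : IsPathN 2 (pcons u (pcons v (fun _ => w))) :=
    ((⟨fun i hi => absurd hi (by omega), fun i hi => by omega⟩ : IsPathN 0 (fun _ : ℕ => w)).pcons hw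
      (fun h1 => by omega)).pcons hu.symm (fun _ => by rw [pcons_succ]; exact hne)
  exact (h.crit_of_transit c hT hq (isA_of_adj hu hB)).nc

theorem two_bound {p : ℕ → CosetVertex M₁ M₂} (c : ACrit 2 p) (hk : KOne M₁ M₂)
    {a v₁ : CosetVertex M₁ M₂} (hA : IsA a) (hv₁ : (cosetGraph M₁ M₂).Adj a v₁) :
    Nat.card ↥(edgeStabilizer a v₁) ≤ 64 := by
  obtain ⟨v₂, hv₂, h21⟩ := h.toSThreePair.exists_other hv₁
  obtain ⟨v₃, hv₃, h31, h32⟩ := h.toSThreePair.exists_third hv₁ v₂
  have := h.toSThreePair.finite_Q a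
  -- for each neighbour `v`, an element of `Z` at distance 2 moving the other two
  have pick : ∀ v, (cosetGraph M₁ M₂).Adj a v → ∃ (c₁ : CosetVertex M₁ M₂) (x : X),
      (cosetGraph M₁ M₂).Adj v c₁ ∧ c₁ ≠ a ∧ x ∈ vertexZ 2 c₁ ∧ x ∉ vertexZ 2 v ∧
      x ∈ edgeStabilizer a v ∧ x ∉ vertexQ 2 a := by
    intro v hv
    have hB := isB_of_adj hv hA
    obtain ⟨c₁, hc₁, hne⟩ := h.toSThreePair.exists_other hv.symm
    have hA₁ := isA_of_adj hc₁ hB
    obtain ⟨x, hx, hxv⟩ := h.exists_mem_notMem hc₁.symm hA₁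
    have hxE : x ∈ edgeStabilizer a v := by
      refine mem_edge_symm (h.Z_le_edge_of_near c hA₁ ?_ hv.symm hx)
      have := SimpleGraph.dist_eq_one_iff_adj.2 hc₁.symm
      omega
    refine ⟨c₁, x, hc₁, hne, hx, hxv, hxE, fun hxQ => hxv ?_⟩
    obtain ⟨z, hz, hzQ⟩ := Set.not_subset.1 (h.two_noncomm c hv.symm hc₁ hne.symm hB)
    have hzE : z ∈ edgeStabilizer c₁ v := by
      refine mem_edge_symm (h.Z_le_edge_of_near c hA ?_ hc₁ hz)
      have := SimpleGraph.dist_eq_one_iff_adj.2 hv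
      omega
    exact h.cent_eq hc₁.symm hA₁ hzE hzQ hx (h.Z_commute_Q hz hxQ).symm
  -- conjugates of such an element by `Q_a` fixing its vertex
  have flip : ∀ (v c₁ : CosetVertex M₁ M₂) (x : X), (cosetGraph M₁ M₂).Adj a v →
      (cosetGraph M₁ M₂).Adj v c₁ → x ∈ vertexZ 2 c₁ → x ∉ vertexZ 2 v →
      ∀ q q' : X, q ∈ edgeStabilizer v c₁ → q' ∈ edgeStabilizer v c₁ →
      q ∉ Subgroup.centralizer ({x} : Set X) → q' ∉ Subgroup.centralizer ({x} : Set X) →
      q * q' ∈ Subgroup.centralizer ({x} : Set X) := by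
    intro v c₁ x hv hc₁ hx hxv q q' hq hq' hn hn'
    have hB := isB_of_adj hv hA
    have hA₁ := isA_of_adj hc₁ hB
    have one : ∀ g ∈ edgeStabilizer v c₁, g ∉ Subgroup.centralizer ({x} : Set X) →
        ∃ r ∈ vertexZ 2 v, r ≠ 1 ∧ g * x * g⁻¹ = x * r := by
      intro g hg hgn
      have h1 := h.Z_conj_stab hg.2 hx
      have h2 : g * x * g⁻¹ ∉ vertexZ 2 v := by
        intro hh
        refine hxv ?_
        have h3 := h.Z_conj_stab (inv_mem hg.1) hh
        simpa [mul_assoc] using h3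
      refine ⟨x * (g * x * g⁻¹), h.ZA_coset hk hc₁.symm hA₁ hx h1 hxv h2, ?_, ?_⟩
      · intro e
        refine hgn (Subgroup.mem_centralizer_singleton_iff.2 ?_)
        have e' : g * x * g⁻¹ = x := by
          rw [eq_inv_of_mul_eq_one_right e, h.Z_inv hx]
        calc g * x = g * x * g⁻¹ * g := by rw [inv_mul_cancel_right]
          _ = x * g := by rw [e']
      · rw [← mul_assoc, h.Z_sq hx, one_mul]
    obtain ⟨r, hr, hr1, e⟩ := one q hq hn
    obtain ⟨r', hr', hr1', e'⟩ := one q' hq' hn'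
    have err : r' = r := hk v hB r' hr' r hr hr1' hr1
    rw [err] at e'
    refine Subgroup.mem_centralizer_singleton_iff.2 ?_
    have hqr := h.ZB_commute hB hr hq.1
    have : q * q' * x * (q * q')⁻¹ = x := by
      calc q * q' * x * (q * q')⁻¹ = q * (q' * x * q'⁻¹) * q⁻¹ := by group
        _ = (q * x * q⁻¹) * (q * r * q⁻¹) := by rw [e']; group
        _ = x * r * r := by rw [e, hqr, mul_inv_cancel_right]
        _ = x := by rw [mul_assoc, h.Z_sq hr, mul_one]
    calc q * q' * x = q * q' * x * (q * q')⁻¹ * (q * q') := by rw [inv_mul_cancel_right]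
      _ = x * (q * q') := by rw [this]
  -- the centralizer of such an element has index at most 4 in `Q_a`
  have step : ∀ (v c₁ : CosetVertex M₁ M₂) (x : X), (cosetGraph M₁ M₂).Adj a v →
      (cosetGraph M₁ M₂).Adj v c₁ → x ∈ vertexZ 2 c₁ → x ∉ vertexZ 2 v →
      ∀ H : Subgroup X, H ≤ vertexQ 2 a →
      Nat.card ↥H ≤ 4 * Nat.card ↥(H ⊓ Subgroup.centralizer ({x} : Set X)) := by
    intro v c₁ x hv hc₁ hx hxv H hH
    have : Finite ↥H := Finite.of_injective (Subgroup.inclusion hH) (Subgroup.inclusion_injective _)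
    have : Finite ↥(H ⊓ vertexQ 2 v) :=
      Finite.of_injective (Subgroup.inclusion (inf_le_left : H ⊓ vertexQ 2 v ≤ H))
        (Subgroup.inclusion_injective _)
    have : Finite ↥(H ⊓ Subgroup.centralizer ({x} : Set X)) :=
      Finite.of_injective (Subgroup.inclusion
        (inf_le_left : H ⊓ Subgroup.centralizer ({x} : Set X) ≤ H)) (Subgroup.inclusion_injective _)
    have h1 := card_le_two_mul H (vertexQ 2 v) fun q hq q' hq' hn hn' =>
      h.toSThreePair.mul_mem_Q hv.symm (h.Q_le_edge' hv (hH hq)) (h.Q_le_edge' hv (hH hq')) hn hn'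
    have h2 := card_le_two_mul (H ⊓ vertexQ 2 v) (Subgroup.centralizer ({x} : Set X))
      fun q hq q' hq' => flip v c₁ x hv hc₁ hx hxv q q'
        (h.toSThreePair.vertexQ_le_edge hc₁ hq.2) (h.toSThreePair.vertexQ_le_edge hc₁ hq'.2)
    have h3 : Nat.card ↥(H ⊓ vertexQ 2 v ⊓ Subgroup.centralizer ({x} : Set X)) ≤
        Nat.card ↥(H ⊓ Subgroup.centralizer ({x} : Set X)) :=
      Subgroup.card_le_of_le (inf_le_inf_right _ inf_le_left)
    omega
  obtain ⟨c₁, x, hc₁, hc₁a, hx, hxv, hxE, hxQ⟩ := pick v₁ hv₁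
  obtain ⟨c₂, x', hc₂, hc₂a, hx', hxv', hxE', hxQ'⟩ := pick v₂ hv₂
  set C₁ := vertexQ 2 a ⊓ Subgroup.centralizer ({x} : Set X) with hC₁
  set C := C₁ ⊓ Subgroup.centralizer ({x'} : Set X) with hC
  have hCQ : C ≤ vertexQ 2 a := inf_le_left.trans inf_le_left
  have : Finite ↥C := Finite.of_injective (Subgroup.inclusion hCQ) (Subgroup.inclusion_injective _)
  obtain ⟨t, ht, hta, htc⟩ := h.toSThreePair.exists_third hv₁.symm c₁
  have hB₁ := isB_of_adj hv₁ hA
  have hAt := isA_of_adj ht hB₁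
  obtain ⟨y, hy, hyv⟩ := h.exists_mem_notMem ht.symm hAt
  have hfix : ∀ g ∈ C, g ∈ edgeStabilizer v₁ c₁ ∧ g ∈ edgeStabilizer v₁ t := by
    intro g hg
    have hgE := h.Q_le_edge' hv₁ (hCQ hg)
    have hgc : g • c₁ = c₁ := by
      by_contra hne
      have hx1 : g * x * g⁻¹ = x := by
        rw [Subgroup.mem_centralizer_singleton_iff.1 hg.1.2, mul_inv_cancel_right]
      have := h.Z_conj (g := g) hx
      rw [hx1] at this
      exact hxv (h.nbrs_inf hk hc₁ (SThreePair.adj_of_mem_stabilizer hgE.1 hc₁) (Ne.symm hne) hB₁ hx this)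
    have hgQ : g ∈ vertexQ 2 v₁ := by
      rw [← h.toSThreePair.edge_inf_eq hv₁.symm hc₁ hc₁a.symm]
      exact ⟨hgE, hgE.1, MulAction.mem_stabilizer_iff.2 hgc⟩
    exact ⟨h.toSThreePair.vertexQ_le_edge hc₁ hgQ, h.toSThreePair.vertexQ_le_edge ht hgQ⟩
  have h3 := card_le_two_mul C (Subgroup.centralizer ({y} : Set X)) fun q hq q' hq' =>
    flip v₁ t y hv₁ ht hy hyv q q' (hfix q hq).2 (hfix q' hq').2
  set C₀ := C ⊓ Subgroup.centralizer ({y} : Set X) with hC₀
  have hbot : C₀ = ⊥ := by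
    rw [eq_bot_iff]
    intro g hg
    have hgQ := hCQ hg.1
    have hcx := Subgroup.mem_centralizer_singleton_iff.1 hg.1.1.2
    have hcx' := Subgroup.mem_centralizer_singleton_iff.1 hg.1.2
    -- `g` centralizes the neighbours of `v₁`
    have hV₁ : ∀ z ∈ nbrZ v₁, g * z = z * g := by
      have hle : nbrZ v₁ ≤ Subgroup.centralizer ({g} : Set X) := by
        refine nbrZ_le fun u hu z hz => Subgroup.mem_centralizer_singleton_iff.2 ?_
        have hca : ∀ z ∈ vertexZ 2 a, g * z = z * g := fun z hz => h.Z_commute_Q hz hgQ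
        by_cases e1 : u = a
        · exact (hca z (e1 ▸ hz)).symm
        have key : ∀ (c' : CosetVertex M₁ M₂) (x₀ : X), (cosetGraph M₁ M₂).Adj v₁ c' →
            x₀ ∈ vertexZ 2 c' → x₀ ∉ vertexZ 2 v₁ → g * x₀ = x₀ * g → u = c' → z * g = g * z := by
          intro c' x₀ hc' hx₀ hx₀v hgx₀ e
          rw [e] at hz
          by_cases hzv : z ∈ vertexZ 2 v₁
          · exact (hca z (h.ZB_le hv₁.symm hB₁ hzv)).symm
          have hm := h.ZA_coset hk hc'.symm (isA_of_adj hc' hB₁) hz hx₀ hzv hx₀v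
          have hgm := hca _ (h.ZB_le hv₁.symm hB₁ hm)
          have ez : z = z * x₀ * x₀ := by rw [mul_assoc, h.Z_sq hx₀, mul_one]
          rw [ez]
          exact ((Commute.mul_right (show Commute g (z * x₀) from hgm) (show Commute g x₀ from hgx₀))).symm
        by_cases e2 : u = c₁
        · exact key c₁ x hc₁ hx hxv hcx e2
        exact key t y ht hy hyv (Subgroup.mem_centralizer_singleton_iff.1 hg.2)
          (h.toSThreePair.eq_third hv₁.symm hc₁ hu ht hc₁a.symm e1 e2 hta htc)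
      exact fun z hz => (Subgroup.mem_centralizer_singleton_iff.1 (hle hz)).symm
    have move : ∀ (k : X), g * k = k * g → ∀ v w : CosetVertex M₁ M₂, k • v = w →
        (∀ z ∈ nbrZ v, g * z = z * g) → ∀ z ∈ nbrZ w, g * z = z * g := by
      intro k hk' v w e hv' z hz
      have h1 := h.nbrZ_conj (g := k⁻¹) hz
      rw [← e, inv_smul_smul, inv_inv] at h1
      have h2 := hv' _ h1
      calc g * z = k * (g * (k⁻¹ * z * k)) * k⁻¹ := by
            rw [← mul_assoc k g, ← hk']; group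
        _ = k * ((k⁻¹ * z * k) * g) * k⁻¹ := by rw [h2]
        _ = z * g := by
            rw [show k * (k⁻¹ * z * k * g) * k⁻¹ = z * (k * g) * k⁻¹ by group, ← hk']; group
    have e3 : x' • v₁ = v₃ := h.smul_swap hv₂ hv₁ hv₃ h21.symm h32 h31 hxE' hxQ'
    have e2 : x • v₃ = v₂ := h.smul_swap hv₁ hv₃ hv₂ h31 h21 h32.symm hxE hxQ
    have hV₃ := move x' hcx' v₁ v₃ e3 hV₁
    have hV₂ := move x hcx v₃ v₂ e2 hV₃
    -- the centralizer of all of these in `Q_a` is trivial
    let N : Subgroup X :=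
      { carrier := {q | q ∈ vertexQ 2 a ∧ ∀ v, (cosetGraph M₁ M₂).Adj a v → ∀ z ∈ nbrZ v, q * z = z * q}
        one_mem' := ⟨one_mem _, fun v _ z _ => by rw [one_mul, mul_one]⟩
        mul_mem' := fun {q q'} hq hq' => ⟨mul_mem hq.1 hq'.1, fun v hv z hz =>
          Commute.mul_left (hq.2 v hv z hz) (hq'.2 v hv z hz)⟩
        inv_mem' := fun {q} hq => ⟨inv_mem hq.1, fun v hv z hz => Commute.inv_left (hq.2 v hv z hz)⟩ }
    have hgN : g ∈ N := by
      refine ⟨hgQ, fun v hv => ?_⟩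
      by_cases e1 : v = v₁
      · subst e1; exact hV₁
      by_cases e2 : v = v₂
      · subst e2; exact hV₂
      rw [h.toSThreePair.eq_third hv₁ hv₂ hv hv₃ h21.symm e1 e2 h31 h32]
      exact hV₃
    by_contra hg1
    have hNn : MulAction.stabilizer X a ≤ Subgroup.normalizer (N : Set X) :=
      le_normalizer_of_conj fun k hk' q hq => ⟨SThreePair.vertexQ_conj hk' hq.1, fun v hv z hz => by
        have hv' := SThreePair.adj_of_mem_stabilizer (inv_mem hk') hv
        have h1 := h.nbrZ_conj (g := k⁻¹) hz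
        rw [inv_inv] at h1
        have h2 := hq.2 _ hv' _ h1
        calc k * q * k⁻¹ * z = k * (q * (k⁻¹ * z * k)) * k⁻¹ := by group
          _ = k * ((k⁻¹ * z * k) * q) * k⁻¹ := by rw [h2]
          _ = z * (k * q * k⁻¹) := by group⟩
    have hZN := h.normal_meets hk hA (N := N) (fun q hq => hq.1) hNn
      (fun e => hg1 (e ▸ hgN : g ∈ (⊥ : Subgroup X)))
    refine hxQ (h.mem_Q_of_centralizes hA hxE.1 fun z hz => ?_)
    exact ((hZN hz).2 v₁ hv₁ x (le_nbrZ hc₁ hx)).symm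
  have h1 := step v₁ c₁ x hv₁ hc₁ hx hxv (vertexQ 2 a) le_rfl
  have h2 := step v₂ c₂ x' hv₂ hc₂ hx' hxv' C₁ inf_le_left
  rw [hbot, Subgroup.card_bot] at h3
  rw [← hC₁] at h1
  rw [← hC] at h2
  have h5 := h.toSThreePair.card_edge_eq_two_mul hv₁
  omega

end SThreeCentral

end CfsgLib.Amalgam
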