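import Cfsg.Agent.Amalgam.SThreeCentralThree
import Cfsg.Agent.Amalgam.SThreeCentralTwo

/-!
The bound `2 ^ 7` for the edge stabilizers of an amalgam pair of index (3, 3).
-/

set_option autoImplicit false
set_option linter.unusedSectionVars false
open Cfsg
open scoped Pointwise

namespace CfsgLib.Amalgam

variable {X : Type*} [Group X] {M₁ M₂ : Subgroup X}

theorem card_inf_swap (A B : Subgroup X) : Nat.card ↥(A ⊓ B) = Nat.card ↥(B ⊓ A) := by rw [inf_comm]

namespace SThreePair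

variable (h : SThreePair M₁ M₂)

include h

theorem swap : SThreePair M₂ M₁ where
  pair := ⟨sup_comm M₂ M₁ ▸ h.pair.1, h.pair.2.2.1, h.pair.2.1,
    fun N hN hn => h.pair.2.2.2 N (inf_comm M₂ M₁ ▸ hN) hn⟩
  finite₁ := h.finite₂
  finite₂ := h.finite₁
  two := inf_comm M₁ M₂ ▸ h.two
  card₁ := by rw [card_inf_swap M₂ M₁]; exact h.card₂
  card₂ := by rw [card_inf_swap M₂ M₁]; exact h.card₁
  core₁ := h.core₂
  core₂ := h.core₁

theorem card_le_of_not_charP
    (hn : ¬ Subgroup.centralizer (pCore 2 M₁ : Set M₁) ≤ pCore 2 M₁) :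
    Nat.card ↥(M₁ ⊓ M₂) ≤ 16 := by
  have hadj : (cosetGraph M₁ M₂).Adj (base₁ M₁ M₂) (base₂ M₁ M₂) := by
    simpa using adj_smul_base (M₁ := M₁) (M₂ := M₂) (1 : X)
  have hQ : vertexQ 2 (base₁ M₁ M₂) = pCoreOf 2 M₁ := by rw [vertexQ, stabilizer_base₁]
  set N : Subgroup X := M₁ ⊓ Subgroup.centralizer (pCoreOf 2 M₁ : Set X) with hN
  obtain ⟨d, hdN, hd3⟩ := h.exists_order_three (δ := base₁ M₁ M₂) (N := N)
    (by rw [stabilizer_base₁]; exact inf_le_left)
    (fun g hg x hx => by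
      rw [stabilizer_base₁] at hg
      refine ⟨show g * x * g⁻¹ ∈ M₁ from mul_mem (mul_mem hg hx.1) (inv_mem hg),
        Subgroup.mem_centralizer_iff.2 fun q hq => ?_⟩
      have hq' : g⁻¹ * q * g ∈ pCoreOf 2 M₁ := by
        simpa using conj_mem_pCoreOf (H := M₁) (inv_mem hg : g⁻¹ ∈ M₁) hq
      have e : g⁻¹ * q * g * x = x * (g⁻¹ * q * g) := Subgroup.mem_centralizer_iff.1 hx.2 _ hq'
      calc q * (g * x * g⁻¹) = g * (g⁻¹ * q * g * x) * g⁻¹ := by group
        _ = g * x * g⁻¹ * q := by rw [e]; group)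
    (fun hle => hn fun z hz => by
      rw [hQ] at hle
      obtain ⟨y, hy, e⟩ := hle (show (z : X) ∈ N from ⟨z.2, Subgroup.mem_centralizer_iff.2 (by
        rintro _ ⟨y, hy, rfl⟩
        exact congrArg Subtype.val (Subgroup.mem_centralizer_iff.1 hz y hy))⟩)
      exact Subtype.ext e ▸ hy)
  have := h.card_le_of_centralizing hadj (d := d) (by rw [stabilizer_base₁]; exact hdN.1) hd3
    (fun q hq => by
      rw [hQ] at hq
      exact (Subgroup.mem_centralizer_iff.1 hdN.2 q hq).symm)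
  rwa [edgeStabilizer, stabilizer_base₁, stabilizer_base₂] at this

theorem not_both_central
    (c₁ : M₁ ≤ Subgroup.centralizer (omegaCentre 2 (M₁ ⊓ M₂) : Set X))
    (c₂ : M₂ ≤ Subgroup.centralizer (omegaCentre 2 (M₁ ⊓ M₂) : Set X)) : False := by
  have := h.finite₁
  have : Fact (Nat.Prime 2) := ⟨Nat.prime_two⟩
  have : Finite ↥(M₁ ⊓ M₂) :=
    Finite.of_injective (Subgroup.inclusion inf_le_left) (Subgroup.inclusion_injective _)
  have hnt : Nontrivial ↥(M₁ ⊓ M₂) := by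
    rw [← Finite.one_lt_card_iff_nontrivial]
    have h1 := h.core₁
    have h2 := h.card₁
    have : 0 < Nat.card (pCore 2 M₁) := Nat.card_pos
    omega
  have hC := h.two.center_nontrivial
  obtain ⟨z, hz⟩ := exists_prime_orderOf_dvd_card' (G := ↥(Subgroup.center ↥(M₁ ⊓ M₂))) 2 (by
    obtain ⟨k, hk⟩ := IsPGroup.iff_card.1 (h.two.to_subgroup (Subgroup.center _))
    rw [hk]
    rcases k with _ | k
    · exfalso
      have := Finite.one_lt_card_iff_nontrivial.2 hC
      omega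
    · exact dvd_pow_self 2 (Nat.succ_ne_zero k))
  have hzΩ : ((z : ↥(M₁ ⊓ M₂)) : X) ∈ omegaCentre 2 (M₁ ⊓ M₂) := by
    refine Subgroup.subset_closure ⟨⟨(z : ↥(M₁ ⊓ M₂)).2, Subgroup.mem_centralizer_iff.2 fun g hg =>
      congrArg Subtype.val (Subgroup.mem_center_iff.1 z.2 ⟨g, hg⟩)⟩, ?_⟩
    have e : z ^ 2 = 1 := hz ▸ pow_orderOf_eq_one z
    exact congrArg Subtype.val (congrArg Subtype.val e)
  have hle : omegaCentre 2 (M₁ ⊓ M₂) ≤ M₁ ⊓ M₂ :=
    (Subgroup.closure_le _).2 fun x hx => hx.1.1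
  have hcent : ∀ g : X, ∀ x ∈ omegaCentre 2 (M₁ ⊓ M₂), x * g = g * x := fun g x hx => by
    have hg : g ∈ Subgroup.centralizer (omegaCentre 2 (M₁ ⊓ M₂) : Set X) :=
      (sup_le c₁ c₂) (h.pair.1.symm ▸ Subgroup.mem_top g)
    exact Subgroup.mem_centralizer_iff.1 hg x hx
  have hbot := h.pair.2.2.2 _ hle ⟨fun x hx g => by rwa [← hcent g x hx, mul_inv_cancel_right]⟩
  rw [hbot, Subgroup.mem_bot] at hzΩ
  have : z = 1 := Subtype.ext (Subtype.ext hzΩ)
  rw [this, orderOf_one] at hz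
  omega

end SThreePair

theorem SThreeCentral.card_le (h : SThreeCentral M₁ M₂) : Nat.card ↥(M₁ ⊓ M₂) ≤ 128 := by
  have : Fact (Nat.Prime 2) := ⟨Nat.prime_two⟩
  have hadj : (cosetGraph M₁ M₂).Adj (base₁ M₁ M₂) (base₂ M₁ M₂) := by
    simpa using adj_smul_base (M₁ := M₁) (M₂ := M₂) (1 : X)
  have hA : IsA (base₁ M₁ M₂) := rfl
  obtain ⟨b, p, c⟩ := h.exists_aCrit
  have key : Nat.card ↥(edgeStabilizer (base₁ M₁ M₂) (base₂ M₁ M₂)) ≤ 128 := by
    rcases em (Even b) with hb | hb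
    · obtain rfl := h.even_eq_two c hb
      exact le_trans (h.two_bound c (h.even_kone c hb) hA hadj) (by norm_num)
    · obtain ⟨q, P, -⟩ := h.exists_oPath c hb
      have hk := h.odd_kone P
      have hS := h.sumRel hk P
      obtain rfl := h.odd_eq_three hk hS P
      exact h.three_bound hk hS c hA hadj
  rwa [edgeStabilizer, stabilizer_base₁, stabilizer_base₂] at key

theorem SThreePair.card_le (h : SThreePair M₁ M₂) : Nat.card ↥(M₁ ⊓ M₂) ≤ 128 := by
  by_cases p₁ : Subgroup.centralizer (pCore 2 M₁ : Set M₁) ≤ pCore 2 M₁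
  swap
  · exact le_trans (h.card_le_of_not_charP p₁) (by norm_num)
  by_cases p₂ : Subgroup.centralizer (pCore 2 M₂ : Set M₂) ≤ pCore 2 M₂
  swap
  · rw [card_inf_swap]
    exact le_trans (h.swap.card_le_of_not_charP p₂) (by norm_num)
  by_cases a₁ : M₁ ≤ Subgroup.centralizer (omegaCentre 2 (M₁ ⊓ M₂) : Set X)
  · by_cases a₂ : M₂ ≤ Subgroup.centralizer (omegaCentre 2 (M₁ ⊓ M₂) : Set X)
    · exact (h.not_both_central a₁ a₂).elim
    · rw [card_inf_swap]
      exact SThreeCentral.card_le { h.swap with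
        charP₁ := p₂
        charP₂ := p₁
        active₁ := inf_comm M₁ M₂ ▸ a₂
        central₂ := inf_comm M₁ M₂ ▸ a₁ }
  · by_cases a₂ : M₂ ≤ Subgroup.centralizer (omegaCentre 2 (M₁ ⊓ M₂) : Set X)
    · exact SThreeCentral.card_le
        { h with charP₁ := p₁, charP₂ := p₂, active₁ := a₁, central₂ := a₂ }
    · have hh : SThreeActive M₁ M₂ :=
        { h with charP₁ := p₁, charP₂ := p₂, active₁ := a₁, active₂ := a₂ }
      have : Fact (Nat.Prime 2) := ⟨Nat.prime_two⟩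
      have h1 := h.card₁
      rcases hh.groups with ⟨⟨e⟩, -⟩ | ⟨⟨e⟩, -⟩
      · rw [Nat.card_congr e.toEquiv, Nat.card_perm, Nat.card_fin] at h1
        rw [show Nat.factorial 4 = 24 from rfl] at h1
        omega
      · rw [Nat.card_congr e.toEquiv, Nat.card_prod, Nat.card_perm, Nat.card_fin,
          Nat.card_congr (Multiplicative.toAdd (α := ZMod 2)), Nat.card_zmod] at h1
        rw [show Nat.factorial 4 = 24 from rfl] at h1
        omega

end CfsgLib.Amalgam
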