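import Cfsg.Agent.Amalgam.SThreeTools
import Cfsg.Agent.Amalgam.SThreeOne

/-!
Amalgam pairs of index (3, 3) of characteristic 2 in which exactly one side, `M₂`, centralizes
`Ω₁(Z(T))`: the groups `Z` at the two kinds of vertices.
-/

set_option autoImplicit false
set_option linter.unusedSectionVars false
set_option linter.unusedVariables false
open Cfsg
open scoped Pointwise commutatorElement

namespace CfsgLib.Amalgam

variable {X : Type*} [Group X] {M₁ M₂ : Subgroup X}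

/-- An `SThreePair` of characteristic 2 in which `M₂`, but not `M₁`, centralizes `Ω₁(Z(M₁ ⊓ M₂))`. -/
structure SThreeCentral (M₁ M₂ : Subgroup X) : Prop extends SThreePair M₁ M₂ where
  charP₁ : Subgroup.centralizer (pCore 2 M₁ : Set M₁) ≤ pCore 2 M₁
  charP₂ : Subgroup.centralizer (pCore 2 M₂ : Set M₂) ≤ pCore 2 M₂
  active₁ : ¬ M₁ ≤ Subgroup.centralizer (omegaCentre 2 (M₁ ⊓ M₂) : Set X)
  central₂ : M₂ ≤ Subgroup.centralizer (omegaCentre 2 (M₁ ⊓ M₂) : Set X)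

/-- A vertex on the side of `M₁`, which does not centralize `Ω₁(Z(T))`. -/
abbrev IsA (δ : CosetVertex M₁ M₂) : Prop := Sum.isLeft δ = true

/-- A vertex on the side of `M₂`, which centralizes `Ω₁(Z(T))`. -/
abbrev IsB (δ : CosetVertex M₁ M₂) : Prop := Sum.isLeft δ = false

theorem isB_of_adj {δ μ : CosetVertex M₁ M₂} (hμ : (cosetGraph M₁ M₂).Adj δ μ) (hA : IsA δ) :
    IsB μ := by rw [IsB, side_adj hμ, hA]; rfl

theorem isA_of_adj {δ μ : CosetVertex M₁ M₂} (hμ : (cosetGraph M₁ M₂).Adj δ μ) (hB : IsB δ) :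
    IsA μ := by rw [IsA, side_adj hμ, hB]; rfl

theorem smul_mem_stabilizer_conj {g y : X} {δ : CosetVertex M₁ M₂}
    (hy : y ∈ MulAction.stabilizer X δ) : g * y * g⁻¹ ∈ MulAction.stabilizer X (g • δ) :=
  SThreePair.mem_stabilizer_smul_iff.2 (by simpa [mul_assoc] using hy)

theorem mem_edge_symm {δ μ : CosetVertex M₁ M₂} {x : X} (hx : x ∈ edgeStabilizer δ μ) :
    x ∈ edgeStabilizer μ δ := ⟨hx.2, hx.1⟩

theorem isLeft_smul (g : X) (δ : CosetVertex M₁ M₂) : Sum.isLeft (g • δ) = Sum.isLeft δ := by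
  cases δ <;> rfl

namespace SThreeCentral

variable (h : SThreeCentral M₁ M₂)

include h

theorem finite (δ : CosetVertex M₁ M₂) : Finite ↥(MulAction.stabilizer X δ) := h.toSThreePair.finite δ

theorem charP [hp : Fact (Nat.Prime 2)] : IsCharPAmalgamPair 2 M₁ M₂ := by
  have := h.finite₁
  have := h.finite₂
  refine ⟨h.pair, h.finite₁, h.finite₂, ?_, ?_, ?_, h.charP₁, h.charP₂⟩
  · rw [h.core₁]; exact Dvd.dvd.mul_right (by norm_num) _
  · rw [h.core₂]; exact Dvd.dvd.mul_right (by norm_num) _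
  · intro S P₁ P₂
    have : Finite ↥(M₁ ⊓ M₂) :=
      Finite.of_injective (Subgroup.inclusion inf_le_left) (Subgroup.inclusion_injective _)
    obtain ⟨k, hk⟩ := IsPGroup.iff_card.1 h.two
    have hf : ∀ n, (3 * 2 ^ n : ℕ).factorization 2 = n := fun n => by
      rw [Nat.factorization_mul (by omega) (pow_ne_zero _ (by omega)),
        Nat.Prime.factorization_pow Nat.prime_two, Nat.Prime.factorization Nat.prime_three]
      simp
    rw [S.card_eq_multiplicity, P₁.card_eq_multiplicity, P₂.card_eq_multiplicity, h.card₁, h.card₂,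
      hk, hf, Nat.Prime.factorization_pow Nat.prime_two, Finsupp.single_eq_same]
    exact ⟨rfl, rfl⟩

variable [hp : Fact (Nat.Prime 2)]

theorem Z_le_Q (δ : CosetVertex M₁ M₂) : vertexZ 2 δ ≤ vertexQ 2 δ := vertexZ_le_vertexQ h.charP δ

theorem Q_le_stab (δ : CosetVertex M₁ M₂) : vertexQ 2 δ ≤ MulAction.stabilizer X δ :=
  Subgroup.map_subtype_le _

theorem Q_le_edge' {δ μ : CosetVertex M₁ M₂} (hμ : (cosetGraph M₁ M₂).Adj δ μ) {x : X}
    (hx : x ∈ vertexQ 2 δ) : x ∈ edgeStabilizer μ δ :=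
  mem_edge_symm (h.toSThreePair.vertexQ_le_edge hμ hx)

theorem Z_le_edge {δ μ : CosetVertex M₁ M₂} (hμ : (cosetGraph M₁ M₂).Adj δ μ) :
    vertexZ 2 δ ≤ edgeStabilizer δ μ :=
  (h.Z_le_Q δ).trans (h.toSThreePair.vertexQ_le_edge hμ)

theorem Z_commute_Q {δ : CosetVertex M₁ M₂} {z q : X} (hz : z ∈ vertexZ 2 δ)
    (hq : q ∈ vertexQ 2 δ) : q * z = z * q := by
  have hle : vertexZ 2 δ ≤ Subgroup.centralizer (vertexQ 2 δ : Set X) :=
    sylowCenterClosure_le_iff.2 fun T hT x hx =>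
      Subgroup.mem_centralizer_iff.2 fun y hy =>
        Subgroup.mem_centralizer_iff.1 (omegaCentre_le_centralizer T hx).2 y (pCoreOf_le_sylowOf hT hy)
  exact Subgroup.mem_centralizer_iff.1 (hle hz) q hq

theorem Z_comm {δ : CosetVertex M₁ M₂} {a b : X} (ha : a ∈ vertexZ 2 δ) (hb : b ∈ vertexZ 2 δ) :
    a * b = b * a :=
  h.Z_commute_Q hb (h.Z_le_Q δ ha)

theorem Z_sq {δ : CosetVertex M₁ M₂} {z : X} (hz : z ∈ vertexZ 2 δ) : z * z = 1 := by
  let S : Subgroup X :=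
    { carrier := {x | x ∈ vertexZ 2 δ ∧ x * x = 1}
      one_mem' := ⟨one_mem _, one_mul 1⟩
      mul_mem' := fun {a b} ha hb => ⟨mul_mem ha.1 hb.1, by
        rw [mul_assoc, ← mul_assoc b, h.Z_comm hb.1 ha.1, mul_assoc a b b, hb.2, mul_one, ha.2]⟩
      inv_mem' := fun {a} ha => ⟨inv_mem ha.1, by rw [← mul_inv_rev, ha.2, inv_one]⟩ }
  have hle : vertexZ 2 δ ≤ S := sylowCenterClosure_le_iff.2 fun T hT =>
    (Subgroup.closure_le _).2 fun x hx =>
      ⟨le_sylowCenterClosure hT (Subgroup.subset_closure hx), by rw [← sq]; exact hx.2⟩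
  exact (hle hz).2

theorem Z_inv {δ : CosetVertex M₁ M₂} {z : X} (hz : z ∈ vertexZ 2 δ) : z⁻¹ = z :=
  inv_eq_of_mul_eq_one_right (h.Z_sq hz)

theorem Z_conj {δ : CosetVertex M₁ M₂} {g z : X} (hz : z ∈ vertexZ 2 δ) :
    g * z * g⁻¹ ∈ vertexZ 2 (g • δ) :=
  conj_mem_vertexZ h.toSThreePair hz

theorem Z_conj_stab {δ : CosetVertex M₁ M₂} {g z : X} (hg : g ∈ MulAction.stabilizer X δ)
    (hz : z ∈ vertexZ 2 δ) : g * z * g⁻¹ ∈ vertexZ 2 δ := by
  have := h.Z_conj (g := g) hz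
  rwa [MulAction.mem_stabilizer_iff.1 hg] at this

theorem omega_le_Z {δ μ : CosetVertex M₁ M₂} (hμ : (cosetGraph M₁ M₂).Adj δ μ) :
    edgeOmega δ μ ≤ vertexZ 2 δ :=
  le_sylowCenterClosure (h.toSThreePair.edge_sylow hμ)

/-- At a `B`-vertex `v` the group `Ω₁(Z(G_{va}))` is centralized by `G_v`. -/
theorem omega_central {v a : CosetVertex M₁ M₂} (ha : (cosetGraph M₁ M₂).Adj v a) (hB : IsB v)
    {z g : X} (hz : z ∈ edgeOmega v a) (hg : g ∈ MulAction.stabilizer X v) : g * z = z * g := by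
  obtain ⟨x, ⟨rfl, rfl⟩ | ⟨rfl, rfl⟩⟩ := cosetGraph_adj_iff.1 ha
  · rw [IsB, isLeft_smul] at hB
    exact absurd hB (by simp [base₁])
  have hg' : x⁻¹ * g * x ∈ M₂ := by
    have := SThreePair.mem_stabilizer_smul_iff.1 hg
    rwa [stabilizer_base₂] at this
  have hE : edgeStabilizer (x • base₂ M₁ M₂) (x • base₁ M₁ M₂) =
      (M₁ ⊓ M₂).map (MulAut.conj x).toMonoidHom := by
    rw [← map_edge]; simp [edgeStabilizer, stabilizer_base₁, stabilizer_base₂, inf_comm]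
  rw [edgeOmega, hE, ← map_omegaCentre] at hz
  obtain ⟨z, hz, rfl⟩ := hz
  have hc := Subgroup.mem_centralizer_iff.1 (h.central₂ hg') z hz
  show g * (x * z * x⁻¹) = x * z * x⁻¹ * g
  calc g * (x * z * x⁻¹) = x * ((x⁻¹ * g * x) * z) * x⁻¹ := by group
    _ = x * (z * (x⁻¹ * g * x)) * x⁻¹ := by rw [hc]
    _ = x * z * x⁻¹ * g := by group

theorem ZB_eq {v a : CosetVertex M₁ M₂} (ha : (cosetGraph M₁ M₂).Adj v a) (hB : IsB v) :
    vertexZ 2 v = edgeOmega v a := by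
  have := h.finite v
  refine le_antisymm (sylowCenterClosure_le_iff.2 fun T hT => ?_) (h.omega_le_Z ha)
  obtain ⟨g, hg, rfl⟩ := (h.toSThreePair.edge_sylow ha).conj hT
  rw [← map_omegaCentre]
  rintro _ ⟨z, hz, rfl⟩
  show g * z * g⁻¹ ∈ _
  rwa [h.omega_central ha hB hz hg, mul_inv_cancel_right]

theorem ZB_commute {v : CosetVertex M₁ M₂} (hB : IsB v) {z g : X} (hz : z ∈ vertexZ 2 v)
    (hg : g ∈ MulAction.stabilizer X v) : g * z = z * g := by
  obtain ⟨a, ha⟩ : ∃ a, (cosetGraph M₁ M₂).Adj v a := SThreeActive.exists_adj v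
  rw [h.ZB_eq ha hB] at hz
  exact h.omega_central ha hB hz hg

theorem ZB_le {v a : CosetVertex M₁ M₂} (ha : (cosetGraph M₁ M₂).Adj v a) (hB : IsB v) :
    vertexZ 2 v ≤ vertexZ 2 a := by
  rw [h.ZB_eq ha hB, SThreeActive.omega_symm]
  exact h.omega_le_Z ha.symm

theorem edge_ne_bot {δ μ : CosetVertex M₁ M₂} (hμ : (cosetGraph M₁ M₂).Adj δ μ) :
    2 ≤ Nat.card ↥(edgeStabilizer δ μ) := by
  have h1 := h.toSThreePair.card_edge_eq_two_mul hμ
  have := h.toSThreePair.finite_Q δ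
  have : 0 < Nat.card ↥(vertexQ 2 δ) := Nat.card_pos
  omega

theorem exists_omega {δ μ : CosetVertex M₁ M₂} (hμ : (cosetGraph M₁ M₂).Adj δ μ) :
    ∃ z ∈ edgeOmega δ μ, z ≠ 1 := by
  have := h.toSThreePair.finite_edge δ μ
  have hp' := h.toSThreePair.edge_isPGroup hμ
  have : Nontrivial ↥(edgeStabilizer δ μ) :=
    Finite.one_lt_card_iff_nontrivial.1 (h.edge_ne_bot hμ)
  have hnt := hp'.center_nontrivial
  obtain ⟨c, hc⟩ := exists_prime_orderOf_dvd_card' (G := ↥(Subgroup.center ↥(edgeStabilizer δ μ))) 2 (by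
    obtain ⟨k, hk⟩ := IsPGroup.iff_card.1 (hp'.to_subgroup (Subgroup.center _))
    rw [hk]
    cases k with
    | zero =>
      exfalso
      have := Finite.one_lt_card_iff_nontrivial.2 hnt
      omega
    | succ k => exact dvd_pow_self 2 (Nat.succ_ne_zero k))
  refine ⟨((c : ↥(edgeStabilizer δ μ)) : X), Subgroup.subset_closure ⟨⟨(c : ↥(edgeStabilizer δ μ)).2,
    Subgroup.mem_centralizer_iff.2 fun y hy => ?_⟩, ?_⟩, ?_⟩
  · exact congrArg Subtype.val (Subgroup.mem_center_iff.1 c.2 ⟨y, hy⟩)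
  · have := pow_orderOf_eq_one c
    rw [hc] at this
    simpa using congrArg (fun t : ↥(Subgroup.center ↥(edgeStabilizer δ μ)) =>
      ((t : ↥(edgeStabilizer δ μ)) : X)) this
  · intro e
    have : c = 1 := Subtype.ext (Subtype.ext e)
    rw [this, orderOf_one] at hc
    omega

theorem ZB_exists {v : CosetVertex M₁ M₂} (hB : IsB v) : ∃ z ∈ vertexZ 2 v, z ≠ 1 := by
  obtain ⟨a, ha⟩ : ∃ a, (cosetGraph M₁ M₂).Adj v a := SThreeActive.exists_adj v
  obtain ⟨z, hz, hne⟩ := h.exists_omega ha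
  exact ⟨z, h.omega_le_Z ha hz, hne⟩

theorem Q_not_le {δ μ : CosetVertex M₁ M₂} (hμ : (cosetGraph M₁ M₂).Adj δ μ) :
    ¬ vertexQ 2 μ ≤ vertexQ 2 δ := by
  intro hle
  have := h.toSThreePair.finite_Q δ
  have e : vertexQ 2 μ = vertexQ 2 δ :=
    eq_of_le_of_natCard_le hle (h.toSThreePair.card_Q_adj hμ).le
  have hbot : vertexQ 2 δ = ⊥ := by
    refine h.toSThreePair.eq_bot_of_normalized hμ (h.toSThreePair.vertexQ_le_edge hμ) ?_ ?_
    · exact le_normalizer_of_conj fun g hg x hx => SThreePair.vertexQ_conj hg hx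
    · rw [← e]; exact le_normalizer_of_conj fun g hg x hx => SThreePair.vertexQ_conj hg hx
  obtain ⟨z, hz, hne⟩ := h.exists_omega hμ
  have := h.Z_le_Q δ (h.omega_le_Z hμ hz)
  rw [hbot, Subgroup.mem_bot] at this
  exact hne this

theorem not_le_centralizer_omega {a v : CosetVertex M₁ M₂} (hv : (cosetGraph M₁ M₂).Adj a v)
    (hA : IsA a) : ¬ MulAction.stabilizer X a ≤ Subgroup.centralizer (edgeOmega a v : Set X) := by
  obtain ⟨x, ⟨rfl, rfl⟩ | ⟨rfl, rfl⟩⟩ := cosetGraph_adj_iff.1 hv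
  swap
  · rw [IsA, isLeft_smul] at hA
    exact absurd hA (by simp [base₂])
  intro hle
  refine h.active₁ fun m hm => Subgroup.mem_centralizer_iff.2 fun y hy => (MulAut.conj x).injective ?_
  rw [map_mul, map_mul]
  have hm' : MulAut.conj x m ∈ MulAction.stabilizer X (x • base₁ M₁ M₂) := by
    rw [stabilizer_smul_vertex, stabilizer_base₁]
    exact Subgroup.mem_map_of_mem _ hm
  refine Subgroup.mem_centralizer_iff.1 (hle hm') _ ?_
  rw [edgeOmega, show edgeStabilizer (x • base₁ M₁ M₂) (x • base₂ M₁ M₂) =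
      (M₁ ⊓ M₂).map (MulAut.conj x).toMonoidHom by
    rw [← map_edge]; simp [edgeStabilizer, stabilizer_base₁, stabilizer_base₂], ← map_omegaCentre]
  exact Subgroup.mem_map_of_mem (MulAut.conj x).toMonoidHom hy

theorem mem_Q_of_centralizes {a : CosetVertex M₁ M₂} (hA : IsA a) {x : X}
    (hx : x ∈ MulAction.stabilizer X a) (hc : ∀ z ∈ vertexZ 2 a, x * z = z * x) :
    x ∈ vertexQ 2 a := by
  by_contra hxQ
  obtain ⟨v, hv, hxv⟩ : ∃ v, (cosetGraph M₁ M₂).Adj a v ∧ x • v ≠ v := by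
    by_contra hno
    push Not at hno
    refine hxQ (h.toSThreePair.neighbourKernel_eq a ▸ ⟨hx, ?_⟩)
    exact Subgroup.mem_iInf.2 fun μ => Subgroup.mem_iInf.2 fun hμ =>
      MulAction.mem_stabilizer_iff.2 (hno μ hμ)
  refine h.not_le_centralizer_omega hv hA (h.toSThreePair.stab_le_of_edge_le hv ?_ hx hxv ?_)
  · intro y hy
    exact Subgroup.mem_centralizer_iff.2 fun z hz => (SThreeActive.omega_commute hz hy).symm
  · exact Subgroup.mem_centralizer_iff.2 fun z hz => (hc z (h.omega_le_Z hv hz)).symm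

/-- Elements of `Z_a` centralized by an element of `G_{av}` outside `Q_a` lie in `Z_v`. -/
theorem cent_eq {a v : CosetVertex M₁ M₂} (hv : (cosetGraph M₁ M₂).Adj a v) (hA : IsA a) {x z : X}
    (hx : x ∈ edgeStabilizer a v) (hxQ : x ∉ vertexQ 2 a) (hz : z ∈ vertexZ 2 a)
    (hc : x * z = z * x) : z ∈ vertexZ 2 v := by
  refine h.omega_le_Z hv.symm ?_
  rw [SThreeActive.omega_symm]
  refine Subgroup.subset_closure ⟨⟨h.Z_le_edge hv hz, Subgroup.mem_centralizer_iff.2 fun y hy => ?_⟩,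
    by rw [sq]; exact h.Z_sq hz⟩
  by_cases hyQ : y ∈ vertexQ 2 a
  · exact h.Z_commute_Q hz hyQ
  have h1 := h.Z_commute_Q hz (h.toSThreePair.mul_mem_Q hv hy hx hyQ hxQ)
  have h3 : y * z * x = z * y * x := by rw [mul_assoc, ← hc, ← mul_assoc, h1, mul_assoc]
  exact mul_right_cancel h3

/-- Two neighbours of an `A`-vertex have trivially intersecting `Z`. -/
theorem inf_eq {a v w : CosetVertex M₁ M₂} (hv : (cosetGraph M₁ M₂).Adj a v)
    (hw : (cosetGraph M₁ M₂).Adj a w) (hA : IsA a) (hne : v ≠ w) {z : X} (hzv : z ∈ vertexZ 2 v)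
    (hzw : z ∈ vertexZ 2 w) : z = 1 := by
  have hBv := isB_of_adj hv hA
  have hBw := isB_of_adj hw hA
  obtain ⟨x, hx, hxQ⟩ := h.toSThreePair.exists_edge_not_Q hw
  have hca : MulAction.stabilizer X a ≤ Subgroup.centralizer ({z} : Set X) := by
    refine h.toSThreePair.stab_le_of_edge_le hv (fun y hy => ?_) hx.1
      (h.toSThreePair.smul_ne_self hw hv hne hx hxQ) ?_
    · exact Subgroup.mem_centralizer_singleton_iff.2 (h.ZB_commute hBv hzv hy.2)
    · exact Subgroup.mem_centralizer_singleton_iff.2 (h.ZB_commute hBw hzw hx.2)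
  have hn : ∀ δ : CosetVertex M₁ M₂, (∀ g ∈ MulAction.stabilizer X δ, g * z = z * g) →
      MulAction.stabilizer X δ ≤ Subgroup.normalizer (Subgroup.zpowers z : Set X) := by
    intro δ hδ
    refine le_normalizer_of_conj fun g hg y hy => ?_
    obtain ⟨n, rfl⟩ := hy
    exact ⟨n, by rw [((Commute.zpow_right (hδ g hg) n) : g * z ^ n = z ^ n * g),
      mul_inv_cancel_right]⟩
  have := h.toSThreePair.eq_bot_of_normalized hv (N := Subgroup.zpowers z)
    (Subgroup.zpowers_le.2 (mem_edge_symm (h.Z_le_edge hv.symm hzv)))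
    (hn a fun g hg => Subgroup.mem_centralizer_singleton_iff.1 (hca hg))
    (hn v fun g hg => h.ZB_commute hBv hzv hg)
  exact Subgroup.zpowers_eq_bot.1 this

theorem smul_swap {a v w u : CosetVertex M₁ M₂} (hv : (cosetGraph M₁ M₂).Adj a v)
    (hw : (cosetGraph M₁ M₂).Adj a w) (hu : (cosetGraph M₁ M₂).Adj a u) (hwv : w ≠ v) (huv : u ≠ v)
    (huw : u ≠ w) {x : X} (hx : x ∈ edgeStabilizer a v) (hxQ : x ∉ vertexQ 2 a) : x • w = u := by
  refine h.toSThreePair.eq_third hv hw (SThreePair.adj_of_mem_stabilizer hx.1 hw) hu hwv.symm ?_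
    (h.toSThreePair.smul_ne_self hv hw hwv hx hxQ) huv huw
  intro e
  apply hwv
  rw [← MulAction.mem_stabilizer_iff.1 hx.2] at e
  exact MulAction.injective x e

/-- For `x ∈ G_{av} ∖ Q_a` and `z ∈ Z_a`, the commutator `⁅z, x⁆` lies in `Z_v`. -/
theorem comm_mem {a v : CosetVertex M₁ M₂} (hv : (cosetGraph M₁ M₂).Adj a v) (hA : IsA a) {x z : X}
    (hx : x ∈ edgeStabilizer a v) (hz : z ∈ vertexZ 2 a) : ⁅z, x⁆ ∈ vertexZ 2 v := by
  by_cases hxQ : x ∈ vertexQ 2 a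
  · rw [commutatorElement_eq_one_iff_mul_comm.2 (h.Z_commute_Q hz hxQ).symm]
    exact one_mem _
  have hxz : x * z * x⁻¹ ∈ vertexZ 2 a := h.Z_conj_stab hx.1 hz
  have e : ⁅z, x⁆ = z * (x * z * x⁻¹) := by
    rw [commutatorElement_def, show x * z * x⁻¹ = x * z⁻¹ * x⁻¹ by rw [h.Z_inv hz]]; group
  rw [e]
  refine h.cent_eq hv hA hx hxQ (mul_mem hz hxz) ?_
  have hxx : x * x ∈ vertexQ 2 a := h.toSThreePair.mul_mem_Q hv hx hx hxQ hxQ
  have h2 := h.Z_commute_Q hz hxx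
  calc x * (z * (x * z * x⁻¹)) = (x * z * x⁻¹) * ((x * x) * z) * x⁻¹ := by group
    _ = (x * z * x⁻¹) * (z * (x * x)) * x⁻¹ := by rw [h2]
    _ = (x * z * x⁻¹) * z * x := by group
    _ = z * (x * z * x⁻¹) * x := by rw [h.Z_comm hz hxz]

theorem mem_sup_iff_mul {δ : CosetVertex M₁ M₂} {A B : Subgroup X} (hA : A ≤ vertexZ 2 δ)
    (hB : B ≤ vertexZ 2 δ) {z : X} : z ∈ A ⊔ B ↔ ∃ y ∈ A, ∃ w ∈ B, y * w = z := by
  have hnorm : B ≤ Subgroup.normalizer (A : Set X) := le_normalizer_of_conj fun g hg y hy => by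
    rwa [h.Z_comm (hB hg) (hA hy), mul_inv_cancel_right]
  constructor
  · intro hz
    have hz' : z ∈ ((A ⊔ B : Subgroup X) : Set X) := hz
    rw [Subgroup.coe_mul_of_right_le_normalizer_left _ _ hnorm] at hz'
    exact hz'
  · rintro ⟨y, hy, w, hw, rfl⟩
    exact Subgroup.mul_mem_sup hy hw

theorem third_le {a v w u : CosetVertex M₁ M₂} (hv : (cosetGraph M₁ M₂).Adj a v)
    (hw : (cosetGraph M₁ M₂).Adj a w) (hu : (cosetGraph M₁ M₂).Adj a u) (hA : IsA a) (hwv : w ≠ v)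
    (huv : u ≠ v) (huw : u ≠ w) : vertexZ 2 u ≤ vertexZ 2 v ⊔ vertexZ 2 w := by
  intro y hy
  obtain ⟨x, hx, hxQ⟩ := h.toSThreePair.exists_edge_not_Q hv
  have hxu : x • u = w := h.smul_swap hv hu hw huv hwv huw.symm hx hxQ
  have h1 := h.Z_conj (g := x) hy
  rw [hxu] at h1
  have h2 := h.comm_mem hv hA hx (h.ZB_le hu.symm (isB_of_adj hu hA) hy)
  have e : y = ⁅y, x⁆ * (x * y * x⁻¹) := by rw [commutatorElement_def]; group
  rw [e]
  exact Subgroup.mul_mem_sup h2 h1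

theorem ZA_eq_sup {a v w : CosetVertex M₁ M₂} (hv : (cosetGraph M₁ M₂).Adj a v)
    (hw : (cosetGraph M₁ M₂).Adj a w) (hA : IsA a) (hne : v ≠ w) :
    vertexZ 2 a = vertexZ 2 v ⊔ vertexZ 2 w := by
  have := h.finite a
  refine le_antisymm (sylowCenterClosure_le_iff.2 fun T hT => ?_)
    (sup_le (h.ZB_le hv.symm (isB_of_adj hv hA)) (h.ZB_le hw.symm (isB_of_adj hw hA)))
  obtain ⟨g, hg, rfl⟩ := (h.toSThreePair.edge_sylow hv).conj hT
  have hu := SThreePair.adj_of_mem_stabilizer hg hv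
  rw [map_edge, MulAction.mem_stabilizer_iff.1 hg]
  show edgeOmega a (g • v) ≤ _
  rw [SThreeActive.omega_symm, ← h.ZB_eq hu.symm (isB_of_adj hu hA)]
  by_cases e1 : g • v = v
  · rw [e1]; exact le_sup_left
  by_cases e2 : g • v = w
  · rw [e2]; exact le_sup_right
  exact h.third_le hv hw hu hA hne.symm e1 e2

theorem ZA_decomp {a v w : CosetVertex M₁ M₂} (hv : (cosetGraph M₁ M₂).Adj a v)
    (hw : (cosetGraph M₁ M₂).Adj a w) (hA : IsA a) (hne : v ≠ w) {z : X} (hz : z ∈ vertexZ 2 a) :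
    ∃ y ∈ vertexZ 2 v, ∃ y' ∈ vertexZ 2 w, y * y' = z := by
  rw [h.ZA_eq_sup hv hw hA hne] at hz
  exact (h.mem_sup_iff_mul (h.ZB_le hv.symm (isB_of_adj hv hA))
    (h.ZB_le hw.symm (isB_of_adj hw hA))).1 hz

/-- The `Z` of two neighbours of a `B`-vertex differ. -/
theorem Z_nbrs_ne {v u w : CosetVertex M₁ M₂} (hu : (cosetGraph M₁ M₂).Adj v u)
    (hw : (cosetGraph M₁ M₂).Adj v w) (hne : u ≠ w) (hB : IsB v) :
    vertexZ 2 u ≠ vertexZ 2 w := by
  intro e
  obtain ⟨g, hg, hgu⟩ := neighbours_transitive hu hw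
  have hnu : MulAction.stabilizer X u ≤ Subgroup.normalizer (vertexZ 2 u : Set X) :=
    le_normalizer_of_conj fun g hg x hx => h.Z_conj_stab hg hx
  have hgn : g ∈ Subgroup.normalizer (vertexZ 2 u : Set X) := by
    have h1 := map_vertexZ h.toSThreePair g u
    rw [hgu, ← e] at h1
    refine Subgroup.mem_normalizer_iff.2 fun x => ⟨fun hx => ?_, fun hx => ?_⟩
    · exact h1.le ⟨x, hx, rfl⟩
    · obtain ⟨y, hy, hxy⟩ := h1.ge hx
      exact (MulAut.conj g).injective hxy ▸ hy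
  have hbot := h.toSThreePair.eq_bot_of_normalized hu (N := vertexZ 2 u)
    ((h.Z_le_edge hu.symm).trans (fun x hx => mem_edge_symm hx))
    (h.toSThreePair.stab_le_of_edge_le hu (fun x hx => hnu hx.2) hg
      (fun e' => hne (e'.symm.trans hgu)) hgn) hnu
  obtain ⟨z, hz, hne'⟩ := h.exists_omega hu.symm
  have := h.omega_le_Z hu.symm hz
  rw [hbot, Subgroup.mem_bot] at this
  exact hne' this

end SThreeCentral

end CfsgLib.Amalgam
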