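import Cfsg.Agent.Amalgam.SThreeCentralKOne

/-!
Even critical distance: it is 2, and then the edge stabilizers have order at most 64.
-/

set_option autoImplicit false
set_option linter.unusedSectionVars false
set_option linter.unusedVariables false
open Cfsg
open scoped Pointwise commutatorElement

namespace CfsgLib.Amalgam

variable {X : Type*} [Group X] {M₁ M₂ : Subgroup X}

/-- `v` prepended to a path. -/
def pcons (v : CosetVertex M₁ M₂) (p : ℕ → CosetVertex M₁ M₂) : ℕ → CosetVertex M₁ M₂ :=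
  fun i => if i = 0 then v else p (i - 1)

theorem pcons_zero (v : CosetVertex M₁ M₂) (p : ℕ → CosetVertex M₁ M₂) : pcons v p 0 = v := rfl

theorem pcons_succ (v : CosetVertex M₁ M₂) (p : ℕ → CosetVertex M₁ M₂) (i : ℕ) :
    pcons v p (i + 1) = p i := by simp [pcons]

theorem IsPathN.pcons {n : ℕ} {p : ℕ → CosetVertex M₁ M₂} (hp : IsPathN n p) {v : CosetVertex M₁ M₂}
    (hv : (cosetGraph M₁ M₂).Adj v (p 0)) (hne : 1 ≤ n → v ≠ p 1) :
    IsPathN (n + 1) (pcons v p) := hp.cons hv hne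

namespace SThreeCentral

variable (h : SThreeCentral M₁ M₂) [hp : Fact (Nat.Prime 2)]

include h

/-- The first vertices of a critical path of even length. -/
theorem even_facts {b : ℕ} {p : ℕ → CosetVertex M₁ M₂} (c : ACrit b p) (hb : Even b) :
    IsA (p b) ∧ (cosetGraph M₁ M₂).Adj (p b) (p (b - 1)) ∧ IsA (p 0) ∧
      (∃ z ∈ vertexZ 2 (p 0), z ∉ vertexQ 2 (p b)) ∧
      (∃ x ∈ vertexZ 2 (p b), x ∉ vertexQ 2 (p 0)) ∧
      vertexZ 2 (p 0) ≤ edgeStabilizer (p b) (p (b - 1)) ∧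
      vertexZ 2 (p b) ≤ edgeStabilizer (p 0) (p 1) := by
  have hb2 := h.two_le c
  have hP := c.isPath h.pair.1
  have hA : IsA (p b) := by rw [IsA, hP.side b le_rfl, endSide_even hb]; exact c.start
  have hadj : (cosetGraph M₁ M₂).Adj (p b) (p (b - 1)) := by
    have := (c.adj (b - 1) (by omega)).symm
    rwa [show b - 1 + 1 = b by omega] at this
  have hd1 : (cosetGraph M₁ M₂).dist (p 0) (p (b - 1)) < b := by
    have := hP.dist_le' h.pair.1 (Nat.zero_le b) (j := b - 1) (by omega)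
    omega
  have hd2 : (cosetGraph M₁ M₂).dist (p b) (p 1) < b := by
    have := hP.dist_le' h.pair.1 (i := b) le_rfl (j := 1) (by omega)
    omega
  have hz := fun z hz => mem_edge_symm (h.Z_le_edge_of_near c c.start hd1 hadj.symm (x := z) hz)
  obtain ⟨z, hz0, hzQ⟩ := Set.not_subset.1 c.nc
  refine ⟨hA, hadj, c.start, ⟨z, hz0, hzQ⟩, ?_, hz, fun x hx =>
    mem_edge_symm (h.Z_le_edge_of_near c hA hd2 (c.adj 0 (by omega)).symm hx)⟩
  by_contra hno
  push Not at hno
  refine hzQ (h.mem_Q_of_centralizes hA (hz z hz0).1 fun x hx => ?_)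
  exact (h.Z_commute_Q hz0 (hno x hx)).symm

theorem even_kone {b : ℕ} {p : ℕ → CosetVertex M₁ M₂} (c : ACrit b p) (hb : Even b) :
    KOne M₁ M₂ := by
  obtain ⟨hA, hadj, hA0, ⟨z, hz, hzQ⟩, ⟨x, hx, hxQ⟩, hzE, hxE⟩ := h.even_facts c hb
  have hb2 := h.two_le c
  have h01 := c.adj 0 (by omega)
  obtain ⟨w, hw, hne⟩ := h.toSThreePair.exists_other h01
  refine h.kone_of_one (isB_of_adj hw hA0) fun y hy y' hy' hy1 hy1' => ?_
  have hle := h.ZB_le hw.symm (isB_of_adj hw hA0)
  have key : ∀ y ∈ vertexZ 2 w, y ∈ vertexQ 2 (p b) → y = 1 := by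
    intro y hy hyQ
    have hc : x * y = y * x := (h.Z_commute_Q hx hyQ).symm
    exact h.inf_eq h01 hw hA0 hne.symm (h.cent_eq h01 hA0 (hxE hx) hxQ (hle hy) hc) hy
  have hq : y * y' ∈ vertexQ 2 (p b) := h.toSThreePair.mul_mem_Q hadj (hzE (hle hy)) (hzE (hle hy'))
    (fun e => hy1 (key y hy e)) (fun e => hy1' (key y' hy' e))
  have := key _ (mul_mem hy hy') hq
  calc y = y * (y' * y') := by rw [h.Z_sq hy', mul_one]
    _ = y' := by rw [← mul_assoc, this, one_mul]

theorem even_Z1_eq {b : ℕ} {p : ℕ → CosetVertex M₁ M₂} (c : ACrit b p) (hb : Even b) :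
    vertexZ 2 (p 1) = vertexZ 2 (p (b - 1)) := by
  have hk := h.even_kone c hb
  obtain ⟨hA, hadj, hA0, ⟨z, hz, hzQ⟩, ⟨x, hx, hxQ⟩, hzE, hxE⟩ := h.even_facts c hb
  have hb2 := h.two_le c
  have hP := c.isPath h.pair.1
  have h01 := c.adj 0 (by omega)
  have r1 : ⁅z, x⁆ ∈ vertexZ 2 (p 1) := h.comm_mem h01 hA0 (hxE hx) hz
  have r2 : ⁅z, x⁆ ∈ vertexZ 2 (p (b - 1)) := by
    rw [← commutatorElement_inv]
    exact inv_mem (h.comm_mem hadj hA (hzE hz) hx)
  have hne : ⁅z, x⁆ ≠ 1 := by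
    intro e
    have hz1 := h.cent_eq h01 hA0 (hxE hx) hxQ hz (commutatorElement_eq_one_iff_mul_comm.1 e).symm
    have hB1 := isB_of_adj h01 hA0
    have h12 := c.adj 1 (by omega)
    refine hzQ (c.near (p 2) (p b) (isA_of_adj h12 hB1) ?_ (h.ZB_le h12 hB1 hz1))
    have := hP.dist_le' h.pair.1 (i := 2) (j := b) (by omega) le_rfl
    omega
  have key : ∀ u v : CosetVertex M₁ M₂, IsB u → ⁅z, x⁆ ∈ vertexZ 2 u → ⁅z, x⁆ ∈ vertexZ 2 v →
      vertexZ 2 u ≤ vertexZ 2 v := by
    intro u v hu hru hrv y hy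
    by_cases hy1 : y = 1
    · rw [hy1]; exact one_mem _
    · rw [hk u hu y hy _ hru hy1 hne]; exact hrv
  exact le_antisymm (key _ _ (isB_of_adj h01 hA0) r1 r2) (key _ _ (isB_of_adj hadj hA) r2 r1)

theorem even_shift_false {b : ℕ} {p : ℕ → CosetVertex M₁ M₂} (c : ACrit b p) (hb : Even b)
    (hb4 : 4 ≤ b) {w u : CosetVertex M₁ M₂} (hw : (cosetGraph M₁ M₂).Adj w (p 0)) (hw1 : w ≠ p 1)
    (hu : (cosetGraph M₁ M₂).Adj u w) (hu0 : u ≠ p 0)
    (hn : ¬ vertexZ 2 u ≤ vertexQ 2 (p (b - 2))) : False := by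
  have hP := c.isPath h.pair.1
  have hA0 := c.start
  have c' : ACrit b (pcons u (pcons w p)) := by
    have hp1 : IsPathN (b + 1 + 1) (pcons u (pcons w p)) :=
      (hP.pcons hw (fun _ => hw1)).pcons hu (fun _ => by rw [pcons_succ]; exact hu0)
    refine ⟨c.near, isA_of_adj hu.symm (isB_of_adj hw.symm hA0), (hp1.take (by omega)).adj, ?_⟩
    rwa [show b = b - 2 + 1 + 1 by omega, pcons_succ, pcons_succ, pcons_zero]
  have e1 := h.even_Z1_eq c hb
  have e2 := h.even_Z1_eq c' hb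
  rw [show b - 1 = b - 3 + 1 + 1 by omega, pcons_succ, pcons_succ, show (1 : ℕ) = 0 + 1 from rfl,
    pcons_succ, pcons_zero] at e2
  have hA2 : IsA (p (b - 2)) := by
    rw [IsA, hP.side _ (by omega), endSide_even (by
      rw [Nat.even_sub (by omega)]; simp [hb])]
    exact c.start
  have a1 : (cosetGraph M₁ M₂).Adj (p (b - 2)) (p (b - 1)) := by
    have := c.adj (b - 2) (by omega)
    rwa [show b - 2 + 1 = b - 1 by omega] at this
  have a2 : (cosetGraph M₁ M₂).Adj (p (b - 2)) (p (b - 3)) := by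
    have := (c.adj (b - 3) (by omega)).symm
    rwa [show b - 3 + 1 = b - 2 by omega] at this
  refine c.nc ?_
  rw [h.ZA_eq_sup hw.symm (c.adj 0 (by omega)) hA0 hw1, e2, e1]
  refine sup_le ?_ ?_
  · refine (h.ZB_le a2.symm (isB_of_adj a2 hA2)).trans (c.near _ _ hA2 ?_)
    have := hP.dist_le' h.pair.1 (i := b - 2) (j := b) (by omega) le_rfl
    omega
  · refine (h.ZB_le a1.symm (isB_of_adj a1 hA2)).trans (c.near _ _ hA2 ?_)
    have := hP.dist_le' h.pair.1 (i := b - 2) (j := b) (by omega) le_rfl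
    omega

theorem even_eq_two {b : ℕ} {p : ℕ → CosetVertex M₁ M₂} (c : ACrit b p) (hb : Even b) : b = 2 := by
  by_contra hb2'
  have hb2 := h.two_le c
  have hb4 : 4 ≤ b := by obtain ⟨k, rfl⟩ := hb; omega
  obtain ⟨hA, hadj, hA0, ⟨z, hz, hzQ⟩, ⟨x, hx, hxQ⟩, hzE, hxE⟩ := h.even_facts c hb
  have hP := c.isPath h.pair.1
  have h01 := c.adj 0 (by omega)
  obtain ⟨w, hw, hw1⟩ := h.toSThreePair.exists_other h01
  have hBw := isB_of_adj hw hA0
  have hQb2 : ∀ u, (cosetGraph M₁ M₂).Adj w u → vertexZ 2 u ≤ vertexQ 2 (p (b - 2)) := by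
    intro u hu
    by_cases hu0 : u = p 0
    · rw [hu0]
      refine c.near _ _ hA0 ?_
      have := hP.dist_le' h.pair.1 (i := 0) (j := b - 2) (by omega) (by omega)
      omega
    · by_contra hn
      exact h.even_shift_false c hb hb4 hw.symm hw1 hu.symm hu0 hn
  have a1 : (cosetGraph M₁ M₂).Adj (p (b - 2)) (p (b - 1)) := by
    have := c.adj (b - 2) (by omega)
    rwa [show b - 2 + 1 = b - 1 by omega] at this
  have hPw : IsPathN (b + 1) (pcons w p) := hP.pcons hw.symm (fun _ => hw1)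
  by_cases hb1 : ∀ u, (cosetGraph M₁ M₂).Adj w u → vertexZ 2 u ≤ vertexQ 2 (p (b - 1))
  · -- `x` normalizes the group generated by the neighbours of `w`
    set N := Subgroup.normalizer (nbrZ w : Set X) with hN
    have hZ1 : vertexZ 2 (p (b - 1)) ≤ nbrZ w := by
      rw [← h.even_Z1_eq c hb]
      exact (h.ZB_le h01.symm (isB_of_adj h01 hA0)).trans (le_nbrZ hw.symm)
    have hV : nbrZ w ≤ edgeStabilizer (p b) (p (b - 1)) :=
      nbrZ_le fun u hu y hy => h.Q_le_edge' hadj.symm (hb1 u hu hy)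
    have hxc : ∀ y ∈ nbrZ w, x * y * x⁻¹ ∈ nbrZ w := by
      intro y hy
      have h1 := h.comm_mem hadj hA (hV hy) hx
      have e : x * y * x⁻¹ = ⁅x, y⁆ * y := by rw [commutatorElement_def]; group
      rw [e]
      exact mul_mem (hZ1 h1) hy
    have hxN : x ∈ N := by
      refine Subgroup.mem_normalizer_iff.2 fun y => ⟨hxc y, fun hy => ?_⟩
      have := hxc _ hy
      have hxx := h.Z_sq hx
      rw [show x * (x * y * x⁻¹) * x⁻¹ = (x * x) * y * (x * x)⁻¹ by group, hxx] at this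
      simpa using this
    have hG0 : MulAction.stabilizer X (p 0) ≤ N :=
      h.toSThreePair.stab_le_of_edge_le hw (fun g hg => h.stab_le_normalizer_nbrZ w hg.2) (hxE hx).1
        (h.toSThreePair.smul_ne_self h01 hw hw1 (hxE hx) hxQ) hxN
    refine h.nbrZ_ne_bot (h.toSThreePair.eq_bot_of_normalized hw.symm (N := nbrZ w) ?_
      (h.stab_le_normalizer_nbrZ w) hG0)
    refine nbrZ_le fun u hu => (c.near u (p 0) (isA_of_adj hu hBw) ?_).trans
      (fun q hq => h.Q_le_edge' hw hq)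
    have h1 := SimpleGraph.dist_eq_one_iff_adj.2 hu.symm
    have h2 := SimpleGraph.dist_eq_one_iff_adj.2 hw.symm
    have := (connected h.pair.1).dist_triangle (u := u) (v := w) (w := p 0)
    omega
  · -- a mover at a `B`-end
    push Not at hb1
    obtain ⟨u, hu, hnu⟩ := hb1
    obtain ⟨g, hg, hgQ⟩ := Set.not_subset.1 hnu
    have hAu := isA_of_adj hu hBw
    have mB : Mover M₁ M₂ (b - 1) false := by
      refine ⟨p, g, hP.take (by omega), isB_of_adj hadj hA, fun i hi => ?_, hgQ⟩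
      rcases Nat.lt_or_ge i (b - 2) with hlt | hge
      · have hd : (cosetGraph M₁ M₂).dist u (p i) < b := by
          have h1 := SimpleGraph.dist_eq_one_iff_adj.2 hu.symm
          have h2 := hPw.dist_le' h.pair.1 (i := 0) (j := i + 1) (by omega) (by omega)
          rw [pcons_zero, pcons_succ] at h2
          have := (connected h.pair.1).dist_triangle (u := u) (v := w) (w := p i)
          omega
        exact MulAction.mem_stabilizer_iff.1 (h.Q_le_stab _ (c.near u (p i) hAu hd hg))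
      · have he := h.toSThreePair.vertexQ_le_edge a1 (hQb2 u hu hg)
        rcases (show i = b - 2 ∨ i = b - 1 by omega) with rfl | rfl
        · exact MulAction.mem_stabilizer_iff.1 he.1
        · exact MulAction.mem_stabilizer_iff.1 he.2
    have mA : Mover M₁ M₂ b true := by
      refine ⟨p, z, hP, hA, fun i hi => ?_, hzQ⟩
      rcases Nat.lt_or_ge i b with hlt | hge
      · refine MulAction.mem_stabilizer_iff.1 (h.Q_le_stab _ (c.near (p 0) (p i) hA0 ?_ hz))
        have := hP.dist_le' h.pair.1 (i := 0) (j := i) (by omega) (by omega)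
        omega
      · rw [show i = b by omega]
        exact MulAction.mem_stabilizer_iff.1 (hzE hz).1
    have hT := h.toSThreePair.transit_of_movers b (by omega)
      (fun t _ => by cases t; exacts [mB, mA.mono (by omega)]) true
    obtain ⟨u', hu', hu0'⟩ := h.toSThreePair.exists_other hw.symm
    have hp2 : IsPathN (b + 1 + 1) (pcons u' (pcons w p)) :=
      hPw.pcons hu'.symm (fun _ => by rw [pcons_succ]; exact hu0')
    have c' := h.crit_of_transit c hT (hp2.take (by omega)) (isA_of_adj hu' hBw)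
    refine c'.nc ?_
    rw [show b = b - 2 + 1 + 1 by omega, pcons_succ, pcons_succ, pcons_zero]
    exact hQb2 u' hu'

end SThreeCentral

end CfsgLib.Amalgam
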