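import Cfsg.Agent.Amalgam.SThreeCentralPaths
import Cfsg.Agent.PGroup.Normal

/-!
Consequences of `|Z_v| = 2` at the `B`-vertices, and general tools for bounding `Q_a`.
-/

set_option autoImplicit false
set_option linter.unusedSectionVars false
set_option linter.unusedVariables false
open Cfsg
open scoped Pointwise commutatorElement

namespace CfsgLib.Amalgam

variable {X : Type*} [Group X] {M₁ M₂ : Subgroup X}

/-- The `Z` of the `B`-vertices have order at most 2. -/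
def KOne (M₁ M₂ : Subgroup X) : Prop :=
  ∀ v : CosetVertex M₁ M₂, IsB v → ∀ y ∈ vertexZ 2 v, ∀ y' ∈ vertexZ 2 v, y ≠ 1 → y' ≠ 1 → y = y'

/-- The subgroup generated by the `Z` of the neighbours of `v`. -/
def nbrZ (v : CosetVertex M₁ M₂) : Subgroup X :=
  ⨆ (u) (_ : (cosetGraph M₁ M₂).Adj v u), vertexZ 2 u

theorem le_nbrZ {v u : CosetVertex M₁ M₂} (hu : (cosetGraph M₁ M₂).Adj v u) :
    vertexZ 2 u ≤ nbrZ v :=
  le_iSup₂ (f := fun u (_ : (cosetGraph M₁ M₂).Adj v u) => vertexZ 2 u) u hu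

theorem nbrZ_le {v : CosetVertex M₁ M₂} {H : Subgroup X}
    (hle : ∀ u, (cosetGraph M₁ M₂).Adj v u → vertexZ 2 u ≤ H) : nbrZ v ≤ H :=
  iSup₂_le hle

theorem card_le_two_mul {G : Type*} [Group G] (H K : Subgroup G) [Finite H]
    (hm : ∀ a ∈ H, ∀ b ∈ H, a ∉ K → b ∉ K → a * b ∈ K) :
    Nat.card H ≤ 2 * Nat.card ↥(H ⊓ K) := by
  classical
  have : Finite ↥(H ⊓ K) :=
    Finite.of_injective (Subgroup.inclusion (inf_le_left : H ⊓ K ≤ H)) (Subgroup.inclusion_injective _)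
  have hc : Nat.card (↥(H ⊓ K) × Bool) = 2 * Nat.card ↥(H ⊓ K) := by
    rw [Nat.card_prod, mul_comm, Nat.card_eq_fintype_card (α := Bool), Fintype.card_bool]
  rw [← hc]
  by_cases hsub : ∀ a ∈ H, a ∈ K
  · refine Nat.card_le_card_of_injective (fun a : ↥H => ((⟨a, a.2, hsub a a.2⟩ : ↥(H ⊓ K)), true)) ?_
    intro a b e
    exact Subtype.ext (congrArg (fun t => ((t.1 : ↥(H ⊓ K)) : G)) e)
  push Not at hsub
  obtain ⟨a₀, ha₀, ha₀K⟩ := hsub
  refine Nat.card_le_card_of_injective (fun a : ↥H => if h : (a : G) ∈ K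
    then ((⟨a, a.2, h⟩ : ↥(H ⊓ K)), true)
    else ((⟨a * a₀, mul_mem a.2 ha₀, hm a a.2 a₀ ha₀ h ha₀K⟩ : ↥(H ⊓ K)), false)) ?_
  intro a b e
  by_cases ha : (a : G) ∈ K <;> by_cases hb : (b : G) ∈ K <;>
    simp only [dif_pos, dif_neg, ha, hb, not_false_eq_true] at e
  · exact Subtype.ext (congrArg (fun t => ((t.1 : ↥(H ⊓ K)) : G)) e)
  · exact absurd (congrArg Prod.snd e) (by simp)
  · exact absurd (congrArg Prod.snd e) (by simp)
  · exact Subtype.ext (mul_right_cancel (congrArg (fun t => ((t.1 : ↥(H ⊓ K)) : G)) e))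

namespace SThreeCentral

variable (h : SThreeCentral M₁ M₂) [hp : Fact (Nat.Prime 2)]

include h

theorem nbrZ_conj {v : CosetVertex M₁ M₂} {g y : X} (hy : y ∈ nbrZ v) :
    g * y * g⁻¹ ∈ nbrZ (g • v) := by
  have hle : nbrZ v ≤ (nbrZ (g • v)).comap (MulAut.conj g).toMonoidHom :=
    nbrZ_le fun u hu z hz => le_nbrZ (adj_smul g hu) (h.Z_conj hz)
  exact hle hy

theorem stab_le_normalizer_nbrZ (v : CosetVertex M₁ M₂) :
    MulAction.stabilizer X v ≤ Subgroup.normalizer (nbrZ v : Set X) :=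
  le_normalizer_of_conj fun g hg y hy => by
    have := h.nbrZ_conj (g := g) hy
    rwa [MulAction.mem_stabilizer_iff.1 hg] at this

theorem nbrZ_ne_bot {v : CosetVertex M₁ M₂} : nbrZ v ≠ ⊥ := by
  obtain ⟨u, hu⟩ : ∃ u, (cosetGraph M₁ M₂).Adj v u := SThreeActive.exists_adj v
  obtain ⟨z, hz, hne⟩ := h.exists_omega hu.symm
  intro e
  have := le_nbrZ hu (h.omega_le_Z hu.symm hz)
  rw [e, Subgroup.mem_bot] at this
  exact hne this

theorem kone_of_one {v : CosetVertex M₁ M₂} (hB : IsB v)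
    (hv : ∀ y ∈ vertexZ 2 v, ∀ y' ∈ vertexZ 2 v, y ≠ 1 → y' ≠ 1 → y = y') : KOne M₁ M₂ := by
  intro w hw y hy y' hy' hne hne'
  obtain ⟨g, rfl⟩ := exists_smul_of_side (hB.trans hw.symm)
  rw [← map_vertexZ h.toSThreePair] at hy hy'
  obtain ⟨a, ha, rfl⟩ := hy
  obtain ⟨a', ha', rfl⟩ := hy'
  congr 1
  exact hv a ha a' ha' (fun e => hne (by rw [e]; simp)) (fun e => hne' (by rw [e]; simp))

variable (hk : KOne M₁ M₂)

include hk

/-- Two elements of `Z_a ∖ Z_v` differ by an element of `Z_v`. -/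
theorem ZA_coset {a v : CosetVertex M₁ M₂} (hv : (cosetGraph M₁ M₂).Adj a v) (hA : IsA a) {y y' : X}
    (hy : y ∈ vertexZ 2 a) (hy' : y' ∈ vertexZ 2 a) (hn : y ∉ vertexZ 2 v) (hn' : y' ∉ vertexZ 2 v) :
    y * y' ∈ vertexZ 2 v := by
  obtain ⟨w, hw, hne⟩ := h.toSThreePair.exists_other hv
  obtain ⟨α, hα, β, hβ, rfl⟩ := h.ZA_decomp hv hw hA hne.symm hy
  obtain ⟨α', hα', β', hβ', rfl⟩ := h.ZA_decomp hv hw hA hne.symm hy'
  have hβ1 : β ≠ 1 := fun e => hn (by rwa [e, mul_one])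
  have hβ1' : β' ≠ 1 := fun e => hn' (by rwa [e, mul_one])
  have e := hk w (isB_of_adj hw hA) β hβ β' hβ' hβ1 hβ1'
  have hle := h.ZB_le hv.symm (isB_of_adj hv hA)
  have hle' := h.ZB_le hw.symm (isB_of_adj hw hA)
  have : α * β * (α' * β') = α * α' := by
    rw [← e, h.Z_comm (hle hα') (hle' hβ)]
    calc α * β * (β * α') = α * (β * β) * α' := by group
      _ = α * α' := by rw [h.Z_sq (hle' hβ), mul_one]
  rw [this]
  exact mul_mem hα hα'

/-- The `Z` of two neighbours of a `B`-vertex `v` meet in `Z_v`. -/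
theorem nbrs_inf {v u w : CosetVertex M₁ M₂} (hu : (cosetGraph M₁ M₂).Adj v u)
    (hw : (cosetGraph M₁ M₂).Adj v w) (hne : u ≠ w) (hB : IsB v) {y : X} (hyu : y ∈ vertexZ 2 u)
    (hyw : y ∈ vertexZ 2 w) : y ∈ vertexZ 2 v := by
  by_contra hy
  have key : ∀ (s t : CosetVertex M₁ M₂), (cosetGraph M₁ M₂).Adj v s → (cosetGraph M₁ M₂).Adj v t →
      y ∈ vertexZ 2 s → y ∈ vertexZ 2 t → vertexZ 2 s ≤ vertexZ 2 t := by
    intro s t hs ht hys hyt z hz
    by_cases hzv : z ∈ vertexZ 2 v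
    · exact h.ZB_le ht hB hzv
    have := h.ZA_coset hk hs.symm (isA_of_adj hs hB) hz hys hzv hy
    have e : z = (z * y) * y := by rw [mul_assoc, h.Z_sq hys, mul_one]
    rw [e]
    exact mul_mem (h.ZB_le ht hB this) hyt
  exact h.Z_nbrs_ne hu hw hne hB (le_antisymm (key u w hu hw hyu hyw) (key w u hw hu hyw hyu))

omit hk in
theorem exists_mem_notMem {a v : CosetVertex M₁ M₂} (hv : (cosetGraph M₁ M₂).Adj a v) (hA : IsA a) :
    ∃ x ∈ vertexZ 2 a, x ∉ vertexZ 2 v := by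
  obtain ⟨w, hw, hne⟩ := h.toSThreePair.exists_other hv
  obtain ⟨z, hz, hz1⟩ := h.ZB_exists (isB_of_adj hw hA)
  exact ⟨z, h.ZB_le hw.symm (isB_of_adj hw hA) hz, fun hh => hz1 (h.inf_eq hv hw hA hne.symm hh hz)⟩

/-- A non-trivial normal subgroup of `G_a` inside `Q_a` contains `Z_a`. -/
theorem normal_meets {a : CosetVertex M₁ M₂} (hA : IsA a) {N : Subgroup X} (hle : N ≤ vertexQ 2 a)
    (hn : MulAction.stabilizer X a ≤ Subgroup.normalizer (N : Set X)) (hne : N ≠ ⊥) :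
    vertexZ 2 a ≤ N := by
  obtain ⟨v, hv⟩ : ∃ v, (cosetGraph M₁ M₂).Adj a v := SThreeActive.exists_adj a
  have := h.toSThreePair.finite_edge a v
  have hNE : N ≤ edgeStabilizer a v := hle.trans (h.toSThreePair.vertexQ_le_edge hv)
  set T := edgeStabilizer a v with hT
  have hnorm : (N.subgroupOf T).Normal :=
    ⟨fun x hx g => (Subgroup.mem_normalizer_iff.1 (hn g.2.1) x).1 hx⟩
  have hne' : N.subgroupOf T ≠ ⊥ := fun e => hne (eq_bot_iff.2 fun x hx => by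
    have : (⟨x, hNE hx⟩ : ↥T) ∈ N.subgroupOf T := hx
    rw [e, Subgroup.mem_bot] at this
    exact Subgroup.mem_bot.2 (congrArg Subtype.val this))
  have hI := CfsgLib.PGroup.inf_center_ne_bot (h.toSThreePair.edge_isPGroup hv) (N.subgroupOf T) hne'
  obtain ⟨k, hk2⟩ := IsPGroup.iff_card.1
    ((h.toSThreePair.edge_isPGroup hv).to_subgroup (N.subgroupOf T ⊓ Subgroup.center ↥T))
  have hk0 : k ≠ 0 := fun e => hI (Subgroup.eq_bot_of_card_eq _ (by rw [hk2, e, pow_zero]))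
  obtain ⟨c, hc⟩ := exists_prime_orderOf_dvd_card'
    (G := ↥(N.subgroupOf T ⊓ Subgroup.center ↥T)) 2 (hk2 ▸ dvd_pow_self 2 hk0)
  set y : X := ((c : ↥T) : X) with hy
  have hy1 : y ≠ 1 := fun e => by
    have : c = 1 := Subtype.ext (Subtype.ext e)
    rw [this, orderOf_one] at hc
    omega
  have hyΩ : y ∈ edgeOmega a v := by
    refine Subgroup.subset_closure ⟨⟨(c : ↥T).2, Subgroup.mem_centralizer_iff.2 fun g hg => ?_⟩, ?_⟩
    · exact congrArg Subtype.val (Subgroup.mem_center_iff.1 c.2.2 ⟨g, hg⟩)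
    · have := pow_orderOf_eq_one c
      rw [hc] at this
      exact congrArg (fun t : ↥(N.subgroupOf T ⊓ Subgroup.center ↥T) => ((t : ↥T) : X)) this
  have hyv : y ∈ vertexZ 2 v := by
    rw [SThreeActive.omega_symm] at hyΩ
    exact h.omega_le_Z hv.symm hyΩ
  have hvN : vertexZ 2 v ≤ N := fun z hz => by
    by_cases hz1 : z = 1
    · rw [hz1]; exact one_mem _
    · rw [← hk v (isB_of_adj hv hA) y hyv z hz hy1 hz1]
      exact c.2.1
  obtain ⟨w, hw, hwne⟩ := h.toSThreePair.exists_other hv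
  rw [h.ZA_eq_sup hv hw hA hwne.symm]
  refine sup_le hvN fun z hz => ?_
  obtain ⟨g, hg, hgv⟩ := neighbours_transitive hv hw
  rw [← hgv, ← map_vertexZ h.toSThreePair] at hz
  obtain ⟨z, hz, rfl⟩ := hz
  exact (Subgroup.mem_normalizer_iff.1 (hn hg) z).1 (hvN hz)

end SThreeCentral

end CfsgLib.Amalgam
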