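import Cfsg.Agent.Amalgam.SThreeCentralSum

/-!
The critical distance is at most 3 when it is odd.
-/

set_option autoImplicit false
set_option linter.unusedSectionVars false
set_option linter.unusedVariables false
open Cfsg
open scoped Pointwise commutatorElement

namespace CfsgLib.Amalgam

variable {X : Type*} [Group X] {M₁ M₂ : Subgroup X}

namespace SThreeCentral

variable (h : SThreeCentral M₁ M₂) [hp : Fact (Nat.Prime 2)]

include h

variable (hk : KOne M₁ M₂) (hS : SumRel M₁ M₂)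

include hk hS

/-- Two elements of `Z_u ∖ Z_v`, `Z_w ∖ Z_v` multiply into the `Z` of the third, outside `Z_v`. -/
theorem sum_notMem {v u w : CosetVertex M₁ M₂} (hu : (cosetGraph M₁ M₂).Adj v u)
    (hw : (cosetGraph M₁ M₂).Adj v w) (hne : u ≠ w) (hB : IsB v) {s s' : X} (hs : s ∈ vertexZ 2 u)
    (hs' : s' ∈ vertexZ 2 w) (hn : s ∉ vertexZ 2 v) : s * s' ∉ vertexZ 2 v := by
  intro hm
  refine hn (h.nbrs_inf hk hu hw hne hB hs ?_)
  rw [show s = (s * s') * s'⁻¹ by group]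
  exact mul_mem (h.ZB_le hw hB hm) (inv_mem hs')

theorem sum_unbalanced {v a u : CosetVertex M₁ M₂} (hB : IsB v) (ha : (cosetGraph M₁ M₂).Adj v a)
    (hu : (cosetGraph M₁ M₂).Adj v u) (hne : a ≠ u) :
    ∃ q ∈ vertexQ 2 v, q ∈ vertexQ 2 a ∧ q ∉ vertexQ 2 u := by
  by_contra hno
  push Not at hno
  obtain ⟨t, ht, hta, htu⟩ := h.toSThreePair.exists_third ha u
  have conjimp : ∀ (g : X) (x y : CosetVertex M₁ M₂), g • v = v →
      (∀ q ∈ vertexQ 2 v, q ∈ vertexQ 2 x → q ∈ vertexQ 2 y) →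
      ∀ q ∈ vertexQ 2 v, q ∈ vertexQ 2 (g • x) → q ∈ vertexQ 2 (g • y) := by
    intro g x y hgv himp q hq hqx
    rw [← hgv, ← map_vertexQ] at hq
    rw [← map_vertexQ] at hqx
    obtain ⟨q₁, hq₁, rfl⟩ := hq
    obtain ⟨q₂, hq₂, e⟩ := hqx
    rw [(MulAut.conj g).injective e] at hq₂
    rw [← map_vertexQ]
    exact ⟨q₁, himp q₁ hq₁ hq₂, rfl⟩
  obtain ⟨g₁, hg₁, hg₁Q⟩ := h.toSThreePair.exists_edge_not_Q ht
  obtain ⟨g₂, hg₂, hg₂Q⟩ := h.toSThreePair.exists_edge_not_Q ha
  have e1 : g₁ • a = u := h.toSThreePair.swap_any ht ha hu hta.symm htu.symm hne hg₁ hg₁Q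
  have e2 : g₁ • u = a := h.toSThreePair.swap_any ht hu ha htu.symm hta.symm hne.symm hg₁ hg₁Q
  have e3 : g₂ • u = t := h.toSThreePair.swap_any ha hu ht hne.symm hta htu.symm hg₂ hg₂Q
  have hua := conjimp g₁ a u (MulAction.mem_stabilizer_iff.1 hg₁.1) hno
  rw [e1, e2] at hua
  have hat := conjimp g₂ a u (MulAction.mem_stabilizer_iff.1 hg₂.1) hno
  rw [MulAction.mem_stabilizer_iff.1 hg₂.2, e3] at hat
  have hta' := conjimp g₂ u a (MulAction.mem_stabilizer_iff.1 hg₂.1) hua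
  rw [MulAction.mem_stabilizer_iff.1 hg₂.2, e3] at hta'
  obtain ⟨q, hq, hqa⟩ := Set.not_subset.1 (h.Q_not_le ha.symm)
  have hqu : q ∉ vertexQ 2 u := fun hh => hqa (hua q hq hh)
  have hqt : q ∉ vertexQ 2 t := fun hh => hqa (hta' q hq hh)
  have one : ∀ n, (cosetGraph M₁ M₂).Adj v n → q ∉ vertexQ 2 n → ∀ s ∈ vertexZ 2 n, s ∉ vertexZ 2 v →
      q * s * q⁻¹ * s ∈ vertexZ 2 v ∧ q * s * q⁻¹ * s ≠ 1 := by
    intro n hn hqn s hs hsv
    have hA := isA_of_adj hn hB
    have hqE := h.Q_le_edge' hn hq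
    refine ⟨h.ZA_coset hk hn.symm hA (h.Z_conj_stab hqE.1 hs) hs (fun hh => hsv ?_) hsv, fun e => hqn ?_⟩
    · have := h.Z_conj_stab (inv_mem hqE.2) hh
      simpa [mul_assoc] using this
    refine h.mem_Q_of_centralizes hA hqE.1 fun y hy => ?_
    have hqs : q * s = s * q := by
      have e' : q * s * q⁻¹ = s := by rw [eq_inv_of_mul_eq_one_left e, h.Z_inv hs]
      calc q * s = q * s * q⁻¹ * q := by rw [inv_mul_cancel_right]
        _ = s * q := by rw [e']
    by_cases hyv : y ∈ vertexZ 2 v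
    · exact h.ZB_commute hB hyv hqE.2
    rw [show y = (y * s) * s by rw [mul_assoc, h.Z_sq hs, mul_one]]
    exact Commute.mul_right (h.ZB_commute hB (h.ZA_coset hk hn.symm hA hy hs hyv hsv) hqE.2) hqs
  obtain ⟨sa, hsa, hsan⟩ := h.exists_mem_notMem ha.symm (isA_of_adj ha hB)
  obtain ⟨su, hsu, hsun⟩ := h.exists_mem_notMem hu.symm (isA_of_adj hu hB)
  have hst := hS v a u t hB ha hu ht hne hta htu sa hsa su hsu hsan hsun
  have hstn := h.sum_notMem hk hS ha hu hne hB hsa hsu hsan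
  obtain ⟨a1, a2⟩ := one a ha hqa sa hsa hsan
  obtain ⟨u1, u2⟩ := one u hu hqu su hsu hsun
  obtain ⟨-, t2⟩ := one t ht hqt _ hst hstn
  have er := hk v hB _ a1 _ u1 a2 u2
  set r := q * sa * q⁻¹ * sa with hr
  have hrsa : r * sa = sa * r := h.Z_comm (h.ZB_le ha hB a1) hsa
  have ea : q * sa * q⁻¹ = r * sa := by rw [hr, mul_assoc (q * sa * q⁻¹), h.Z_sq hsa, mul_one]
  have eu : q * su * q⁻¹ = r * su := by rw [er, mul_assoc (q * su * q⁻¹), h.Z_sq hsu, mul_one]
  refine t2 ?_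
  calc q * (sa * su) * q⁻¹ * (sa * su) = (q * sa * q⁻¹) * (q * su * q⁻¹) * (sa * su) := by group
    _ = (sa * r) * (r * su) * (sa * su) := by rw [ea, eu, hrsa]
    _ = sa * (r * r) * su * (sa * su) := by group
    _ = (sa * su) * (sa * su) := by rw [h.Z_sq a1, mul_one]
    _ = 1 := h.Z_sq hst

theorem Z1_le {b : ℕ} {p : ℕ → CosetVertex M₁ M₂} (P : OPath b p) (hb : 5 ≤ b) :
    vertexZ 2 (p 1) ≤ vertexZ 2 (p (b - 3)) := by
  obtain ⟨h3, hP, hA0, hB1, hBb, hAe, hAb1, hadj⟩ := h.oPath_facts P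
  obtain ⟨q, Q, hqw, hqw1, hq0, hqj⟩ := h.exists_shift P
  obtain ⟨-, hQ, hQA0, hQB1, hQBb, hQAe, -, hQadj⟩ := h.oPath_facts Q
  have e2 : q 2 = p 0 := hqj 0 (by omega)
  have eb : q (b - 1) = p (b - 3) := by
    have := hqj (b - 3) (by omega)
    rwa [show b - 3 + 2 = b - 1 by omega] at this
  obtain ⟨z, hz, hzQ⟩ := Set.not_subset.1 Q.crit.nc
  obtain ⟨x, hx, hxQ⟩ := Set.not_subset.1 Q.back
  have hxE := (h.oPath_x_edge Q).1 hx
  have hzE := h.odd_z_edge Q.crit Q.odd hz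
  have hzn := h.notMem_of_notMem_Q Q.crit Q.odd hzQ
  have hxn : x ∉ vertexZ 2 (q b) := by
    have := h.notMem_of_notMem_Q (h.oPath_reverse Q).crit Q.odd (y := x)
      (by simpa [show b + 1 - b = 1 by omega] using hxQ)
    simpa [show b + 1 - 1 = b by omega] using this
  have hqne : q 0 ≠ q 2 := (hQ.nb 0 (by omega)).symm
  have h10 : (cosetGraph M₁ M₂).Adj (q 1) (q 0) := (Q.crit.adj 0 (by omega)).symm
  have h12 : (cosetGraph M₁ M₂).Adj (q 1) (q 2) := Q.crit.adj 1 (by omega)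
  have hxmove : x • q 0 ≠ q 0 := h.toSThreePair.smul_ne_self h12 h10 hqne hxE hxQ
  have hzmove : z • q (b + 1) ≠ q (b + 1) := h.toSThreePair.smul_ne_self hQadj Q.adjLast Q.neLast hzE hzQ
  have hz'n : x * z * x⁻¹ ∉ vertexZ 2 (q 1) := by
    intro hh
    refine hzn ?_
    have := h.Z_conj_stab (inv_mem hxE.1) hh
    simpa [mul_assoc] using this
  have hx'n : z * x * z⁻¹ ∉ vertexZ 2 (q b) := by
    intro hh
    refine hxn ?_
    have := h.Z_conj_stab (inv_mem hzE.1) hh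
    simpa [mul_assoc] using this
  set r := z * (x * z * x⁻¹) with hr
  have hr0 : r ∈ vertexZ 2 (p 0) := e2 ▸ hS (q 1) (q 0) (x • q 0) (q 2) hQB1 h10
    (SThreePair.adj_of_mem_stabilizer hxE.1 h10) h12 hxmove.symm hqne.symm
    (fun e => hqne.symm (MulAction.injective x ((MulAction.mem_stabilizer_iff.1 hxE.2).trans e)))
    z hz _ (h.Z_conj hz) hzn hz'n
  have er : r = (z * x * z⁻¹) * x := by rw [hr, h.Z_inv hz, h.Z_inv hx]; group
  have hrb : r ∈ vertexZ 2 (p (b - 3)) := er ▸ eb ▸ hS (q b) (z • q (b + 1)) (q (b + 1)) (q (b - 1))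
    hQBb (SThreePair.adj_of_mem_stabilizer hzE.1 Q.adjLast) Q.adjLast hQadj hzmove
    (fun e => Q.neLast.symm (MulAction.injective z ((MulAction.mem_stabilizer_iff.1 hzE.2).trans e)))
    Q.neLast.symm _ (h.Z_conj hx) x hx hx'n hxn
  have hr1 : r ≠ 1 := fun e => h.sum_notMem hk hS h10 (SThreePair.adj_of_mem_stabilizer hxE.1 h10)
    hxmove.symm hQB1 hz (h.Z_conj hz) hzn (hr ▸ e ▸ one_mem _)
  have hA3 : IsA (p (b - 3)) := by
    rw [IsA, hP.side _ (by omega), endSide_even (by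
      rw [Nat.even_sub (by omega)]; simp [P.odd, show ¬ Even 3 by decide])]
    exact hA0
  have hrQ : r ∈ vertexQ 2 (p b) := by
    refine P.crit.near _ _ hA3 ?_ hrb
    have := hP.dist_le' h.pair.1 (i := b - 3) (j := b) (by omega) (by omega)
    omega
  have hr1' := (h.mem_Qb_iff hk P.crit P.odd hr0).1 hrQ
  intro y hy
  by_cases hy1 : y = 1
  · rw [hy1]; exact one_mem _
  rw [hk _ hB1 y hy r hr1' hy1 hr1]
  exact hrb

theorem odd_lt_seven {b : ℕ} {p : ℕ → CosetVertex M₁ M₂} (P : OPath b p) : b < 7 := by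
  by_contra hb
  push Not at hb
  obtain ⟨h3, hP, hA0, hB1, hBb, hAe, hAb1, hadj⟩ := h.oPath_facts P
  obtain ⟨q, Q, hqw, hqw1, hq0, hqj⟩ := h.exists_shift P
  have h1 := h.Z1_le hk hS P (by omega)
  have h2 := h.Z1_le hk hS Q (by omega)
  have e : q (b - 3) = p (b - 5) := by
    have := hqj (b - 5) (by omega)
    rwa [show b - 5 + 2 = b - 3 by omega] at this
  rw [e] at h2
  have hA3 : IsA (p (b - 3)) := by
    rw [IsA, hP.side _ (by omega), endSide_even (by
      rw [Nat.even_sub (by omega)]; simp [P.odd, show ¬ Even 3 by decide])]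
    exact hA0
  have hA5 : IsA (p (b - 5)) := by
    rw [IsA, hP.side _ (by omega), endSide_even (by
      rw [Nat.even_sub (by omega)]; simp [P.odd, show ¬ Even 5 by decide])]
    exact hA0
  refine P.crit.nc ?_
  rw [h.ZA_eq_sup hqw.symm (P.crit.adj 0 (by omega)) hA0 hqw1]
  refine sup_le (h2.trans (P.crit.near _ _ hA5 ?_)) (h1.trans (P.crit.near _ _ hA3 ?_))
  · have := hP.dist_le' h.pair.1 (i := b - 5) (j := b) (by omega) (by omega)
    omega
  · have := hP.dist_le' h.pair.1 (i := b - 3) (j := b) (by omega) (by omega)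
    omega

theorem transit_five {p : ℕ → CosetVertex M₁ M₂} (P : OPath 5 p) : Transit M₁ M₂ 5 true := by
  obtain ⟨-, hP, hA0, hB1, hBb, hAe, hAb1, hadj⟩ := h.oPath_facts P
  have a23 : (cosetGraph M₁ M₂).Adj (p 2) (p 3) := P.crit.adj 2 (by omega)
  have a34 : (cosetGraph M₁ M₂).Adj (p 3) (p 4) := P.crit.adj 3 (by omega)
  have hB3 : IsB (p 3) := by rw [IsB, hP.side 3 (by omega), endSide_odd (by decide)]; simp [show Sum.isLeft (p 0) = true from hA0]
  obtain ⟨q, hq3, hq2, hq4⟩ := h.sum_unbalanced hk hS hB3 a23.symm a34 ((hP.nb 2 (by omega)).symm)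
  have mA : Mover M₁ M₂ 3 true := by
    refine ⟨fun i => p (i + 1), q, hP.tail (k := 1) (by omega), hAb1, fun i hi => ?_, hq4⟩
    show q • p (i + 1) = p (i + 1)
    have e1 := h.toSThreePair.vertexQ_le_edge (P.crit.adj 1 (by omega)).symm hq2
    have e3 := h.toSThreePair.vertexQ_le_edge a34 hq3
    rcases (show i = 0 ∨ i = 1 ∨ i = 2 ∨ i = 3 by omega) with rfl | rfl | rfl | rfl
    exacts [MulAction.mem_stabilizer_iff.1 e1.2, MulAction.mem_stabilizer_iff.1 e1.1,
      MulAction.mem_stabilizer_iff.1 e3.1, MulAction.mem_stabilizer_iff.1 e3.2]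
  have mB := h.odd_mover_B P.crit P.odd
  have h4 : Transit M₁ M₂ 4 false := h.toSThreePair.transit_of_movers 4 (by omega)
    (fun t _ => by cases t; exacts [mB.mono (by omega), mA]) false
  have h5 : Transit M₁ M₂ 5 false := h.toSThreePair.transit_succ (by omega) h4
    (by rw [endSide_even (by decide)]; exact mB.mono (by omega))
  have := h5.reverse
  rwa [endSide_odd (by decide)] at this

theorem odd_ne_five {p : ℕ → CosetVertex M₁ M₂} (P : OPath 5 p) : False := by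
  have hT := h.transit_five hk hS P
  obtain ⟨-, hP, hA0, hB1, hB5, hA6, hA4, hadj⟩ := h.oPath_facts P
  have hP' := P.crit.isPath h.pair.1
  have a01 : (cosetGraph M₁ M₂).Adj (p 0) (p 1) := P.crit.adj 0 (by omega)
  have a12 : (cosetGraph M₁ M₂).Adj (p 1) (p 2) := P.crit.adj 1 (by omega)
  have a23 : (cosetGraph M₁ M₂).Adj (p 2) (p 3) := P.crit.adj 2 (by omega)
  have a34 : (cosetGraph M₁ M₂).Adj (p 3) (p 4) := P.crit.adj 3 (by omega)
  have a45 : (cosetGraph M₁ M₂).Adj (p 4) (p 5) := P.crit.adj 4 (by omega)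
  have a56 : (cosetGraph M₁ M₂).Adj (p 5) (p 6) := P.adjLast
  have hA2 := isA_of_adj a12 hB1
  have hB3 := isB_of_adj a23 hA2
  have n42 : p 4 ≠ p 2 := hP.nb 2 (by omega)
  have n64 : p 6 ≠ p 4 := hP.nb 4 (by omega)
  have n20 : p 2 ≠ p 0 := hP.nb 0 (by omega)
  have hd : ∀ i j, i ≤ 6 → j ≤ 6 → (cosetGraph M₁ M₂).dist (p i) (p j) ≤ (j - i) + (i - j) :=
    fun i j hi hj => hP.dist_le' h.pair.1 hi hj
  obtain ⟨z, hz, hzQ⟩ := Set.not_subset.1 P.crit.nc
  obtain ⟨x, hx, hxQ⟩ := Set.not_subset.1 P.back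
  obtain ⟨hxE', hxQ2'⟩ := h.oPath_x_edge P
  have hxE : x ∈ edgeStabilizer (p 1) (p 2) := hxE' hx
  have hzE : z ∈ edgeStabilizer (p 5) (p 4) := h.odd_z_edge P.crit P.odd hz
  have hzn := h.notMem_of_notMem_Q P.crit P.odd hzQ
  have hxn : x ∉ vertexZ 2 (p 5) := by
    have := h.notMem_of_notMem_Q (h.oPath_reverse P).crit P.odd (y := x) (by simpa using hxQ)
    simpa using this
  -- `r = ⁅z, x⁆` generates `Z_3`
  have hxmove : x • p 0 ≠ p 0 := h.toSThreePair.smul_ne_self a12 a01.symm n20.symm hxE hxQ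
  have hzmove : z • p 6 ≠ p 6 := h.toSThreePair.smul_ne_self a45.symm a56 n64 hzE hzQ
  have hz'n : x * z * x⁻¹ ∉ vertexZ 2 (p 1) := fun hh => hzn (by
    have := h.Z_conj_stab (inv_mem hxE.1) hh
    simpa [mul_assoc] using this)
  have hx'n : z * x * z⁻¹ ∉ vertexZ 2 (p 5) := fun hh => hxn (by
    have := h.Z_conj_stab (inv_mem hzE.1) hh
    simpa [mul_assoc] using this)
  set r := z * (x * z * x⁻¹) with hr
  have hr2 : r ∈ vertexZ 2 (p 2) := hS (p 1) (p 0) (x • p 0) (p 2) hB1 a01.symm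
    (SThreePair.adj_of_mem_stabilizer hxE.1 a01.symm) a12 hxmove.symm n20
    (fun e => n20 (MulAction.injective x ((MulAction.mem_stabilizer_iff.1 hxE.2).trans e)))
    z hz _ (h.Z_conj hz) hzn hz'n
  have er : r = (z * x * z⁻¹) * x := by rw [hr, h.Z_inv hz, h.Z_inv hx]; group
  have hr4 : r ∈ vertexZ 2 (p 4) := er ▸ hS (p 5) (z • p 6) (p 6) (p 4) hB5
    (SThreePair.adj_of_mem_stabilizer hzE.1 a56) a56 a45.symm hzmove
    (fun e => n64.symm (MulAction.injective z ((MulAction.mem_stabilizer_iff.1 hzE.2).trans e)))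
    n64.symm _ (h.Z_conj hx) x hx hx'n hxn
  have hr1 : r ≠ 1 := fun e => h.sum_notMem hk hS a01.symm
    (SThreePair.adj_of_mem_stabilizer hxE.1 a01.symm) hxmove.symm hB1 hz (h.Z_conj hz) hzn
    (hr ▸ e ▸ one_mem _)
  have hr3 : r ∈ vertexZ 2 (p 3) := h.nbrs_inf hk a34 a23.symm n42 hB3 hr4 hr2
  -- an element of `Z` moving `p 4`
  obtain ⟨w, hw, hw1⟩ := h.toSThreePair.exists_other a01
  have hBw := isB_of_adj hw hA0
  obtain ⟨u, hu, hu0⟩ := h.toSThreePair.exists_other hw.symm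
  have hAu := isA_of_adj hu hBw
  have hpu : IsPathN (5 + 1 + 1) (pcons u (pcons w p)) :=
    (hP'.pcons hw.symm (fun _ => hw1)).pcons hu.symm (fun _ => by rw [pcons_succ]; exact hu0)
  have cu := h.crit_of_transit P.crit hT (hpu.take (by omega)) hAu
  obtain ⟨g, hg, hgQ'⟩ := Set.not_subset.1 cu.nc
  replace hg : g ∈ vertexZ 2 u := hg
  have hgQ : g ∉ vertexQ 2 (p 3) := by
    have e : pcons u (pcons w p) 5 = p 3 := by
      rw [show (5 : ℕ) = 3 + 1 + 1 from rfl, pcons_succ, pcons_succ]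
    rwa [e] at hgQ'
  have hdu : ∀ i, i ≤ 6 → (cosetGraph M₁ M₂).dist u (p i) ≤ i + 2 := by
    intro i hi
    have h1 := SimpleGraph.dist_eq_one_iff_adj.2 hu.symm
    have h2 := SimpleGraph.dist_eq_one_iff_adj.2 hw.symm
    have h3 := hd 0 i (by omega) hi
    have t1 := (connected h.pair.1).dist_triangle (u := u) (v := w) (w := p i)
    have t2 := (connected h.pair.1).dist_triangle (u := w) (v := p 0) (w := p i)
    omega
  have hg32 : g ∈ edgeStabilizer (p 3) (p 2) :=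
    mem_edge_symm (h.Z_le_edge_of_near P.crit hAu (by have := hdu 2 (by omega); omega) a23 hg)
  have hg12 : g ∈ edgeStabilizer (p 1) (p 2) :=
    h.Z_le_edge_of_near P.crit hAu (by have := hdu 1 (by omega); omega) a12 hg
  have hgz : g * z = z * g := h.Z_commute_Q hz (P.crit.near u (p 0) hAu (by have := hdu 0 (by omega); omega) hg)
  have hgi : g⁻¹ = g := h.Z_inv hg
  have hgg := h.Z_sq hg
  set c := g • p 4 with hc
  have hc3 : (cosetGraph M₁ M₂).Adj (p 3) c := SThreePair.adj_of_mem_stabilizer hg32.1 a34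
  have hc4 : c ≠ p 4 := h.toSThreePair.smul_ne_self a23.symm a34 n42 hg32 hgQ
  have hAc : IsA c := isA_of_adj hc3 hB3
  have ac5 : (cosetGraph M₁ M₂).Adj c (g • p 5) := adj_smul g a45
  have a56' : (cosetGraph M₁ M₂).Adj (g • p 5) (g • p 6) := adj_smul g a56
  have nc3 : g • p 5 ≠ p 3 := fun e => hP.nb 3 (by omega) (MulAction.injective g
    (e.trans (MulAction.mem_stabilizer_iff.1 hg32.1).symm))
  have n6c : g • p 6 ≠ c := fun e => n64 (MulAction.injective g e)
  set x' := g * x * g⁻¹ with hx'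
  have hx'Z : x' ∈ vertexZ 2 (g • p 6) := h.Z_conj hx
  have hx'n5 : x' ∉ vertexZ 2 (g • p 5) := fun hh => hxn (by
    rw [← map_vertexZ h.toSThreePair] at hh
    obtain ⟨y, hy, e⟩ := hh
    exact (MulAut.conj g).injective e ▸ hy)
  have hA6' : IsA (g • p 6) := by rw [IsA, isLeft_smul]; exact hA6
  have hqc : IsPathN 5 (pcons (g • p 6) (pcons (g • p 5) (pcons c (fun i => p (i + 3))))) :=
    ((((hP.tail (k := 3) (m := 2) (by omega))).pcons hc3.symm (fun _ => hc4)).pcons ac5.symm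
      (fun _ => by rw [pcons_succ]; exact nc3)).pcons a56'.symm (fun _ => by rw [pcons_succ]; exact n6c)
  have cx' := h.crit_of_transit P.crit hT hqc hA6'
  have hx'Q : x' ∉ vertexQ 2 (p 5) := fun hh => hx'n5 ((h.mem_Qb_iff hk cx' P.odd hx'Z).1 hh)
  have hd6c : (cosetGraph M₁ M₂).dist (p 6) c < 5 := by
    have h1 := SimpleGraph.dist_eq_one_iff_adj.2 hc3
    have h2 := hd 6 3 le_rfl (by omega)
    have := (connected h.pair.1).dist_triangle (u := p 6) (v := p 3) (w := c)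
    omega
  have hd64 : (cosetGraph M₁ M₂).dist (g • p 6) (p 4) < 5 := by
    have h1 := SimpleGraph.dist_eq_one_iff_adj.2 a34
    have h2 : (cosetGraph M₁ M₂).dist (g • p 6) (g • p 3) ≤ 3 := by
      have := (hP.smul g).dist_le' h.pair.1 (i := 6) (j := 3) le_rfl (by omega)
      omega
    rw [MulAction.mem_stabilizer_iff.1 hg32.1] at h2
    have := (connected h.pair.1).dist_triangle (u := g • p 6) (v := p 3) (w := p 4)
    omega
  have hx'54 : x' ∈ edgeStabilizer (p 5) (p 4) :=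
    mem_edge_symm (h.Z_le_edge_of_near P.crit hA6' hd64 a45 hx'Z)
  have hxc : x ∈ edgeStabilizer c (g • p 5) := h.Z_le_edge_of_near P.crit hA6 hd6c ac5 hx
  have hqx : IsPathN 5 (pcons (p 6) (pcons (p 5) (pcons (p 4) (pcons (p 3) (pcons c (fun _ => g • p 5)))))) :=
    ((((((⟨fun i hi => absurd hi (by omega), fun i hi => by omega⟩ :
      IsPathN 0 (fun _ : ℕ => g • p 5)).pcons ac5 (fun h1 => by omega)).pcons hc3
      (fun _ => by rw [pcons_succ]; exact nc3.symm)).pcons a34.symm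
      (fun _ => by rw [pcons_succ]; exact hc4.symm)).pcons a45.symm
      (fun _ => by rw [pcons_succ]; exact hP.nb 3 (by omega))).pcons a56.symm
      (fun _ => by rw [pcons_succ]; exact n64))
  have cx := h.crit_of_transit P.crit hT hqx hA6
  have hxQ5' : x ∉ vertexQ 2 (g • p 5) := fun hh => hxn ((h.mem_Qb_iff hk cx P.odd hx).1 hh)
  have hx'move : x' • p 6 ≠ p 6 := h.toSThreePair.smul_ne_self a45.symm a56 n64 hx'54 hx'Q
  have hxmove' : x • g • p 6 ≠ g • p 6 :=
    h.toSThreePair.smul_ne_self ac5.symm a56' n6c (mem_edge_symm hxc) hxQ5'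
  have hB5' : IsB (g • p 5) := by rw [IsB, isLeft_smul]; exact hB5
  have hx'xn : x' * x * x'⁻¹ ∉ vertexZ 2 (p 5) := fun hh => hxn (by
    have := h.Z_conj_stab (inv_mem hx'54.1) hh
    simpa [mul_assoc] using this)
  have hxx'n : x * x' * x⁻¹ ∉ vertexZ 2 (g • p 5) := fun hh => hx'n5 (by
    have := h.Z_conj_stab (inv_mem hxc.2) hh
    simpa [mul_assoc] using this)
  set r' := x' * (x * x' * x⁻¹) with hr'
  have hr'c : r' ∈ vertexZ 2 c := hS (g • p 5) (g • p 6) (x • g • p 6) c hB5' a56'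
    (SThreePair.adj_of_mem_stabilizer hxc.2 a56') ac5.symm hxmove'.symm n6c.symm
    (fun e => n6c.symm (MulAction.injective x ((MulAction.mem_stabilizer_iff.1 hxc.1).trans e)))
    x' hx'Z _ (h.Z_conj hx'Z) hx'n5 hxx'n
  have er' : r' = (x' * x * x'⁻¹) * x := by rw [hr', h.Z_inv hx'Z, h.Z_inv hx]; group
  have hr'4 : r' ∈ vertexZ 2 (p 4) := er' ▸ hS (p 5) (x' • p 6) (p 6) (p 4) hB5
    (SThreePair.adj_of_mem_stabilizer hx'54.1 a56) a56 a45.symm hx'move
    (fun e => n64.symm (MulAction.injective x' ((MulAction.mem_stabilizer_iff.1 hx'54.2).trans e)))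
    n64.symm _ (h.Z_conj hx) x hx hx'xn hxn
  have hr'1 : r' ≠ 1 := fun e => h.sum_notMem hk hS (SThreePair.adj_of_mem_stabilizer hx'54.1 a56) a56
    hx'move hB5 (h.Z_conj hx) hx hx'xn (er' ▸ e ▸ one_mem _)
  have hrr : r' = r := hk _ hB3 r' (h.nbrs_inf hk hc3 a34 hc4 hB3 hr'c hr'4) r hr3 hr'1 hr1
  -- `m = z * x * x'` commutes with `z` and is moved by `g` to `m * r`
  have hx3 : x ∈ MulAction.stabilizer X (p 3) := h.Q_le_stab _
    (P.crit.near (p 6) (p 3) hA6 (by have := hd 6 3 le_rfl (by omega); omega) hx)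
  have hx'3 : x' ∈ MulAction.stabilizer X (p 3) := by
    have := smul_mem_stabilizer_conj (g := g) hx3
    rwa [MulAction.mem_stabilizer_iff.1 hg32.1] at this
  have hrx : x * r = r * x := h.ZB_commute hB3 hr3 hx3
  have hrx' : x' * r = r * x' := h.ZB_commute hB3 hr3 hx'3
  have hrg : g * r = r * g := h.ZB_commute hB3 hr3 hg32.1
  have hrz : z * r = r * z := h.Z_commute_Q hr2
    (P.crit.near (p 0) (p 2) hA0 (by have := hd 0 2 (by omega) (by omega); omega) hz)
  have hzi := h.Z_inv hz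
  have hxi := h.Z_inv hx
  have hx'i := h.Z_inv hx'Z
  have hrq := h.Z_sq hr3
  have e1 : z * x * z = r * x := by
    rw [er, hzi]
    calc z * x * z = z * x * z * (x * x) := by rw [h.Z_sq hx, mul_one]
      _ = _ := by group
  have e2 : z * x' * z = r * x' := by
    calc z * x' * z = g * (z * x * z) * g⁻¹ := by
          rw [hx']
          calc z * (g * x * g⁻¹) * z = z * g * x * (g⁻¹ * z) := by group
            _ = g * z * x * (z * g⁻¹) := by rw [hgz, hgi, hgz]
            _ = _ := by group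
      _ = (g * r) * x * g⁻¹ := by rw [e1]; group
      _ = r * x' := by rw [hrg, hx']; group
  have e3 : x' * x = x * x' * r := by
    have h1 : x' * x * x' * x = r := by rw [← hrr, er', hx'i]
    calc x' * x = (x' * x * x' * x) * (x⁻¹ * x'⁻¹) := by group
      _ = r * (x * x') := by rw [h1, hxi, hx'i]
      _ = x * x' * r := (Commute.mul_left hrx hrx').eq.symm
  set m := z * x * x' with hm
  have hmz : m * z = z * m := by
    calc m * z = (z * x * z) * (z * x' * z) := by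
          calc m * z = z * x * (z * z) * (x' * z) := by rw [hm, h.Z_sq hz, mul_one]; group
            _ = _ := by group
      _ = (r * x) * (r * x') := by rw [e1, e2]
      _ = x * (r * r) * x' := by rw [← hrx]; group
      _ = x * x' := by rw [hrq, mul_one]
      _ = (z * z) * (x * x') := by rw [h.Z_sq hz, one_mul]
      _ = z * m := by rw [hm]; group
  have hgm : g * m * g⁻¹ = m * r := by
    calc g * m * g⁻¹ = (g * z) * g⁻¹ * (g * x * g⁻¹) * (g * x' * g⁻¹) := by rw [hm]; group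
      _ = z * x' * (g * x' * g⁻¹) := by rw [hgz, mul_inv_cancel_right, hx']
      _ = z * x' * ((g * g) * x * (g * g)⁻¹) := by rw [hx']; group
      _ = z * (x' * x) := by rw [hgg]; group
      _ = m * r := by rw [e3, hm]; group
  have hx'1 : x' ∈ edgeStabilizer (p 1) (p 2) := by
    have := conj_mem_edge (g := g) hxE
    rwa [MulAction.mem_stabilizer_iff.1 hg12.1, MulAction.mem_stabilizer_iff.1 hg12.2] at this
  have hx'Q1 : x' ∉ vertexQ 2 (p 1) := by
    rw [show p 1 = g • p 1 from (MulAction.mem_stabilizer_iff.1 hg12.1).symm, ← map_vertexQ]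
    rintro ⟨y, hy, e⟩
    exact hxQ ((MulAut.conj g).injective e ▸ hy)
  have hxx'Q := h.toSThreePair.mul_mem_Q a12 hxE hx'1 hxQ hx'Q1
  have hz0 : z ∈ MulAction.stabilizer X (p 0) := h.Q_le_stab _ (h.Z_le_Q _ hz)
  have hm0 : m ∈ MulAction.stabilizer X (p 0) := by
    rw [hm, mul_assoc]
    exact mul_mem hz0 (h.toSThreePair.vertexQ_le_edge a01.symm hxx'Q).2
  have hm1 : m ∈ MulAction.stabilizer X (p 1) := by
    rw [hm]
    exact mul_mem (mul_mem (h.Z_le_edge a01 hz).2 hxE.1) hx'1.1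
  have hmQ : m ∈ vertexQ 2 (p 0) := h.mem_Q_of_centralizes hA0 hm0 fun y hy => by
    by_cases hy1 : y ∈ vertexZ 2 (p 1)
    · exact h.ZB_commute hB1 hy1 hm1
    rw [show y = (y * z) * z by rw [mul_assoc, h.Z_sq hz, mul_one]]
    exact Commute.mul_right (h.ZB_commute hB1 (h.ZA_coset hk a01 hA0 hy hz hy1 hzn) hm1) hmz
  have hmw : m ∈ MulAction.stabilizer X w := (h.Q_le_edge' hw hmQ).1
  have hgn : g ∉ vertexZ 2 w := by
    have := h.notMem_of_notMem_Q cu P.odd (y := g) hgQ'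
    rwa [show (1 : ℕ) = 0 + 1 from rfl, pcons_succ, pcons_zero] at this
  have hmgn : m * g * m⁻¹ ∉ vertexZ 2 w := fun hh => hgn (by
    have := h.Z_conj_stab (inv_mem hmw) hh
    simpa [mul_assoc] using this)
  have hg0 : g * (m * g * m⁻¹) ∈ vertexZ 2 (p 0) := by
    by_cases e : m • u = u
    · have h1 := h.Z_conj (g := m) hg
      rw [e] at h1
      exact h.ZB_le hw.symm hBw (h.ZA_coset hk hu.symm hAu hg h1 hgn hmgn)
    · exact hS w u (m • u) (p 0) hBw hu (SThreePair.adj_of_mem_stabilizer hmw hu) hw.symm (Ne.symm e)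
        hu0.symm (fun e' => hu0.symm (MulAction.injective m
          ((MulAction.mem_stabilizer_iff.1 hm0).trans e')))
        g hg _ (h.Z_conj hg) hgn hmgn
  have er0 : g * (m * g * m⁻¹) = r := by
    calc g * (m * g * m⁻¹) = (g * m * g⁻¹) * (g * g) * m⁻¹ := by group
      _ = m * r * m⁻¹ := by rw [hgg, mul_one, hgm]
      _ = r := by
        have : Commute m r := Commute.mul_left (Commute.mul_left hrz hrx) hrx'
        rw [this.eq, mul_inv_cancel_right]
  rw [er0] at hg0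
  have hr1' := h.nbrs_inf hk a12 a01.symm n20 hB1 hr2 hg0
  exact hr1 (h.inf_eq a12.symm a23 hA2 (hP.nb 1 (by omega)).symm hr1' hr3)

theorem odd_eq_three {b : ℕ} {p : ℕ → CosetVertex M₁ M₂} (P : OPath b p) : b = 3 := by
  have h3 := h.odd_three_le P.crit P.odd
  have h7 := h.odd_lt_seven hk hS P
  rcases (show b = 3 ∨ b = 4 ∨ b = 5 ∨ b = 6 by omega) with rfl | rfl | rfl | rfl
  · rfl
  · exact absurd ⟨2, rfl⟩ P.odd
  · exact (h.odd_ne_five hk hS P).elim
  · exact absurd ⟨3, rfl⟩ P.odd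

end SThreeCentral

end CfsgLib.Amalgam
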