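import Cfsg.Agent.Amalgam.SThreeCentralEven

/-!
Odd critical distance: the symmetric configuration, and `|Z_v| = 2` at the `B`-vertices.
-/

set_option autoImplicit false
set_option linter.unusedSectionVars false
set_option linter.unusedVariables false
open Cfsg
open scoped Pointwise commutatorElement

namespace CfsgLib.Amalgam

variable {X : Type*} [Group X] {M₁ M₂ : Subgroup X}

/-- A critical path of odd length `b`, prolonged by a vertex whose `Z` is not in `Q` of the second vertex. -/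
structure OPath (b : ℕ) (p : ℕ → CosetVertex M₁ M₂) : Prop where
  crit : ACrit b p
  odd : ¬ Even b
  adjLast : (cosetGraph M₁ M₂).Adj (p b) (p (b + 1))
  neLast : p (b + 1) ≠ p (b - 1)
  back : ¬ vertexZ 2 (p (b + 1)) ≤ vertexQ 2 (p 1)

namespace SThreeCentral

variable (h : SThreeCentral M₁ M₂) [hp : Fact (Nat.Prime 2)]

include h

theorem odd_three_le {b : ℕ} {p : ℕ → CosetVertex M₁ M₂} (c : ACrit b p) (hb : ¬ Even b) : 3 ≤ b := by
  have h2 := h.two_le c
  by_contra h3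
  exact hb ⟨1, by omega⟩

theorem mem_fix {b : ℕ} {p : ℕ → CosetVertex M₁ M₂} (c : ACrit b p) {a ε : CosetVertex M₁ M₂}
    (hA : IsA a) (hd : (cosetGraph M₁ M₂).dist a ε < b) {y : X} (hy : y ∈ vertexZ 2 a) :
    y • ε = ε :=
  MulAction.mem_stabilizer_iff.1 (h.Q_le_stab _ (c.near a ε hA hd hy))

theorem odd_isB_end {b : ℕ} {p : ℕ → CosetVertex M₁ M₂} (c : ACrit b p) (hb : ¬ Even b) : IsB (p b) := by
  rw [IsB, (c.isPath h.pair.1).side b le_rfl, endSide_odd hb]
  simp [show Sum.isLeft (p 0) = true from c.start]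

theorem odd_z_edge {b : ℕ} {p : ℕ → CosetVertex M₁ M₂} (c : ACrit b p) (hb : ¬ Even b) :
    vertexZ 2 (p 0) ≤ edgeStabilizer (p b) (p (b - 1)) := by
  have h3 := h.odd_three_le c hb
  have hadj : (cosetGraph M₁ M₂).Adj (p (b - 1)) (p b) := by
    have := c.adj (b - 1) (by omega)
    rwa [show b - 1 + 1 = b by omega] at this
  refine fun z hz => mem_edge_symm (h.Z_le_edge_of_near c c.start ?_ hadj hz)
  have := (c.isPath h.pair.1).dist_le' h.pair.1 (i := 0) (j := b - 1) (by omega) (by omega)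
  omega

theorem odd_mover_B {b : ℕ} {p : ℕ → CosetVertex M₁ M₂} (c : ACrit b p) (hb : ¬ Even b) :
    Mover M₁ M₂ b false := by
  obtain ⟨z, hz, hzQ⟩ := Set.not_subset.1 c.nc
  have hP := c.isPath h.pair.1
  refine ⟨p, z, hP, h.odd_isB_end c hb, fun i hi => ?_, hzQ⟩
  rcases Nat.lt_or_ge i b with hlt | hge
  · refine h.mem_fix c c.start ?_ hz
    have := hP.dist_le' h.pair.1 (i := 0) (j := i) (by omega) (by omega)
    omega
  · rw [show i = b by omega]
    exact MulAction.mem_stabilizer_iff.1 (h.odd_z_edge c hb hz).1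

theorem odd_transit {b : ℕ} {p : ℕ → CosetVertex M₁ M₂} (c : ACrit b p) (hb : ¬ Even b)
    (hM : Mover M₁ M₂ (b - 1) true) : Transit M₁ M₂ b true :=
  h.toSThreePair.transit_of_movers b (by have := h.two_le c; omega)
    (fun t _ => by cases t; exacts [(h.odd_mover_B c hb).mono (by omega), hM]) true

theorem exists_oPath {b : ℕ} {p : ℕ → CosetVertex M₁ M₂} (c : ACrit b p) (hb : ¬ Even b) :
    ∃ q, OPath b q ∧ ∀ i, i ≤ b → q i = p i := by
  have h3 := h.odd_three_le c hb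
  have hP := c.isPath h.pair.1
  have hBb := h.odd_isB_end c hb
  have hadj : (cosetGraph M₁ M₂).Adj (p b) (p (b - 1)) := by
    have := (c.adj (b - 1) (by omega)).symm
    rwa [show b - 1 + 1 = b by omega] at this
  suffices ∃ e, (cosetGraph M₁ M₂).Adj (p b) e ∧ e ≠ p (b - 1) ∧
      ¬ vertexZ 2 e ≤ vertexQ 2 (p 1) by
    obtain ⟨e, he, hne, hn⟩ := this
    refine ⟨fun i => if i ≤ b then p i else e, ⟨⟨c.near, ?_, fun i hi => ?_, ?_⟩, hb, ?_, ?_, ?_⟩,
      fun i hi => if_pos hi⟩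
    · simpa using c.start
    · simpa [show i ≤ b by omega, show i + 1 ≤ b by omega] using c.adj i hi
    · simpa using c.nc
    · simpa using he
    · simpa [show b - 1 ≤ b by omega] using hne
    · simpa [show 1 ≤ b by omega] using hn
  by_contra hno
  push Not at hno
  have hall : ∀ u, (cosetGraph M₁ M₂).Adj (p b) u → vertexZ 2 u ≤ vertexQ 2 (p 1) := by
    intro u hu
    by_cases e : u = p (b - 1)
    · rw [e]
      refine c.near _ _ (e ▸ isA_of_adj hu hBb) ?_
      have := hP.dist_le' h.pair.1 (i := b - 1) (j := 1) (by omega) (by omega)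
      omega
    · exact hno u hu e
  obtain ⟨z, hz, hzQ⟩ := Set.not_subset.1 c.nc
  obtain ⟨u, hu, hune⟩ := h.toSThreePair.exists_other hadj
  have hzu : z • u ≠ u := h.toSThreePair.smul_ne_self hadj hu hune (h.odd_z_edge c hb hz) hzQ
  obtain ⟨y, hy, hyQ⟩ : ∃ y ∈ vertexZ 2 u, y ∉ vertexQ 2 (p 0) := by
    by_contra hno'
    push Not at hno'
    have hzs := (h.odd_z_edge c hb hz).1
    refine h.Z_nbrs_ne (SThreePair.adj_of_mem_stabilizer hzs hu) hu hzu hBb ?_
    rw [← map_vertexZ h.toSThreePair]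
    ext y
    constructor
    · rintro ⟨y, hy, rfl⟩
      show z * y * z⁻¹ ∈ _
      rwa [← h.Z_commute_Q hz (hno' y hy), mul_inv_cancel_right]
    · intro hy
      refine ⟨y, hy, ?_⟩
      show z * y * z⁻¹ = y
      rw [← h.Z_commute_Q hz (hno' y hy), mul_inv_cancel_right]
  have hAu := isA_of_adj hu hBb
  have mA : Mover M₁ M₂ b true := by
    refine ⟨fun i => p (b - i), y, hP.reverse, ?_, fun i hi => ?_, ?_⟩
    · show Sum.isLeft (p (b - b)) = true
      rw [Nat.sub_self]; exact c.start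
    · show y • p (b - i) = p (b - i)
      have hy1 := h.toSThreePair.vertexQ_le_edge (c.adj 0 (by omega)).symm (hall u hu hy)
      rcases (show b - i = 0 ∨ b - i = 1 ∨ 2 ≤ b - i by omega) with e | e | e
      · rw [e]; exact MulAction.mem_stabilizer_iff.1 hy1.2
      · rw [e]; exact MulAction.mem_stabilizer_iff.1 hy1.1
      · refine h.mem_fix c hAu ?_ hy
        have h1 := SimpleGraph.dist_eq_one_iff_adj.2 hu.symm
        have h2 := hP.dist_le' h.pair.1 (i := b) (j := b - i) le_rfl (by omega)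
        have := (connected h.pair.1).dist_triangle (u := u) (v := p b) (w := p (b - i))
        omega
    · show y ∉ vertexQ 2 (p (b - b))
      rw [Nat.sub_self]; exact hyQ
  have hT := h.odd_transit c hb (mA.mono (by omega))
  have hq : IsPathN b (pcons u (fun i => p (b - i))) := by
    have h1 : IsPathN (b - 1) (fun i => p (b - i)) := hP.reverse.take (by omega)
    have := h1.pcons (v := u) (by simpa using hu.symm) (fun _ => hune)
    rwa [show b - 1 + 1 = b by omega] at this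
  have c' := h.crit_of_transit c hT hq hAu
  refine c'.nc ?_
  obtain ⟨b', rfl⟩ : ∃ b', b = b' + 1 := ⟨b - 1, by omega⟩
  rw [pcons_succ, pcons_zero, show b' + 1 - b' = 1 by omega]
  exact hall u hu

theorem oPath_facts {b : ℕ} {p : ℕ → CosetVertex M₁ M₂} (P : OPath b p) :
    3 ≤ b ∧ IsPathN (b + 1) p ∧ IsA (p 0) ∧ IsB (p 1) ∧ IsB (p b) ∧ IsA (p (b + 1)) ∧ IsA (p (b - 1)) ∧
      (cosetGraph M₁ M₂).Adj (p b) (p (b - 1)) := by
  have h3 := h.odd_three_le P.crit P.odd
  have hadj : (cosetGraph M₁ M₂).Adj (p b) (p (b - 1)) := by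
    have := (P.crit.adj (b - 1) (by omega)).symm
    rwa [show b - 1 + 1 = b by omega] at this
  have hB := h.odd_isB_end P.crit P.odd
  refine ⟨h3, ⟨fun i hi => ?_, fun i hi => ?_⟩, P.crit.start, isB_of_adj (P.crit.adj 0 (by omega))
    P.crit.start, hB, isA_of_adj P.adjLast hB, isA_of_adj hadj hB, hadj⟩
  · rcases Nat.lt_or_eq_of_le (Nat.lt_succ_iff.1 hi) with hlt | rfl
    exacts [P.crit.adj i hlt, P.adjLast]
  · rcases Nat.lt_or_eq_of_le hi with hlt | he
    · exact (P.crit.isPath h.pair.1).nb i (by omega)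
    · rw [he, show i = b - 1 by omega]; exact P.neLast

theorem oPath_reverse {b : ℕ} {p : ℕ → CosetVertex M₁ M₂} (P : OPath b p) :
    OPath b (fun i => p (b + 1 - i)) := by
  obtain ⟨h3, hP, hA0, hB1, hBb, hAe, -, -⟩ := h.oPath_facts P
  have hr := hP.reverse
  refine ⟨⟨P.crit.near, by simpa using hAe, fun i hi => hr.adj i (by omega), ?_⟩, P.odd,
    hr.adj b (by omega), ?_, ?_⟩
  · simpa [show b + 1 - b = 1 by omega] using P.back
  · simpa [show b + 1 - b = 1 by omega, show b + 1 - (b - 1) = 2 by omega] using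
      ((hP.nb 0 (by omega)).symm : p 0 ≠ p 2)
  · simpa [show b + 1 - 1 = b by omega] using P.crit.nc

/-- Surjectivity of `z ↦ ⁅z, x⁆` onto `Z_v`. -/
theorem comm_surj {a v : CosetVertex M₁ M₂} (hv : (cosetGraph M₁ M₂).Adj a v) (hA : IsA a) {x η : X}
    (hx : x ∈ edgeStabilizer a v) (hxQ : x ∉ vertexQ 2 a) (hη : η ∈ vertexZ 2 v) :
    ∃ z ∈ vertexZ 2 a, ⁅z, x⁆ = η := by
  obtain ⟨w, hw, hne⟩ := h.toSThreePair.exists_other hv
  have hle := h.ZB_le hw.symm (isB_of_adj hw hA)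
  have := h.finite a
  have : Finite ↥(vertexZ 2 v) := Finite.of_injective (Subgroup.inclusion
    ((h.Z_le_edge hv.symm).trans inf_le_right : vertexZ 2 v ≤ MulAction.stabilizer X a))
    (Subgroup.inclusion_injective _)
  have : Finite ↥(vertexZ 2 w) := Finite.of_injective (Subgroup.inclusion
    ((h.Z_le_edge hw.symm).trans inf_le_right : vertexZ 2 w ≤ MulAction.stabilizer X a))
    (Subgroup.inclusion_injective _)
  let f : ↥(vertexZ 2 w) → ↥(vertexZ 2 v) := fun z => ⟨⁅(z : X), x⁆, h.comm_mem hv hA hx (hle z.2)⟩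
  have hinj : Function.Injective f := by
    intro z z' e
    have e' : ⁅(z : X), x⁆ = ⁅(z' : X), x⁆ := congrArg Subtype.val e
    have hc : ⁅(z : X) * z', x⁆ = 1 := by
      have hz' := h.ZB_le hv.symm (isB_of_adj hv hA) (h.comm_mem hv hA hx (hle z'.2))
      rw [commutator_mul_left, h.Z_comm (hle z.2) hz', mul_inv_cancel_right, e',
        h.Z_sq (h.comm_mem hv hA hx (hle z'.2))]
    have h1 := h.inf_eq hv hw hA hne.symm
      (h.cent_eq hv hA hx hxQ (hle (mul_mem z.2 z'.2))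
        (commutatorElement_eq_one_iff_mul_comm.1 hc).symm) (mul_mem z.2 z'.2)
    refine Subtype.ext ?_
    calc (z : X) = z * (z' * z') := by rw [h.Z_sq z'.2, mul_one]
      _ = z' := by rw [← mul_assoc, h1, one_mul]
  have hcard : Nat.card ↥(vertexZ 2 w) = Nat.card ↥(vertexZ 2 v) := by
    obtain ⟨g, hg, hgv⟩ := neighbours_transitive hv hw
    rw [← hgv, ← map_vertexZ h.toSThreePair, SThreePair.card_map_conj]
  obtain ⟨z, hz⟩ := ((Nat.bijective_iff_injective_and_card f).2 ⟨hinj, hcard⟩).2 ⟨η, hη⟩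
  exact ⟨z, hle z.2, congrArg Subtype.val hz⟩

/-- If a hyperplane of `Z_u` lies in `Z_w` for neighbours `u`, `w` of `B`-vertices, then `|Z_v| = 2`. -/
theorem kone_of_hyperplane (P2 : ∀ v u w : CosetVertex M₁ M₂, IsB v → (cosetGraph M₁ M₂).Adj v u →
      (cosetGraph M₁ M₂).Adj v w → u ≠ w → ∀ y ∈ vertexZ 2 u, ∀ y' ∈ vertexZ 2 u,
      y ∉ vertexZ 2 w → y' ∉ vertexZ 2 w → y * y' ∈ vertexZ 2 w) : KOne M₁ M₂ := by
  classical
  set a := base₁ M₁ M₂ with ha
  have hA : IsA a := rfl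
  obtain ⟨v₁, hv₁⟩ : ∃ v, (cosetGraph M₁ M₂).Adj a v := SThreeActive.exists_adj a
  obtain ⟨v₂, hv₂, h21⟩ := h.toSThreePair.exists_other hv₁
  obtain ⟨v₃, hv₃, h31, h32⟩ := h.toSThreePair.exists_third hv₁ v₂
  obtain ⟨u₁, hu₁, hu₁a⟩ := h.toSThreePair.exists_other hv₁.symm
  obtain ⟨u₂, hu₂, hu₂a⟩ := h.toSThreePair.exists_other hv₂.symm
  obtain ⟨u₃, hu₃, hu₃a⟩ := h.toSThreePair.exists_other hv₃.symm
  have all : ∀ v u, (cosetGraph M₁ M₂).Adj a v → (cosetGraph M₁ M₂).Adj v u → u ≠ a →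
      ∀ y ∈ vertexZ 2 a, y ∈ vertexZ 2 u → ∀ t, (cosetGraph M₁ M₂).Adj v t → y ∈ vertexZ 2 t := by
    intro v u hv hu hua y hya hyu t ht
    by_cases e1 : t = a
    · rwa [e1]
    by_cases e2 : t = u
    · rwa [e2]
    obtain ⟨q, hq, hqv⟩ := Set.not_subset.1 (h.Q_not_le hv.symm)
    have hmove := h.toSThreePair.swap_any hv.symm hu ht hua e1 (Ne.symm e2)
      (h.Q_le_edge' hv hq) hqv
    have := h.Z_conj (g := q) hyu
    rwa [hmove, h.Z_commute_Q hya hq, mul_inv_cancel_right] at this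
  let I₀ : Subgroup X :=
    { carrier := {y | y ∈ vertexZ 2 a ∧ ∀ v, (cosetGraph M₁ M₂).Adj a v → ∀ u,
        (cosetGraph M₁ M₂).Adj v u → y ∈ vertexZ 2 u}
      one_mem' := ⟨one_mem _, fun v _ u _ => one_mem _⟩
      mul_mem' := fun {y y'} hy hy' => ⟨mul_mem hy.1 hy'.1,
        fun v hv u hu => mul_mem (hy.2 v hv u hu) (hy'.2 v hv u hu)⟩
      inv_mem' := fun {y} hy => ⟨inv_mem hy.1, fun v hv u hu => inv_mem (hy.2 v hv u hu)⟩ }
  have hna : MulAction.stabilizer X a ≤ Subgroup.normalizer (I₀ : Set X) :=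
    le_normalizer_of_conj fun g hg y hy => ⟨h.Z_conj_stab hg hy.1, fun v hv u hu => by
      have hv' := SThreePair.adj_of_mem_stabilizer (inv_mem hg) hv
      have h1 := h.Z_conj (g := g) (hy.2 _ hv' _ (adj_smul g⁻¹ hu))
      rwa [smul_inv_smul] at h1⟩
  have hnv : MulAction.stabilizer X v₁ ≤ Subgroup.normalizer (I₀ : Set X) := by
    obtain ⟨q, hq, hqv⟩ := Set.not_subset.1 (h.Q_not_le hu₁)
    refine h.toSThreePair.stab_le_of_edge_le hv₁.symm (fun g hg => hna hg.2)
      (h.Q_le_edge' hu₁.symm hq).1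
      (h.toSThreePair.smul_ne_self hu₁ hv₁.symm hu₁a.symm (h.Q_le_edge' hu₁.symm hq) hqv) ?_
    refine Subgroup.mem_normalizer_iff.2 fun y => ⟨fun hy => ?_, fun hy => ?_⟩
    · rwa [h.Z_commute_Q (hy.2 v₁ hv₁ u₁ hu₁) hq, mul_inv_cancel_right]
    · have e := h.Z_commute_Q (hy.2 v₁ hv₁ u₁ hu₁) (inv_mem hq)
      have : y = q * y * q⁻¹ := by
        calc y = q⁻¹ * (q * y * q⁻¹) * q := by group
          _ = q * y * q⁻¹ := by rw [e, inv_mul_cancel_right]
      rwa [this]
  have hI : I₀ = ⊥ := h.toSThreePair.eq_bot_of_normalized hv₁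
    (fun y hy => h.Z_le_edge hv₁ hy.1) hna hnv
  have hinj : Function.Injective (fun y : ↥(vertexZ 2 a) =>
      (decide ((y : X) ∈ vertexZ 2 u₁), decide ((y : X) ∈ vertexZ 2 u₂), decide ((y : X) ∈ vertexZ 2 u₃))) := by
    intro y y' e
    simp only [Prod.mk.injEq, decide_eq_decide] at e
    have mem : ∀ v u, (cosetGraph M₁ M₂).Adj a v → (cosetGraph M₁ M₂).Adj v u → u ≠ a →
        ((y : X) ∈ vertexZ 2 u ↔ (y' : X) ∈ vertexZ 2 u) → (y : X) * y' ∈ vertexZ 2 u := by
      intro v u hv hu hua hiff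
      by_cases hy : (y : X) ∈ vertexZ 2 u
      · exact mul_mem hy (hiff.1 hy)
      · exact P2 v a u (isB_of_adj hv hA) hv.symm hu hua.symm y y.2 y' y'.2 hy (fun hh => hy (hiff.2 hh))
    have hmem : (y : X) * y' ∈ I₀ := by
      refine ⟨mul_mem y.2 y'.2, fun v hv => ?_⟩
      by_cases e1 : v = v₁
      · subst e1
        exact all _ u₁ hv hu₁ hu₁a _ (mul_mem y.2 y'.2) (mem _ u₁ hv hu₁ hu₁a e.1)
      by_cases e2 : v = v₂
      · subst e2
        exact all _ u₂ hv hu₂ hu₂a _ (mul_mem y.2 y'.2) (mem _ u₂ hv hu₂ hu₂a e.2.1)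
      rw [h.toSThreePair.eq_third hv₁ hv₂ hv hv₃ h21.symm e1 e2 h31 h32]
      exact all _ u₃ hv₃ hu₃ hu₃a _ (mul_mem y.2 y'.2) (mem _ u₃ hv₃ hu₃ hu₃a e.2.2)
    rw [hI, Subgroup.mem_bot] at hmem
    refine Subtype.ext ?_
    calc (y : X) = y * (y' * y') := by rw [h.Z_sq y'.2, mul_one]
      _ = y' := by rw [← mul_assoc, hmem, one_mul]
  have := Finite.of_injective _ hinj
  have h8 : Nat.card ↥(vertexZ 2 a) ≤ 8 := by
    have := Nat.card_le_card_of_injective _ hinj
    simpa using this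
  have hle₁ := h.ZB_le hv₁.symm (isB_of_adj hv₁ hA)
  have hle₂ := h.ZB_le hv₂.symm (isB_of_adj hv₂ hA)
  have : Finite ↥(vertexZ 2 v₁) := Finite.of_injective _ (Subgroup.inclusion_injective hle₁)
  have : Finite ↥(vertexZ 2 v₂) := Finite.of_injective _ (Subgroup.inclusion_injective hle₂)
  have hinj2 : Function.Injective (fun t : ↥(vertexZ 2 v₁) × ↥(vertexZ 2 v₂) =>
      (⟨(t.1 : X) * t.2, mul_mem (hle₁ t.1.2) (hle₂ t.2.2)⟩ : ↥(vertexZ 2 a))) := by
    rintro ⟨y, w⟩ ⟨y', w'⟩ e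
    have e' : (y : X) * w = y' * w' := congrArg Subtype.val e
    have e1 : (y' : X)⁻¹ * y = w' * (w : X)⁻¹ := by
      calc (y' : X)⁻¹ * y = (y' : X)⁻¹ * (y * w) * (w : X)⁻¹ := by group
        _ = _ := by rw [e']; group
    have e2 := h.inf_eq hv₁ hv₂ hA h21.symm (mul_mem (inv_mem y'.2) y.2)
      (e1 ▸ mul_mem w'.2 (inv_mem w.2) : (y' : X)⁻¹ * y ∈ vertexZ 2 v₂)
    rw [e2] at e1
    exact Prod.ext (Subtype.ext (inv_mul_eq_one.1 e2).symm) (Subtype.ext (mul_inv_eq_one.1 e1.symm).symm)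
  have hsq := (Nat.card_le_card_of_injective _ hinj2).trans h8
  rw [Nat.card_prod] at hsq
  have hcard : Nat.card ↥(vertexZ 2 v₂) = Nat.card ↥(vertexZ 2 v₁) := by
    obtain ⟨g, hg, hgv⟩ := neighbours_transitive hv₁ hv₂
    rw [← hgv, ← map_vertexZ h.toSThreePair, SThreePair.card_map_conj]
  rw [hcard] at hsq
  refine h.kone_of_one (isB_of_adj hv₁ hA) fun y hy y' hy' hy1 hy1' => ?_
  by_contra hne
  have h3 : Function.Injective
      (fun i : Fin 3 => (![1, ⟨y, hy⟩, ⟨y', hy'⟩] i : ↥(vertexZ 2 v₁))) := by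
    intro i j e
    fin_cases i <;> fin_cases j <;> first
      | rfl
      | (simp [Subtype.ext_iff] at e; first
        | exact absurd e hy1 | exact absurd e.symm hy1 | exact absurd e hy1' | exact absurd e.symm hy1'
        | exact absurd e hne | exact absurd e.symm hne)
  have h3' := Nat.card_le_card_of_injective _ h3
  rw [Nat.card_eq_fintype_card (α := Fin 3), Fintype.card_fin] at h3'
  have := Nat.mul_le_mul h3' h3'
  omega

theorem odd_kone {b : ℕ} {p : ℕ → CosetVertex M₁ M₂} (P : OPath b p) : KOne M₁ M₂ := by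
  obtain ⟨h3, hP, hA0, hB1, hBb, hAe, hAb1, hadj⟩ := h.oPath_facts P
  obtain ⟨z, hz, hzQ⟩ := Set.not_subset.1 P.crit.nc
  have hzE := h.odd_z_edge P.crit P.odd
  set e := p (b + 1) with hedef
  have hze : z • e ≠ e := h.toSThreePair.smul_ne_self hadj P.adjLast P.neLast (hzE hz) hzQ
  have h12 := P.crit.adj 1 (by omega)
  have hd2 : (cosetGraph M₁ M₂).dist e (p 2) < b := by
    have := hP.dist_le' h.pair.1 (i := b + 1) (j := 2) le_rfl (by omega)
    rw [← hedef] at this
    omega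
  have heE : ∀ y ∈ vertexZ 2 e, y ∈ edgeStabilizer (p 1) (p 2) := fun y hy =>
    mem_edge_symm (h.Z_le_edge_of_near P.crit hAe hd2 h12.symm hy)
  by_cases hcom : ∀ y ∈ vertexZ 2 e, y ∈ vertexQ 2 (p 1) → y * z = z * y
  · -- a hyperplane of `Z_e` is fixed by `z`
    have hout : ∀ y ∈ vertexZ 2 e, y ∉ vertexZ 2 (z • e) → y ∉ vertexQ 2 (p 1) := by
      intro y hy hyn hyQ
      have := h.Z_conj (g := z) hy
      rw [← hcom y hy hyQ, mul_inv_cancel_right] at this
      exact hyn this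
    refine h.kone_of_hyperplane fun v u w hBv hu hw huw y hy y' hy' hn hn' => ?_
    obtain ⟨g, hgv, hgu⟩ := exists_smul_edge P.adjLast hu (hBb.trans hBv.symm)
    have hw' : (cosetGraph M₁ M₂).Adj v (g • z • e) := by
      rw [← hgv]
      exact adj_smul g (SThreePair.adj_of_mem_stabilizer (hzE hz).1 P.adjLast)
    have hne' : g • z • e ≠ u := by
      rw [← hgu]; exact fun e' => hze (MulAction.injective g e')
    obtain ⟨k, hk, hkw⟩ := h.toSThreePair.exists_edge_smul hu hw' hw hne' huw.symm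
    have hu' : (k * g) • e = u := by rw [mul_smul, hgu, MulAction.mem_stabilizer_iff.1 hk.2]
    have hw'' : (k * g) • z • e = w := by rw [mul_smul]; exact hkw
    rw [← hu', ← map_vertexZ h.toSThreePair] at hy hy'
    rw [← hw'', ← map_vertexZ h.toSThreePair] at hn hn' ⊢
    obtain ⟨y, hy, rfl⟩ := hy
    obtain ⟨y', hy', rfl⟩ := hy'
    have a1 := hout y hy fun hh => hn ⟨y, hh, rfl⟩
    have a2 := hout y' hy' fun hh => hn' ⟨y', hh, rfl⟩
    have a3 := h.toSThreePair.mul_mem_Q h12 (heE y hy) (heE y' hy') a1 a2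
    refine ⟨y * y', ?_, by simp⟩
    have := h.Z_conj (g := z) (mul_mem hy hy')
    rwa [← hcom _ (mul_mem hy hy') a3, mul_inv_cancel_right] at this
  · -- transitivity on paths of length `b`, and `Z_1` is too close to `p b`
    push Not at hcom
    obtain ⟨y, hy, hyQ1, hyz⟩ := hcom
    have hy0 := h.toSThreePair.vertexQ_le_edge (P.crit.adj 0 (by omega)).symm hyQ1
    have hyQ0 : y ∉ vertexQ 2 (p 0) := fun hq => hyz (h.Z_commute_Q hz hq)
    have hP' := P.crit.isPath h.pair.1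
    have mA : Mover M₁ M₂ b true := by
      refine ⟨fun i => p (b - i), y, hP'.reverse, by simpa using hA0, fun i hi => ?_,
        by simpa using hyQ0⟩
      show y • p (b - i) = p (b - i)
      rcases (show b - i = 0 ∨ b - i = 1 ∨ 2 ≤ b - i by omega) with e' | e' | e'
      · rw [e']; exact MulAction.mem_stabilizer_iff.1 hy0.2
      · rw [e']; exact MulAction.mem_stabilizer_iff.1 hy0.1
      · refine h.mem_fix P.crit hAe ?_ hy
        have := hP.dist_le' h.pair.1 (i := b + 1) (j := b - i) le_rfl (by omega)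
        rw [← hedef] at this
        omega
    have hT := h.odd_transit P.crit P.odd (mA.mono (by omega))
    have R0 : ∀ η ∈ vertexZ 2 (p 1), ∀ η' ∈ vertexZ 2 (p 1), η ∉ vertexZ 2 (p b) →
        η' ∉ vertexZ 2 (p b) → η * η' ∈ vertexZ 2 (p b) := by
      intro η hη η' hη' hn hn'
      have h01 := P.crit.adj 0 (by omega)
      have hyE : y ∈ edgeStabilizer (p 0) (p 1) := mem_edge_symm hy0
      obtain ⟨z', hz', e1⟩ := h.comm_surj h01 hA0 hyE hyQ0 hη
      obtain ⟨z'', hz'', e2⟩ := h.comm_surj h01 hA0 hyE hyQ0 hη'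
      have key : ∀ t ∈ vertexZ 2 (p 0), t ∈ vertexQ 2 (p b) → ⁅t, y⁆ ∈ vertexZ 2 (p b) := by
        intro t ht htQ
        rw [← commutatorElement_inv]
        exact inv_mem (h.comm_mem P.adjLast.symm hAe (h.Q_le_edge' P.adjLast htQ) hy)
      have a3 := key _ (mul_mem hz' hz'') (h.toSThreePair.mul_mem_Q hadj (hzE hz') (hzE hz'')
        (fun hh => hn (e1 ▸ key _ hz' hh)) (fun hh => hn' (e2 ▸ key _ hz'' hh)))
      have hη0 := h.ZB_le h01.symm hB1 hη'
      rw [commutator_mul_left, e1, e2, h.Z_comm hz' hη0, mul_inv_cancel_right, h.Z_comm hη' hη] at a3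
      exact a3
    have R : ∀ q : ℕ → CosetVertex M₁ M₂, IsPathN b q → IsA (q 0) →
        ∀ η ∈ vertexZ 2 (q 1), ∀ η' ∈ vertexZ 2 (q 1), η ∉ vertexZ 2 (q b) →
        η' ∉ vertexZ 2 (q b) → η * η' ∈ vertexZ 2 (q b) := by
      intro q hq hqA η hη η' hη' hn hn'
      obtain ⟨g, hg⟩ := hT p q hP' hq hA0 hqA
      rw [← hg 1 (by omega), ← map_vertexZ h.toSThreePair] at hη hη'
      rw [← hg b le_rfl, ← map_vertexZ h.toSThreePair] at hn hn' ⊢
      obtain ⟨η, hη, rfl⟩ := hη
      obtain ⟨η', hη', rfl⟩ := hη'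
      exact ⟨η * η', R0 η hη η' hη' (fun hh => hn ⟨η, hh, rfl⟩) (fun hh => hn' ⟨η', hh, rfl⟩), by simp⟩
    by_contra hk
    have two : ∀ v : CosetVertex M₁ M₂, IsB v → ∃ η ∈ vertexZ 2 v, ∃ η' ∈ vertexZ 2 v, η ≠ 1 ∧ η' ≠ 1 ∧ η ≠ η' := by
      intro v hv
      by_contra hno
      exact hk (h.kone_of_one hv fun y hy y' hy' a1 a2 =>
        by_contra fun a3 => hno ⟨y, hy, y', hy', a1, a2, a3⟩)
    have claim : ∀ q : ℕ → CosetVertex M₁ M₂, IsPathN b q → IsA (q 0) →
        (∃ ρ ∈ vertexZ 2 (q 1), ρ ∈ vertexZ 2 (q b) ∧ ρ ≠ 1) ∧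
        vertexZ 2 (q 1) ≤ vertexZ 2 (q (b - 1)) := by
      intro q hq hqA
      have hB := isB_of_adj (hq.adj 0 (by omega)) hqA
      have hq1 : (cosetGraph M₁ M₂).Adj (q (b - 1)) (q b) := by
        have := hq.adj (b - 1) (by omega)
        rwa [show b - 1 + 1 = b by omega] at this
      have hAq : IsA (q (b - 1)) := by
        rw [IsA, hq.side _ (by omega), endSide_even (by
          rw [Nat.even_sub (by omega)]; simp [P.odd])]
        exact hqA
      have hq2 : (cosetGraph M₁ M₂).Adj (q (b - 1)) (q (b - 2)) := by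
        have := (hq.adj (b - 2) (by omega)).symm
        rwa [show b - 2 + 1 = b - 1 by omega] at this
      obtain ⟨b', hb', hb'ne, hb'ne2⟩ := h.toSThreePair.exists_third hq1 (q (b - 2))
      obtain ⟨η, hη, η', hη', a1, a2, a3⟩ := two _ hB
      have meet : ∀ r : ℕ → CosetVertex M₁ M₂, IsPathN b r → IsA (r 0) → r 1 = q 1 →
          ∃ ρ ∈ vertexZ 2 (q 1), ρ ∈ vertexZ 2 (r b) ∧ ρ ≠ 1 := by
        intro r hr hrA e
        by_cases m1 : η ∈ vertexZ 2 (r b)
        · exact ⟨η, hη, m1, a1⟩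
        by_cases m2 : η' ∈ vertexZ 2 (r b)
        · exact ⟨η', hη', m2, a2⟩
        refine ⟨η * η', mul_mem hη hη', R r hr hrA η (e.symm ▸ hη) η' (e.symm ▸ hη') m1 m2, ?_⟩
        intro h1
        exact a3 (by rw [eq_inv_of_mul_eq_one_left h1, h.Z_inv hη'])
      set r := fun i => if i = b then b' else q i with hr
      have hrp : IsPathN b r := by
        refine ⟨fun i hi => ?_, fun i hi => ?_⟩
        · rw [hr]; dsimp only
          rw [if_neg (by omega)]
          split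
          · rw [show i = b - 1 by omega]; exact hb'
          · exact hq.adj i hi
        · rw [hr]; dsimp only
          rw [if_neg (show i ≠ b by omega)]
          split
          · rw [show i = b - 2 by omega]; exact hb'ne2
          · exact hq.nb i hi
      obtain ⟨ρ', hρ', hρ'b, hρ'1⟩ := meet r hrp (by simpa [hr, show (0 : ℕ) ≠ b by omega] using hqA)
        (by simp [hr, show (1 : ℕ) ≠ b by omega])
      rw [show r b = b' by simp [hr]] at hρ'b
      refine ⟨meet q hq hqA rfl, fun η₀ hη₀ => ?_⟩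
      have hle := h.ZB_le hq1.symm (isB_of_adj hq1 hAq)
      by_cases m : η₀ ∈ vertexZ 2 (q b)
      · exact hle m
      have hm := R q hq hqA η₀ hη₀ ρ' hρ' m (fun hh =>
        hρ'1 (h.inf_eq hq1 hb' hAq hb'ne.symm hh hρ'b))
      have e : η₀ = η₀ * ρ' * ρ' := by rw [mul_assoc, h.Z_sq hρ', mul_one]
      rw [e]
      exact mul_mem (hle hm) (h.ZB_le hb'.symm (isB_of_adj hb' hAq) hρ'b)
    rcases (show b = 3 ∨ 5 ≤ b by
      rcases Nat.lt_or_ge b 5 with hlt | hge
      · left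
        by_contra hb3
        exact P.odd ⟨2, by omega⟩
      · exact Or.inr hge) with rfl | hb5
    · obtain ⟨⟨ρ, hρ1, hρ3, hρ⟩, -⟩ := claim p hP' hA0
      exact hρ (h.inf_eq (P.crit.adj 1 (by omega)).symm (P.crit.adj 2 (by omega))
        (isA_of_adj (P.crit.adj 1 (by omega)) hB1) ((hP.nb 1 (by omega)).symm) hρ1 hρ3)
    obtain ⟨w, hw, hw1⟩ := h.toSThreePair.exists_other (P.crit.adj 0 (by omega))
    obtain ⟨u, hu, hu0⟩ := h.toSThreePair.exists_other hw.symm
    have hq : IsPathN (b + 1 + 1) (pcons u (pcons w p)) :=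
      (hP'.pcons hw.symm (fun _ => hw1)).pcons hu.symm (fun _ => by rw [pcons_succ]; exact hu0)
    obtain ⟨-, c1⟩ := claim p hP' hA0
    obtain ⟨-, c2⟩ := claim _ (hq.take (by omega)) (isA_of_adj hu (isB_of_adj hw hA0))
    rw [show b - 1 = b - 3 + 1 + 1 by omega, pcons_succ, pcons_succ, show (1 : ℕ) = 0 + 1 from rfl,
      pcons_succ, pcons_zero] at c2
    have hAb3 : IsB (p (b - 3)) → False := fun hh => by
      rw [IsB, hP.side _ (by omega), endSide_even (by
        rw [Nat.even_sub (by omega)]; simp [P.odd, show ¬ Even 3 by decide])] at hh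
      exact absurd (hA0.symm.trans hh) (by simp)
    have hA3 : IsA (p (b - 3)) := by
      by_contra hh
      exact hAb3 (by simpa [IsA, IsB] using hh)
    refine P.crit.nc ?_
    rw [h.ZA_eq_sup hw (P.crit.adj 0 (by omega)) hA0 hw1]
    refine sup_le (c2.trans (P.crit.near _ _ hA3 ?_)) (c1.trans (P.crit.near _ _ hAb1 ?_))
    · have := hP.dist_le' h.pair.1 (i := b - 3) (j := b) (by omega) (by omega)
      omega
    · have := hP.dist_le' h.pair.1 (i := b - 1) (j := b) (by omega) (by omega)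
      omega

end SThreeCentral

end CfsgLib.Amalgam
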