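import Cfsg.Agent.Amalgam.SThreeCentral

/-!
Critical paths starting at an `A`-vertex and transitivity on paths of bounded length.
-/

set_option autoImplicit false
set_option linter.unusedSectionVars false
set_option linter.unusedVariables false
open Cfsg
open scoped Pointwise commutatorElement

namespace CfsgLib.Amalgam

variable {X : Type*} [Group X] {M₁ M₂ : Subgroup X}

/-- A path of length `n` without backtracking. -/
structure IsPathN (n : ℕ) (p : ℕ → CosetVertex M₁ M₂) : Prop where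
  adj : ∀ i, i < n → (cosetGraph M₁ M₂).Adj (p i) (p (i + 1))
  nb : ∀ i, i + 2 ≤ n → p (i + 2) ≠ p i

/-- The side of the `n`th vertex of a path starting on the side `t`. -/
def endSide (n : ℕ) (t : Bool) : Bool := if Even n then t else !t

theorem endSide_endSide (n : ℕ) (t : Bool) : endSide n (endSide n t) = t := by
  unfold endSide; split <;> simp

theorem endSide_even {n : ℕ} (hn : Even n) (t : Bool) : endSide n t = t := if_pos hn

theorem endSide_odd {n : ℕ} (hn : ¬ Even n) (t : Bool) : endSide n t = !t := if_neg hn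

namespace IsPathN

variable {n : ℕ} {p : ℕ → CosetVertex M₁ M₂}

theorem smul (hp : IsPathN n p) (g : X) : IsPathN n (fun i => g • p i) :=
  ⟨fun i hi => adj_smul g (hp.adj i hi), fun i hi e => hp.nb i hi (MulAction.injective g e)⟩

theorem tail (hp : IsPathN n p) {k m : ℕ} (hk : k + m ≤ n) : IsPathN m (fun i => p (i + k)) :=
  ⟨fun i hi => by rw [show i + 1 + k = i + k + 1 by omega]; exact hp.adj (i + k) (by omega),
    fun i hi => by rw [show i + 2 + k = i + k + 2 by omega]; exact hp.nb (i + k) (by omega)⟩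

theorem take (hp : IsPathN n p) {m : ℕ} (hm : m ≤ n) : IsPathN m p :=
  ⟨fun i hi => hp.adj i (by omega), fun i hi => hp.nb i (by omega)⟩

theorem reverse (hp : IsPathN n p) : IsPathN n (fun i => p (n - i)) :=
  ⟨fun i hi => by
      have := (hp.adj (n - (i + 1)) (by omega)).symm
      rwa [show n - (i + 1) + 1 = n - i by omega] at this,
    fun i hi e => hp.nb (n - (i + 2)) (by omega)
      (by rw [show n - (i + 2) + 2 = n - i by omega]; exact e.symm)⟩

theorem cons (hp : IsPathN n p) {v : CosetVertex M₁ M₂} (hv : (cosetGraph M₁ M₂).Adj v (p 0))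
    (hne : 1 ≤ n → v ≠ p 1) : IsPathN (n + 1) (fun i => if i = 0 then v else p (i - 1)) := by
  refine ⟨fun i hi => ?_, fun i hi => ?_⟩
  · rcases Nat.eq_zero_or_pos i with rfl | hi0
    · simpa using hv
    · simp only [show i ≠ 0 by omega, show i + 1 ≠ 0 by omega, if_false]
      have := hp.adj (i - 1) (by omega)
      rwa [show i - 1 + 1 = i + 1 - 1 by omega] at this
  · rcases Nat.eq_zero_or_pos i with rfl | hi0
    · simpa using (hne (by omega)).symm
    · simp only [show i ≠ 0 by omega, show i + 2 ≠ 0 by omega, if_false]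
      have := hp.nb (i - 1) (by omega)
      rwa [show i - 1 + 2 = i + 2 - 1 by omega] at this

theorem side (hp : IsPathN n p) : ∀ i, i ≤ n → Sum.isLeft (p i) = endSide i (Sum.isLeft (p 0)) := by
  intro i
  induction i with
  | zero => intro _; rfl
  | succ i ih =>
    intro hi
    rw [side_adj (hp.adj i (by omega)), ih (by omega)]
    by_cases he : Even i
    · rw [endSide_even he, endSide_odd (by simp [Nat.even_add_one, he])]
    · rw [endSide_odd he, endSide_even (by simp [Nat.even_add_one, he]), Bool.not_not]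

theorem dist_le (hgen : M₁ ⊔ M₂ = ⊤) (hp : IsPathN n p) :
    ∀ d i, i + d ≤ n → (cosetGraph M₁ M₂).dist (p i) (p (i + d)) ≤ d := by
  intro d
  induction d with
  | zero => intro i _; simp
  | succ d ih =>
    intro i hi
    have h1 := ih i (by omega)
    have h2 := SimpleGraph.dist_eq_one_iff_adj.2 (hp.adj (i + d) (by omega))
    have := (connected hgen).dist_triangle (u := p i) (v := p (i + d)) (w := p (i + d + 1))
    rw [Nat.add_assoc] at h2 this
    omega

theorem dist_le' (hgen : M₁ ⊔ M₂ = ⊤) (hp : IsPathN n p) {i j : ℕ} (hi : i ≤ n) (hj : j ≤ n) :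
    (cosetGraph M₁ M₂).dist (p i) (p j) ≤ (j - i) + (i - j) := by
  rcases le_total i j with hij | hij
  · have := hp.dist_le hgen (j - i) i (by omega)
    rw [show i + (j - i) = j by omega] at this
    omega
  · have := hp.dist_le hgen (i - j) j (by omega)
    rw [show j + (i - j) = i by omega] at this
    rw [SimpleGraph.dist_comm]
    omega

end IsPathN

/-- An element fixes a path of length `n` ending on side `t` and moves a neighbour of its end. -/
def Mover (M₁ M₂ : Subgroup X) (n : ℕ) (t : Bool) : Prop :=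
  ∃ (p : ℕ → CosetVertex M₁ M₂) (g : X), IsPathN n p ∧ Sum.isLeft (p n) = t ∧
    (∀ i, i ≤ n → g • p i = p i) ∧ g ∉ vertexQ 2 (p n)

/-- Any two paths of length `n` starting on side `t` are conjugate. -/
def Transit (M₁ M₂ : Subgroup X) (n : ℕ) (t : Bool) : Prop :=
  ∀ p q : ℕ → CosetVertex M₁ M₂, IsPathN n p → IsPathN n q → Sum.isLeft (p 0) = t →
    Sum.isLeft (q 0) = t → ∃ g : X, ∀ i, i ≤ n → g • p i = q i

theorem Mover.mono {n m : ℕ} {t : Bool} (hM : Mover M₁ M₂ n t) (hm : m ≤ n) : Mover M₁ M₂ m t := by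
  obtain ⟨p, g, hp, hs, hfix, hg⟩ := hM
  refine ⟨fun i => p (i + (n - m)), g, hp.tail (by omega), ?_, fun i hi => hfix _ (by omega), ?_⟩
  · show Sum.isLeft (p (m + (n - m))) = t
    rwa [show m + (n - m) = n by omega]
  · show g ∉ vertexQ 2 (p (m + (n - m)))
    rwa [show m + (n - m) = n by omega]

theorem Transit.reverse {n : ℕ} {t : Bool} (hT : Transit M₁ M₂ n t) :
    Transit M₁ M₂ n (endSide n t) := by
  intro p q hp hq hps hqs
  obtain ⟨g, hg⟩ := hT _ _ hp.reverse hq.reverse
    (by show Sum.isLeft (p (n - 0)) = t; rw [Nat.sub_zero, hp.side n le_rfl, hps, endSide_endSide])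
    (by show Sum.isLeft (q (n - 0)) = t; rw [Nat.sub_zero, hq.side n le_rfl, hqs, endSide_endSide])
  refine ⟨g, fun i hi => ?_⟩
  have := hg (n - i) (by omega)
  rwa [show n - (n - i) = i by omega] at this

namespace SThreePair

variable (h : SThreePair M₁ M₂)

include h

omit h in
theorem transit_one (t : Bool) : Transit M₁ M₂ 1 t := by
  intro p q hp hq hps hqs
  obtain ⟨g, h0, h1⟩ := exists_smul_edge (hp.adj 0 (by omega)) (hq.adj 0 (by omega)) (hps.trans hqs.symm)
  refine ⟨g, fun i hi => ?_⟩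
  rcases (show i = 0 ∨ i = 1 by omega) with rfl | rfl
  · exact h0
  · exact h1

theorem swap_any {δ μ x y : CosetVertex M₁ M₂} (hμ : (cosetGraph M₁ M₂).Adj δ μ)
    (hx : (cosetGraph M₁ M₂).Adj δ x) (hy : (cosetGraph M₁ M₂).Adj δ y) (hxμ : x ≠ μ) (hyμ : y ≠ μ)
    (hxy : x ≠ y) {g : X} (hg : g ∈ edgeStabilizer δ μ) (hgQ : g ∉ vertexQ 2 δ) : g • x = y := by
  refine h.eq_third hμ hx (adj_of_mem_stabilizer hg.1 hx) hy hxμ.symm ?_
    (h.smul_ne_self hμ hx hxμ hg hgQ) hyμ hxy.symm
  intro e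
  apply hxμ
  rw [← MulAction.mem_stabilizer_iff.1 hg.2] at e
  exact MulAction.injective g e

theorem transit_succ {n : ℕ} (hn : 1 ≤ n) {t : Bool} (hT : Transit M₁ M₂ n t)
    (hM : Mover M₁ M₂ n (endSide n t)) : Transit M₁ M₂ (n + 1) t := by
  intro p q hp hq hps hqs
  obtain ⟨g, hg⟩ := hT p q (hp.take (by omega)) (hq.take (by omega)) hps hqs
  by_cases e : g • p (n + 1) = q (n + 1)
  · refine ⟨g, fun i hi => ?_⟩
    rcases Nat.lt_or_eq_of_le hi with hlt | rfl
    · exact hg i (by omega)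
    · exact e
  obtain ⟨m, g₀, hm, hms, hfix, hg₀⟩ := hM
  have hm0 : Sum.isLeft (m 0) = t := by
    have := hm.side n le_rfl
    rw [hms] at this
    have := congrArg (endSide n) this
    rwa [endSide_endSide, endSide_endSide, eq_comm] at this
  obtain ⟨k, hk⟩ := hT m q hm (hq.take (by omega)) hm0 hqs
  set g' := k * g₀ * k⁻¹ with hg'
  have hfix' : ∀ i, i ≤ n → g' • q i = q i := fun i hi => by
    rw [← hk i hi, hg', mul_smul, mul_smul, inv_smul_smul, hfix i hi]
  have hgQ : g' ∉ vertexQ 2 (q n) := by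
    rw [← hk n le_rfl, ← map_vertexQ]
    rintro ⟨y, hy, e'⟩
    exact hg₀ ((MulAut.conj k).injective e' ▸ hy)
  have hμ : (cosetGraph M₁ M₂).Adj (q n) (q (n - 1)) := by
    have := (hq.adj (n - 1) (by omega)).symm
    rwa [show n - 1 + 1 = n by omega] at this
  have hx : (cosetGraph M₁ M₂).Adj (q n) (g • p (n + 1)) := by
    rw [← hg n le_rfl]; exact adj_smul g (hp.adj n (by omega))
  have hxμ : g • p (n + 1) ≠ q (n - 1) := by
    rw [← hg (n - 1) (by omega)]
    intro e'
    have := hp.nb (n - 1) (by omega)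
    rw [show n - 1 + 2 = n + 1 by omega] at this
    exact this (MulAction.injective g e')
  have hyμ : q (n + 1) ≠ q (n - 1) := by
    have := hq.nb (n - 1) (by omega)
    rwa [show n - 1 + 2 = n + 1 by omega] at this
  have hs := h.swap_any hμ hx (hq.adj n (by omega)) hxμ hyμ e
    ⟨MulAction.mem_stabilizer_iff.2 (hfix' n le_rfl), MulAction.mem_stabilizer_iff.2 (hfix' _ (by omega))⟩
    hgQ
  refine ⟨g' * g, fun i hi => ?_⟩
  rcases Nat.lt_or_eq_of_le hi with hlt | rfl
  · rw [mul_smul, hg i (by omega), hfix' i (by omega)]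
  · rw [mul_smul]; exact hs

theorem transit_of_movers : ∀ n : ℕ, 1 ≤ n → (∀ t, 2 ≤ n → Mover M₁ M₂ (n - 1) t) →
    ∀ t, Transit M₁ M₂ n t := by
  intro n
  induction n with
  | zero => intro h1; omega
  | succ n ih =>
    intro _ hM t
    rcases Nat.eq_zero_or_pos n with rfl | hn
    · exact transit_one t
    have hMn : ∀ t, Mover M₁ M₂ n t := fun t => hM t (by omega)
    exact h.transit_succ hn (ih hn (fun t _ => (hMn t).mono (by omega)) t) (hMn _)

end SThreePair

/-- A path of length `b` from an `A`-vertex whose `Z` is not in `O₂` of the end, `b` being least. -/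
structure ACrit (b : ℕ) (p : ℕ → CosetVertex M₁ M₂) : Prop where
  near : ∀ a ε : CosetVertex M₁ M₂, IsA a → (cosetGraph M₁ M₂).dist a ε < b →
    vertexZ 2 a ≤ vertexQ 2 ε
  start : IsA (p 0)
  adj : ∀ i, i < b → (cosetGraph M₁ M₂).Adj (p i) (p (i + 1))
  nc : ¬ vertexZ 2 (p 0) ≤ vertexQ 2 (p b)

theorem ACrit.isPath (hgen : M₁ ⊔ M₂ = ⊤) {b : ℕ} {p : ℕ → CosetVertex M₁ M₂} (c : ACrit b p) :
    IsPathN b p := by
  refine ⟨c.adj, fun i hi e => c.nc (c.near _ _ c.start ?_)⟩
  have key : ∀ d j, j + d ≤ b → (cosetGraph M₁ M₂).dist (p j) (p (j + d)) ≤ d := by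
    intro d
    induction d with
    | zero => intro j _; simp
    | succ d ih =>
      intro j hj
      have h1 := ih j (by omega)
      have h2 := SimpleGraph.dist_eq_one_iff_adj.2 (c.adj (j + d) (by omega))
      have := (connected hgen).dist_triangle (u := p j) (v := p (j + d)) (w := p (j + d + 1))
      rw [Nat.add_assoc] at h2 this
      omega
  have h1 := key i 0 (by omega)
  have h2 := key (b - (i + 2)) (i + 2) (by omega)
  rw [show i + 2 + (b - (i + 2)) = b by omega, e] at h2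
  rw [Nat.zero_add] at h1
  have := (connected hgen).dist_triangle (u := p 0) (v := p i) (w := p b)
  omega

namespace SThreeCentral

variable (h : SThreeCentral M₁ M₂) [hp : Fact (Nat.Prime 2)]

include h

theorem exists_aCrit : ∃ (b : ℕ) (p : ℕ → CosetVertex M₁ M₂), ACrit b p := by
  classical
  have hex : ∃ n, ∃ a ε : CosetVertex M₁ M₂, IsA a ∧ (cosetGraph M₁ M₂).dist a ε = n ∧
      ¬ vertexZ 2 a ≤ vertexQ 2 ε := by
    by_contra hno
    push Not at hno
    have hA : IsA (base₁ M₁ M₂) := rfl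
    have hk : vertexZ 2 (base₁ M₁ M₂) ≤ (MulAction.toPermHom X (CosetVertex M₁ M₂)).ker := fun z hz => by
      rw [MonoidHom.mem_ker]
      ext e
      exact MulAction.mem_stabilizer_iff.1 (h.Q_le_stab _ (hno _ _ e hA rfl hz))
    rw [h.pair.2.2.2 _ permHom_ker_le inferInstance] at hk
    have hadj : (cosetGraph M₁ M₂).Adj (base₁ M₁ M₂) (base₂ M₁ M₂) := by
      simpa using adj_smul_base (M₁ := M₁) (M₂ := M₂) (1 : X)
    obtain ⟨z, hz, hne⟩ := h.exists_omega hadj
    exact hne (Subgroup.mem_bot.1 (hk (h.omega_le_Z hadj hz)))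
  obtain ⟨a, ε, hA, hd, hnc⟩ := Nat.find_spec hex
  obtain ⟨w, hw⟩ := (connected h.pair.1).exists_walk_length_eq_dist a ε
  refine ⟨Nat.find hex, w.getVert, fun a' ε' ha' hlt => ?_, ?_, fun i hi => ?_, ?_⟩
  · by_contra hno
    exact Nat.find_min hex hlt ⟨a', ε', ha', rfl, hno⟩
  · rw [SimpleGraph.Walk.getVert_zero]; exact hA
  · exact w.adj_getVert_succ (by omega)
  · have hlen : w.length = Nat.find hex := hw.trans hd
    rw [SimpleGraph.Walk.getVert_zero, ← hlen, SimpleGraph.Walk.getVert_length]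
    exact hnc

theorem crit_of_transit {b : ℕ} {p q : ℕ → CosetVertex M₁ M₂} (c : ACrit b p)
    (hT : Transit M₁ M₂ b true) (hq : IsPathN b q) (hs : IsA (q 0)) : ACrit b q := by
  obtain ⟨g, hg⟩ := hT p q (c.isPath h.pair.1) hq c.start hs
  refine ⟨c.near, hs, hq.adj, fun hle => c.nc fun z hz => ?_⟩
  have h1 := hle (hg 0 (Nat.zero_le _) ▸ h.Z_conj (g := g) hz)
  rw [← hg b le_rfl, ← map_vertexQ] at h1
  obtain ⟨y, hy, e⟩ := h1
  exact (MulAut.conj g).injective e ▸ hy

/-- `Z_a` fixes the vertices at distance less than `b`, and their neighbours. -/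
theorem Z_le_edge_of_near {b : ℕ} {p : ℕ → CosetVertex M₁ M₂} (c : ACrit b p) {a ε ε' : CosetVertex M₁ M₂}
    (hA : IsA a) (hd : (cosetGraph M₁ M₂).dist a ε < b) (he : (cosetGraph M₁ M₂).Adj ε ε') :
    vertexZ 2 a ≤ edgeStabilizer ε ε' :=
  (c.near a ε hA hd).trans (h.toSThreePair.vertexQ_le_edge he)

theorem two_le {b : ℕ} {p : ℕ → CosetVertex M₁ M₂} (c : ACrit b p) : 2 ≤ b := by
  by_contra hb
  rcases (show b = 0 ∨ b = 1 by omega) with rfl | rfl
  · exact c.nc (h.Z_le_Q _)
  have hv := c.adj 0 (by omega)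
  set a := p 0 with ha
  set v := p 1 with hv'
  have hA : IsA a := c.start
  have hB := isB_of_adj hv hA
  obtain ⟨z, hz, hzQ⟩ := Set.not_subset.1 c.nc
  have hQe : ∀ q ∈ vertexQ 2 v, q ∈ edgeStabilizer a v := fun q hq => h.Q_le_edge' hv.symm hq
  -- the elements of `G_v` stabilizing `1 < Z_v < Q_v`
  let C : Subgroup X :=
    { carrier := {g | g ∈ MulAction.stabilizer X v ∧ ∀ q ∈ vertexQ 2 v, ⁅g, q⁆ ∈ vertexZ 2 v}
      one_mem' := ⟨one_mem _, fun q _ => by rw [commutatorElement_one_left]; exact one_mem _⟩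
      mul_mem' := fun {g g'} hg hg' => ⟨mul_mem hg.1 hg'.1, fun q hq => by
        rw [commutator_mul_left, h.ZB_commute hB (hg'.2 q hq) hg.1, mul_inv_cancel_right]
        exact mul_mem (hg'.2 q hq) (hg.2 q hq)⟩
      inv_mem' := fun {g} hg => ⟨inv_mem hg.1, fun q hq => by
        have e0 : ⁅g⁻¹, q⁆ = g⁻¹ * ⁅g, q⁆⁻¹ * g⁻¹⁻¹ := by simp only [commutatorElement_def]; group
        rw [e0, h.ZB_commute hB (inv_mem (hg.2 q hq)) (inv_mem hg.1), mul_inv_cancel_right]
        exact inv_mem (hg.2 q hq)⟩ }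
  have hzC : z ∈ C := ⟨(h.Z_le_edge hv hz).2, fun q hq => h.comm_mem hv hA (hQe q hq) hz⟩
  obtain ⟨d, hd, hd3⟩ := h.toSThreePair.exists_order_three (δ := v) (N := C) (fun g hg => hg.1)
    (fun g hg x hx => ⟨mul_mem (mul_mem hg hx.1) (inv_mem hg), fun q hq => by
      have hq' : g⁻¹ * q * g⁻¹⁻¹ ∈ vertexQ 2 v := SThreePair.vertexQ_conj (inv_mem hg) hq
      have h1 := hx.2 _ hq'
      have e : ⁅g * x * g⁻¹, q⁆ = g * ⁅x, g⁻¹ * q * g⁻¹⁻¹⁆ * g⁻¹ := by
        rw [← commutator_conj]; congr 1; group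
      rw [e, h.ZB_commute hB h1 hg, mul_inv_cancel_right]
      exact h1⟩) (fun hle => hzQ (hle hzC))
  have hcd : ∀ q ∈ vertexQ 2 v, d * q = q * d := by
    intro q hq
    obtain ⟨c, hcdef⟩ : ∃ c, c = ⁅d, q⁆ := ⟨_, rfl⟩
    have hcZ : c ∈ vertexZ 2 v := hcdef ▸ hd.2 q hq
    have hdc := h.ZB_commute hB hcZ hd.1
    have e1 : d * q * d⁻¹ = c * q := by rw [hcdef, commutatorElement_def]; group
    have hcomm : ∀ w, d * (c * w) * d⁻¹ = c * (d * w * d⁻¹) := fun w => by
      calc d * (c * w) * d⁻¹ = (d * c) * w * d⁻¹ := by group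
        _ = c * (d * w * d⁻¹) := by rw [hdc]; group
    have e3 : (d * d * d) * q * (d * d * d)⁻¹ = c * c * c * q := by
      calc (d * d * d) * q * (d * d * d)⁻¹ = d * (d * (d * q * d⁻¹) * d⁻¹) * d⁻¹ := by group
        _ = c * (c * (c * q)) := by rw [e1, hcomm, e1, hcomm, hcomm, e1]
        _ = _ := by group
    rw [show d * d * d = 1 by rw [← pow_three', ← hd3, pow_orderOf_eq_one], h.Z_sq hcZ, one_mul,
      inv_one, one_mul, mul_one, eq_comm, mul_eq_right] at e3
    rw [e3, one_mul] at e1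
    calc d * q = d * q * d⁻¹ * d := by rw [inv_mul_cancel_right]
      _ = q * d := by rw [e1]
  refine h.toSThreePair.order_three_notMem_edge hv.symm hd3
    (h.toSThreePair.vertexQ_le_edge hv.symm ?_)
  exact mem_vertexQ_of_centralizes h.charP hd.1 (fun q hq => (hcd q hq).symm)

end SThreeCentral

end CfsgLib.Amalgam
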