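import Cfsg.Agent.Amalgam.SThreeCentralOdd

/-!
Odd critical distance: critical paths can be shifted backwards, and the product of elements of
`Z_u ∖ Z_v` and `Z_w ∖ Z_v` lies in the `Z` of the third neighbour of the `B`-vertex `v`.
-/

set_option autoImplicit false
set_option linter.unusedSectionVars false
set_option linter.unusedVariables false
open Cfsg
open scoped Pointwise commutatorElement

namespace CfsgLib.Amalgam

variable {X : Type*} [Group X] {M₁ M₂ : Subgroup X}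

/-- The product of representatives of two neighbours of a `B`-vertex lies in the `Z` of the third. -/
def SumRel (M₁ M₂ : Subgroup X) : Prop :=
  ∀ v u w t : CosetVertex M₁ M₂, IsB v → (cosetGraph M₁ M₂).Adj v u → (cosetGraph M₁ M₂).Adj v w →
    (cosetGraph M₁ M₂).Adj v t → u ≠ w → t ≠ u → t ≠ w → ∀ s ∈ vertexZ 2 u, ∀ s' ∈ vertexZ 2 w,
    s ∉ vertexZ 2 v → s' ∉ vertexZ 2 v → s * s' ∈ vertexZ 2 t

/-- A product of representatives of the three neighbours of `v`. -/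
def IsW (v : CosetVertex M₁ M₂) (ω : X) : Prop :=
  ∃ u w t : CosetVertex M₁ M₂, ∃ su sw st : X, (cosetGraph M₁ M₂).Adj v u ∧
    (cosetGraph M₁ M₂).Adj v w ∧ (cosetGraph M₁ M₂).Adj v t ∧ u ≠ w ∧ t ≠ u ∧ t ≠ w ∧
    su ∈ vertexZ 2 u ∧ sw ∈ vertexZ 2 w ∧ st ∈ vertexZ 2 t ∧
    su ∉ vertexZ 2 v ∧ sw ∉ vertexZ 2 v ∧ st ∉ vertexZ 2 v ∧ ω = su * sw * st

namespace SThreeCentral

variable (h : SThreeCentral M₁ M₂) [hp : Fact (Nat.Prime 2)]

include h

theorem notMem_of_notMem_Q {b : ℕ} {p : ℕ → CosetVertex M₁ M₂} (c : ACrit b p) (hb : ¬ Even b) {y : X}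
    (hy : y ∉ vertexQ 2 (p b)) : y ∉ vertexZ 2 (p 1) := by
  intro hy1
  have h3 := h.odd_three_le c hb
  have hB := isB_of_adj (c.adj 0 (by omega)) c.start
  have h12 := c.adj 1 (by omega)
  refine hy (c.near (p 2) (p b) (isA_of_adj h12 hB) ?_ (h.ZB_le h12 hB hy1))
  have := (c.isPath h.pair.1).dist_le' h.pair.1 (i := 2) (j := b) (by omega) le_rfl
  omega

theorem mem_Qb_iff (hk : KOne M₁ M₂) {b : ℕ} {p : ℕ → CosetVertex M₁ M₂} (c : ACrit b p) (hb : ¬ Even b)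
    {y : X} (hy : y ∈ vertexZ 2 (p 0)) : y ∈ vertexQ 2 (p b) ↔ y ∈ vertexZ 2 (p 1) := by
  refine ⟨fun hQ => ?_, fun h1 => ?_⟩
  · by_contra hn
    obtain ⟨z, hz, hzQ⟩ := Set.not_subset.1 c.nc
    have hzn := h.notMem_of_notMem_Q c hb hzQ
    have hm := h.ZA_coset hk (c.adj 0 (by have := h.two_le c; omega)) c.start hz hy hzn hn
    refine h.notMem_of_notMem_Q c hb (y := z * y) (fun hh => ?_) hm
    have := mul_mem hh hQ
    rw [mul_assoc, h.Z_sq hy, mul_one] at this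
    exact hzQ this
  · by_contra hn
    exact h.notMem_of_notMem_Q c hb hn h1

theorem nbrZ_commute {b : ℕ} {p : ℕ → CosetVertex M₁ M₂} (c : ACrit b p) (hb : 3 ≤ b)
    {v : CosetVertex M₁ M₂} (hB : IsB v) {x y : X} (hx : x ∈ nbrZ v) (hy : y ∈ nbrZ v) :
    x * y = y * x := by
  have key : ∀ u, (cosetGraph M₁ M₂).Adj v u → ∀ z ∈ vertexZ 2 u,
      nbrZ v ≤ Subgroup.centralizer ({z} : Set X) := by
    intro u hu z hz
    refine nbrZ_le fun w hw z' hz' => Subgroup.mem_centralizer_singleton_iff.2 ?_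
    refine h.Z_commute_Q hz (c.near w u (isA_of_adj hw hB) ?_ hz')
    have h1 := SimpleGraph.dist_eq_one_iff_adj.2 hw.symm
    have h2 := SimpleGraph.dist_eq_one_iff_adj.2 hu
    have := (connected h.pair.1).dist_triangle (u := w) (v := v) (w := u)
    omega
  have hle : nbrZ v ≤ Subgroup.centralizer ({x} : Set X) :=
    nbrZ_le fun u hu z hz =>
      Subgroup.mem_centralizer_singleton_iff.2 (Subgroup.mem_centralizer_singleton_iff.1 (key u hu z hz hx)).symm
  exact (Subgroup.mem_centralizer_singleton_iff.1 (hle hy)).symm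

theorem nbrZ_le_Q {b : ℕ} {p : ℕ → CosetVertex M₁ M₂} (c : ACrit b p) (hb : 3 ≤ b)
    {v a : CosetVertex M₁ M₂} (hB : IsB v) (ha : (cosetGraph M₁ M₂).Adj v a) :
    nbrZ v ≤ vertexQ 2 a := by
  refine nbrZ_le fun w hw => c.near w a (isA_of_adj hw hB) ?_
  have h1 := SimpleGraph.dist_eq_one_iff_adj.2 hw.symm
  have h2 := SimpleGraph.dist_eq_one_iff_adj.2 ha
  have := (connected h.pair.1).dist_triangle (u := w) (v := v) (w := a)
  omega

/-- An element moving a neighbour `u` of `v` centralizes no element of `Z_u ∖ Z_v`. -/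
theorem nc_comm (hk : KOne M₁ M₂) {v u : CosetVertex M₁ M₂} (hu : (cosetGraph M₁ M₂).Adj v u)
    (hB : IsB v) {z x : X} (hzv : z ∈ MulAction.stabilizer X v) (hzu : z • u ≠ u)
    (hx : x ∈ vertexZ 2 u) (hxv : x ∉ vertexZ 2 v) : z * x ≠ x * z := by
  intro e
  have h1 := h.Z_conj (g := z) hx
  rw [e, mul_inv_cancel_right] at h1
  exact hxv (h.nbrs_inf hk hu (SThreePair.adj_of_mem_stabilizer hzv hu) hzu.symm hB hx h1)

theorem exists_shift {b : ℕ} {p : ℕ → CosetVertex M₁ M₂} (P : OPath b p) :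
    ∃ q, OPath b q ∧ (cosetGraph M₁ M₂).Adj (q 1) (p 0) ∧ q 1 ≠ p 1 ∧ q 0 ≠ p 0 ∧
      ∀ j, j + 2 ≤ b → q (j + 2) = p j := by
  obtain ⟨h3, hP, hA0, hB1, hBb, hAe, hAb1, hadj⟩ := h.oPath_facts P
  have hP' := P.crit.isPath h.pair.1
  have h01 := P.crit.adj 0 (by omega)
  suffices ∃ w u, (cosetGraph M₁ M₂).Adj w (p 0) ∧ w ≠ p 1 ∧ (cosetGraph M₁ M₂).Adj u w ∧ u ≠ p 0 ∧
      ¬ vertexZ 2 u ≤ vertexQ 2 (p (b - 2)) by
    obtain ⟨w, u, hw, hw1, hu, hu0, hn⟩ := this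
    have hp2 : IsPathN (b + 1 + 1) (pcons u (pcons w p)) :=
      (hP'.pcons hw (fun _ => hw1)).pcons hu (fun _ => by rw [pcons_succ]; exact hu0)
    have c' : ACrit b (pcons u (pcons w p)) := by
      refine ⟨P.crit.near, isA_of_adj hu.symm (isB_of_adj hw.symm hA0), (hp2.take (by omega)).adj, ?_⟩
      rwa [show b = b - 2 + 1 + 1 by omega, pcons_succ, pcons_succ, pcons_zero]
    obtain ⟨q, Q, hq⟩ := h.exists_oPath c' P.odd
    refine ⟨q, Q, ?_, ?_, ?_, fun j hj => by rw [hq _ hj, pcons_succ, pcons_succ]⟩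
    · rw [hq 1 (by omega)]; exact hw
    · rw [hq 1 (by omega)]; exact hw1
    · rw [hq 0 (by omega)]; exact hu0
  by_contra hno
  push Not at hno
  have hQb2 : ∀ w, (cosetGraph M₁ M₂).Adj w (p 0) → w ≠ p 1 → ∀ u, (cosetGraph M₁ M₂).Adj u w →
      vertexZ 2 u ≤ vertexQ 2 (p (b - 2)) := by
    intro w hw hw1 u hu
    by_cases hu0 : u = p 0
    · rw [hu0]
      refine P.crit.near _ _ hA0 ?_
      have := hP'.dist_le' h.pair.1 (i := 0) (j := b - 2) (by omega) (by omega)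
      omega
    · exact hno w u hw hw1 hu hu0
  obtain ⟨w, hw, hw1⟩ := h.toSThreePair.exists_other h01
  obtain ⟨u, hu, hu0⟩ := h.toSThreePair.exists_other hw.symm
  have notT : ¬ Transit M₁ M₂ b true := by
    intro hT
    have hp2 : IsPathN (b + 1 + 1) (pcons u (pcons w p)) :=
      (hP'.pcons hw.symm (fun _ => hw1)).pcons hu.symm (fun _ => by rw [pcons_succ]; exact hu0)
    have c' := h.crit_of_transit P.crit hT (hp2.take (by omega)) (isA_of_adj hu (isB_of_adj hw hA0))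
    refine c'.nc ?_
    rw [show b = b - 2 + 1 + 1 by omega, pcons_succ, pcons_succ, pcons_zero]
    exact hQb2 w hw.symm hw1 u hu.symm
  rcases (show b = 3 ∨ 5 ≤ b by
    rcases Nat.lt_or_ge b 5 with hlt | hge
    · left
      by_contra hb3
      exact P.odd ⟨2, by omega⟩
    · exact Or.inr hge) with rfl | hb5
  · refine notT (h.odd_transit P.crit P.odd ?_)
    obtain ⟨q, hq, hqQ⟩ := Set.not_subset.1 (h.Q_not_le h01)
    refine ⟨fun i => p (2 - i), q, (hP'.take (by omega)).reverse, by simpa using hA0, fun i hi => ?_,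
      by simpa using hqQ⟩
    show q • p (2 - i) = p (2 - i)
    have e0 := h.toSThreePair.vertexQ_le_edge h01.symm hq
    have e2 := h.toSThreePair.vertexQ_le_edge (P.crit.adj 1 (by omega)) hq
    rcases (show i = 0 ∨ i = 1 ∨ i = 2 by omega) with rfl | rfl | rfl
    · exact MulAction.mem_stabilizer_iff.1 e2.2
    · exact MulAction.mem_stabilizer_iff.1 e0.1
    · exact MulAction.mem_stabilizer_iff.1 e0.2
  have h21 : (cosetGraph M₁ M₂).Adj (p (b - 2)) (p (b - 1)) := by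
    have := P.crit.adj (b - 2) (by omega)
    rwa [show b - 2 + 1 = b - 1 by omega] at this
  have hdist : ∀ v u, (cosetGraph M₁ M₂).Adj (p 0) v → (cosetGraph M₁ M₂).Adj v u → ∀ i, i ≤ b →
      (cosetGraph M₁ M₂).dist u (p i) ≤ i + 2 ∧ (v = p 1 → 1 ≤ i → (cosetGraph M₁ M₂).dist u (p i) ≤ i) := by
    intro v u hv hu i hi
    have h1 := SimpleGraph.dist_eq_one_iff_adj.2 hu.symm
    refine ⟨?_, fun e hi1 => ?_⟩
    · have h2 := SimpleGraph.dist_eq_one_iff_adj.2 hv.symm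
      have h3 := hP'.dist_le' h.pair.1 (i := 0) (j := i) (by omega) hi
      have t1 := (connected h.pair.1).dist_triangle (u := u) (v := v) (w := p i)
      have t2 := (connected h.pair.1).dist_triangle (u := v) (v := p 0) (w := p i)
      omega
    · have h3 := hP'.dist_le' h.pair.1 (i := 1) (j := i) (by omega) hi
      have t1 := (connected h.pair.1).dist_triangle (u := u) (v := p 1) (w := p i)
      rw [e] at h1
      omega
  -- every `Z` at distance 2 from `p 0` is in `Q` of `p i` for `1 ≤ i ≤ b - 1`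
  have hQb1 : ∀ v u, (cosetGraph M₁ M₂).Adj (p 0) v → (cosetGraph M₁ M₂).Adj v u →
      ∀ i, 1 ≤ i → i + 1 ≤ b → vertexZ 2 u ≤ vertexQ 2 (p i) := by
    intro v u hv hu i hi1 hi
    have hAu := isA_of_adj hu (isB_of_adj hv hA0)
    obtain ⟨hd, hd1⟩ := hdist v u hv hu i (by omega)
    by_cases hv1 : v = p 1
    · exact P.crit.near _ _ hAu (by have := hd1 hv1 hi1; omega)
    by_cases hlt : i + 2 < b
    · exact P.crit.near _ _ hAu (by omega)
    by_cases hi2 : i = b - 2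
    · rw [hi2]; exact hQb2 v hv.symm hv1 u hu.symm
    rw [show i = b - 1 by omega]
    by_contra hn
    obtain ⟨g, hg, hgQ⟩ := Set.not_subset.1 hn
    refine notT (h.odd_transit P.crit P.odd ⟨p, g, hP'.take (by omega), hAb1, fun j hj => ?_, hgQ⟩)
    rcases (show j + 2 < b ∨ j = b - 2 ∨ j = b - 1 by omega) with hj' | hj' | hj'
    · refine h.mem_fix P.crit hAu ?_ hg
      have := (hdist v u hv hu j (by omega)).1
      omega
    · rw [hj']
      exact MulAction.mem_stabilizer_iff.1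
        (h.toSThreePair.vertexQ_le_edge h21 (hQb2 v hv.symm hv1 u hu.symm hg)).1
    · rw [hj']
      exact MulAction.mem_stabilizer_iff.1
        (h.toSThreePair.vertexQ_le_edge h21 (hQb2 v hv.symm hv1 u hu.symm hg)).2
  set W := ⨆ (v) (_ : (cosetGraph M₁ M₂).Adj (p 0) v), nbrZ v with hW
  have leW : ∀ v, (cosetGraph M₁ M₂).Adj (p 0) v → nbrZ v ≤ W := fun v hv =>
    le_iSup₂ (f := fun v (_ : (cosetGraph M₁ M₂).Adj (p 0) v) => nbrZ v) v hv
  have Wle : ∀ i, 1 ≤ i → i + 1 ≤ b → W ≤ vertexQ 2 (p i) := fun i hi1 hi =>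
    iSup₂_le fun v hv => nbrZ_le fun u hu => hQb1 v u hv hu i hi1 hi
  obtain ⟨z, hz, hzQ⟩ := Set.not_subset.1 P.crit.nc
  obtain ⟨x, hx, hxQ⟩ := Set.not_subset.1 P.back
  have hzW : z ∈ W := leW _ h01 (le_nbrZ h01.symm hz)
  have hWE : ∀ y ∈ W, y ∈ edgeStabilizer (p b) (p (b - 1)) := fun y hy =>
    h.Q_le_edge' hadj.symm (Wle (b - 1) (by omega) (by omega) hy)
  have hgood : ∀ y ∈ W, y ∈ vertexQ 2 (p b) → x * y * x⁻¹ = y := by
    intro y hy hyQ
    have hyE := h.toSThreePair.vertexQ_le_edge P.adjLast hyQ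
    have hyQe : y ∈ vertexQ 2 (p (b + 1)) := by
      by_contra hn
      have hp1 : IsPathN b (fun i => p (i + 1)) := hP.tail (k := 1) (by omega)
      have mA : Mover M₁ M₂ b true := by
        refine ⟨_, y, hp1, hAe, fun i hi => ?_, hn⟩
        show y • p (i + 1) = p (i + 1)
        rcases (show i + 2 ≤ b ∨ i + 1 = b ∨ i = b by omega) with hi' | hi' | hi'
        · exact MulAction.mem_stabilizer_iff.1 (h.Q_le_stab _ (Wle (i + 1) (by omega) (by omega) hy))
        · rw [hi']; exact MulAction.mem_stabilizer_iff.1 hyE.1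
        · rw [hi']; exact MulAction.mem_stabilizer_iff.1 hyE.2
      exact notT (h.odd_transit P.crit P.odd (mA.mono (by omega)))
    rw [← h.Z_commute_Q hx hyQe, mul_inv_cancel_right]
  have hx12 : x ∈ edgeStabilizer (p 1) (p 2) := by
    have hadj21 : (cosetGraph M₁ M₂).Adj (p 2) (p 1) := (P.crit.adj 1 (by omega)).symm
    refine mem_edge_symm (h.Z_le_edge_of_near P.crit hAe ?_ hadj21 hx)
    have := hP.dist_le' h.pair.1 (i := b + 1) (j := 2) le_rfl (by omega)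
    omega
  have hxz : x * z * x⁻¹ ∈ W := by
    refine leW _ h01 ?_
    have := h.nbrZ_conj (g := x) (le_nbrZ h01.symm hz)
    rwa [MulAction.mem_stabilizer_iff.1 hx12.1] at this
  have hxW : ∀ y ∈ W, x * y * x⁻¹ ∈ W := by
    intro y hy
    by_cases hyQ : y ∈ vertexQ 2 (p b)
    · rw [hgood y hy hyQ]; exact hy
    have hyz := h.toSThreePair.mul_mem_Q hadj (hWE y hy) (hWE z hzW) hyQ hzQ
    have e : x * y * x⁻¹ = (x * (y * z) * x⁻¹) * (x * z * x⁻¹) := by
      calc x * y * x⁻¹ = x * (y * (z * z)) * x⁻¹ := by rw [h.Z_sq hz, mul_one]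
        _ = _ := by group
    rw [e, hgood _ (mul_mem hy hzW) hyz]
    exact mul_mem (mul_mem hy hzW) hxz
  have hn0 : MulAction.stabilizer X (p 0) ≤ Subgroup.normalizer (W : Set X) :=
    le_normalizer_of_conj fun g hg y hy => by
      have hle : W ≤ W.comap (MulAut.conj g).toMonoidHom := iSup₂_le fun v hv y hy =>
        leW _ (SThreePair.adj_of_mem_stabilizer hg hv) (h.nbrZ_conj hy)
      exact hle hy
  have hxN : x ∈ Subgroup.normalizer (W : Set X) := Subgroup.mem_normalizer_iff.2 fun y =>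
    ⟨hxW y, fun hy => by
      have := hxW _ hy
      rw [show x * (x * y * x⁻¹) * x⁻¹ = (x * x) * y * (x * x)⁻¹ by group, h.Z_sq hx] at this
      simpa using this⟩
  have hn1 : MulAction.stabilizer X (p 1) ≤ Subgroup.normalizer (W : Set X) :=
    h.toSThreePair.stab_le_of_edge_le h01.symm (fun g hg => hn0 hg.2) hx12.1
      (h.toSThreePair.smul_ne_self (P.crit.adj 1 (by omega)) h01.symm (hP.nb 0 (by omega)).symm hx12 hxQ)
      hxN
  have hbot := h.toSThreePair.eq_bot_of_normalized h01 (N := W)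
    (fun y hy => h.Q_le_edge' h01.symm (Wle 1 le_rfl (by omega) hy)) hn0 hn1
  exact h.nbrZ_ne_bot (eq_bot_iff.2 ((leW _ h01).trans hbot.le))

variable (hk : KOne M₁ M₂)

include hk

theorem sumRel_iff_exists {v₀ u₀ w₀ t₀ : CosetVertex M₁ M₂} {s₀ s₀' : X} (hB₀ : IsB v₀)
    (hu₀ : (cosetGraph M₁ M₂).Adj v₀ u₀) (hw₀ : (cosetGraph M₁ M₂).Adj v₀ w₀)
    (ht₀ : (cosetGraph M₁ M₂).Adj v₀ t₀) (huw : u₀ ≠ w₀) (htu : t₀ ≠ u₀) (htw : t₀ ≠ w₀)
    (hs₀ : s₀ ∈ vertexZ 2 u₀) (hs₀' : s₀' ∈ vertexZ 2 w₀) (hn₀ : s₀ ∉ vertexZ 2 v₀)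
    (hn₀' : s₀' ∉ vertexZ 2 v₀) (hmem : s₀ * s₀' ∈ vertexZ 2 t₀) : SumRel M₁ M₂ := by
  intro v u w t hB hu hw ht huw' htu' htw' s hs s' hs' hn hn'
  obtain ⟨g, hgv, hgu⟩ := exists_smul_edge hu₀ hu (hB₀.trans hB.symm)
  have hw' : (cosetGraph M₁ M₂).Adj v (g • w₀) := hgv ▸ adj_smul g hw₀
  have hne : g • w₀ ≠ u := by rw [← hgu]; exact fun e => huw (MulAction.injective g e).symm
  obtain ⟨k, hk', hkw⟩ := h.toSThreePair.exists_edge_smul hu hw' hw hne huw'.symm
  have ev : (k * g) • v₀ = v := by rw [mul_smul, hgv, MulAction.mem_stabilizer_iff.1 hk'.1]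
  have eu : (k * g) • u₀ = u := by rw [mul_smul, hgu, MulAction.mem_stabilizer_iff.1 hk'.2]
  have ew : (k * g) • w₀ = w := by rw [mul_smul, hkw]
  have et : (k * g) • t₀ = t := h.toSThreePair.eq_third hu hw (ev ▸ adj_smul _ ht₀) ht huw'
    (eu ▸ fun e => htu (MulAction.injective _ e)) (ew ▸ fun e => htw (MulAction.injective _ e)) htu' htw'
  have a1 := h.Z_conj (g := k * g) hs₀
  have a2 := h.Z_conj (g := k * g) hs₀'
  have a3 := h.Z_conj (g := k * g) hmem
  rw [eu] at a1; rw [ew] at a2; rw [et] at a3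
  have notin : ∀ y : X, y ∉ vertexZ 2 v₀ → (k * g) * y * (k * g)⁻¹ ∉ vertexZ 2 v := by
    intro y hy hh
    rw [← ev, ← map_vertexZ h.toSThreePair] at hh
    obtain ⟨y', hy', e⟩ := hh
    exact hy ((MulAut.conj (k * g)).injective e ▸ hy')
  set y := (k * g) * s₀ * (k * g)⁻¹ with hy
  set y' := (k * g) * s₀' * (k * g)⁻¹ with hy'
  have m1 := h.ZA_coset hk hu.symm (isA_of_adj hu hB) hs a1 hn (notin _ hn₀)
  have m2 := h.ZA_coset hk hw.symm (isA_of_adj hw hB) a2 hs' (notin _ hn₀') hn'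
  have e : s * s' = (s * y) * ((k * g) * (s₀ * s₀') * (k * g)⁻¹) * (y' * s') := by
    calc s * s' = s * (y * y) * ((y' * y') * s') := by rw [h.Z_sq a1, h.Z_sq a2, mul_one, one_mul]
      _ = (s * y) * (y * y') * (y' * s') := by group
      _ = _ := by rw [hy, hy']; group
  rw [e]
  exact mul_mem (mul_mem (h.ZB_le ht hB m1) a3) (h.ZB_le ht hB m2)

theorem isW_conj {v : CosetVertex M₁ M₂} {ω g : X} (hω : IsW v ω) : IsW (g • v) (g * ω * g⁻¹) := by
  obtain ⟨u, w, t, su, sw, st, hu, hw, ht, a1, a2, a3, hsu, hsw, hst, b1, b2, b3, rfl⟩ := hω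
  have notin : ∀ y : X, y ∉ vertexZ 2 v → g * y * g⁻¹ ∉ vertexZ 2 (g • v) := by
    intro y hy hh
    rw [← map_vertexZ h.toSThreePair] at hh
    obtain ⟨y', hy', e⟩ := hh
    exact hy ((MulAut.conj g).injective e ▸ hy')
  exact ⟨g • u, g • w, g • t, _, _, _, adj_smul g hu, adj_smul g hw, adj_smul g ht,
    fun e => a1 (MulAction.injective g e), fun e => a2 (MulAction.injective g e),
    fun e => a3 (MulAction.injective g e), h.Z_conj hsu, h.Z_conj hsw, h.Z_conj hst,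
    notin _ b1, notin _ b2, notin _ b3, by group⟩

theorem isW_mem {v : CosetVertex M₁ M₂} {ω : X} (hω : IsW v ω) : ω ∈ nbrZ v := by
  obtain ⟨u, w, t, su, sw, st, hu, hw, ht, a1, a2, a3, hsu, hsw, hst, b1, b2, b3, rfl⟩ := hω
  exact mul_mem (mul_mem (le_nbrZ hu hsu) (le_nbrZ hw hsw)) (le_nbrZ ht hst)

theorem isW_coset {b : ℕ} {p : ℕ → CosetVertex M₁ M₂} (c : ACrit b p) (hb : 3 ≤ b)
    {v : CosetVertex M₁ M₂} (hB : IsB v) {ω ω' : X} (hω : IsW v ω) (hω' : IsW v ω') :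
    ω * ω' ∈ vertexZ 2 v := by
  obtain ⟨u, w, t, su, sw, st, hu, hw, ht, a1, a2, a3, hsu, hsw, hst, b1, b2, b3, rfl⟩ := hω
  obtain ⟨u', w', t', d, e, f, hu', hw', ht', c1, c2, c3, hd, he, hf, d1, d2, d3, rfl⟩ := hω'
  have co : ∀ {x y : X}, x ∈ nbrZ v → y ∈ nbrZ v → x * y = y * x := fun hx hy => h.nbrZ_commute c hb hB hx hy
  have main : ∀ a b' c' : X, a ∈ vertexZ 2 u → b' ∈ vertexZ 2 w → c' ∈ vertexZ 2 t → a ∉ vertexZ 2 v →
      b' ∉ vertexZ 2 v → c' ∉ vertexZ 2 v → su * sw * st * (a * b' * c') ∈ vertexZ 2 v := by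
    intro a b' c' ha hb' hc' na nb nc
    have m1 := h.ZA_coset hk hu.symm (isA_of_adj hu hB) hsu ha b1 na
    have m2 := h.ZA_coset hk hw.symm (isA_of_adj hw hB) hsw hb' b2 nb
    have m3 := h.ZA_coset hk ht.symm (isA_of_adj ht hB) hst hc' b3 nc
    have e' : su * sw * st * (a * b' * c') = (su * a) * (sw * b') * (st * c') := by
      calc su * sw * st * (a * b' * c') = su * (sw * st * a) * (b' * c') := by group
        _ = su * (a * (sw * st)) * (b' * c') := by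
            rw [co (mul_mem (le_nbrZ hw hsw) (le_nbrZ ht hst)) (le_nbrZ hu ha)]
        _ = su * a * sw * (st * b') * c' := by group
        _ = su * a * sw * (b' * st) * c' := by rw [co (le_nbrZ ht hst) (le_nbrZ hw hb')]
        _ = _ := by group
    rw [e']
    exact mul_mem (mul_mem m1 m2) m3
  have other : ∀ x, (cosetGraph M₁ M₂).Adj v x → x = u ∨ x = w ∨ x = t := by
    intro x hx
    by_cases e1 : x = u
    · exact Or.inl e1
    by_cases e2 : x = w
    · exact Or.inr (Or.inl e2)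
    exact Or.inr (Or.inr (h.toSThreePair.eq_third hu hw hx ht a1 e1 e2 a2 a3))
  have hd' := le_nbrZ hu' hd
  have he' := le_nbrZ hw' he
  have hf' := le_nbrZ ht' hf
  rcases other u' hu' with rfl | rfl | rfl <;> rcases other w' hw' with rfl | rfl | rfl <;>
    rcases other t' ht' with rfl | rfl | rfl <;>
    first
      | exact absurd rfl c1
      | exact absurd rfl c2
      | exact absurd rfl c3
      | exact main d e f hd he hf d1 d2 d3
      | (rw [show d * e * f = d * f * e by rw [mul_assoc, co he' hf', ← mul_assoc]]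
         exact main d f e hd hf he d1 d3 d2)
      | (rw [show d * e * f = e * d * f by rw [co hd' he']]
         exact main e d f he hd hf d2 d1 d3)
      | (rw [show d * e * f = e * f * d by rw [mul_assoc, co hd' (mul_mem he' hf')]]
         exact main e f d he hf hd d2 d3 d1)
      | (rw [show d * e * f = f * d * e by rw [co (mul_mem hd' he') hf', mul_assoc]]
         exact main f d e hf hd he d3 d1 d2)
      | (rw [show d * e * f = f * e * d by rw [co (mul_mem hd' he') hf', co hd' he', mul_assoc]]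
         exact main f e d hf he hd d3 d2 d1)

theorem isW_sq {b : ℕ} {p : ℕ → CosetVertex M₁ M₂} (c : ACrit b p) (hb : 3 ≤ b)
    {v : CosetVertex M₁ M₂} (hB : IsB v) {ω : X} (hω : IsW v ω) : ω * ω = 1 := by
  obtain ⟨u, w, t, su, sw, st, hu, hw, ht, a1, a2, a3, hsu, hsw, hst, b1, b2, b3, rfl⟩ := hω
  have co : ∀ {x y : X}, x ∈ nbrZ v → y ∈ nbrZ v → x * y = y * x := fun hx hy => h.nbrZ_commute c hb hB hx hy
  calc su * sw * st * (su * sw * st) = su * (sw * st * su) * (sw * st) := by group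
    _ = (su * su) * (sw * (st * sw) * st) := by
        rw [co (mul_mem (le_nbrZ hw hsw) (le_nbrZ ht hst)) (le_nbrZ hu hsu)]; group
    _ = (su * su) * ((sw * sw) * (st * st)) := by rw [co (le_nbrZ ht hst) (le_nbrZ hw hsw)]; group
    _ = 1 := by rw [h.Z_sq hsu, h.Z_sq hsw, h.Z_sq hst, one_mul, one_mul]

theorem isW_notMem (hW : ¬ SumRel M₁ M₂) {b : ℕ} {p : ℕ → CosetVertex M₁ M₂} (c : ACrit b p) (hb : 3 ≤ b)
    {v a : CosetVertex M₁ M₂} (hB : IsB v) (ha : (cosetGraph M₁ M₂).Adj v a) {ω : X} (hω : IsW v ω) :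
    ω ∉ vertexZ 2 a := by
  obtain ⟨u, w, t, su, sw, st, hu, hw, ht, a1, a2, a3, hsu, hsw, hst, b1, b2, b3, rfl⟩ := hω
  have co : ∀ {x y : X}, x ∈ nbrZ v → y ∈ nbrZ v → x * y = y * x := fun hx hy => h.nbrZ_commute c hb hB hx hy
  intro hmem
  refine hW ?_
  by_cases e1 : a = u
  · subst e1
    refine h.sumRel_iff_exists hk hB hw ht hu a3.symm a1 a2.symm hsw hst b2 b3 ?_
    rw [show sw * st = su⁻¹ * (su * sw * st) by group]
    exact mul_mem (inv_mem hsu) hmem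
  by_cases e2 : a = w
  · subst e2
    refine h.sumRel_iff_exists hk hB hu ht hw a2.symm a1.symm a3.symm hsu hst b1 b3 ?_
    rw [show su * st = sw⁻¹ * (sw * (su * st)) by group, ← mul_assoc sw,
      ← co (le_nbrZ hu hsu) (le_nbrZ hw hsw)]
    exact mul_mem (inv_mem hsw) hmem
  obtain rfl := h.toSThreePair.eq_third hu hw ha ht a1 e1 e2 a2 a3
  refine h.sumRel_iff_exists hk hB hu hw ht a1 a2 a3 hsu hsw b1 b2 ?_
  rw [show su * sw = su * sw * st * st⁻¹ by group]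
  exact mul_mem hmem (inv_mem hst)

theorem isW_commutator {b : ℕ} {p : ℕ → CosetVertex M₁ M₂} (c : ACrit b p) (hb : 3 ≤ b)
    {v : CosetVertex M₁ M₂} (hB : IsB v) {ω g : X} (hg : g ∈ MulAction.stabilizer X v) (hω : IsW v ω) :
    g * ω * g⁻¹ * ω ∈ vertexZ 2 v := by
  have := h.isW_conj hk (g := g) hω
  rw [MulAction.mem_stabilizer_iff.1 hg] at this
  exact h.isW_coset hk c hb hB this hω

/-- An element of `Q_a` of order 2 centralized by `Q_a` lies in `Z_a`. -/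
theorem mem_ZA_of_central {a : CosetVertex M₁ M₂} (hA : IsA a) {η : X} (hη : η ∈ vertexQ 2 a)
    (hc : ∀ q ∈ vertexQ 2 a, q * η = η * q) (h2 : η * η = 1) : η ∈ vertexZ 2 a := by
  obtain ⟨v, hv⟩ : ∃ v, (cosetGraph M₁ M₂).Adj a v := SThreeActive.exists_adj a
  have hB := isB_of_adj hv hA
  obtain ⟨t, ht, htQ⟩ := h.toSThreePair.exists_edge_not_Q hv
  have inΩ : ∀ y ∈ edgeStabilizer a v, (∀ q ∈ vertexQ 2 a, q * y = y * q) → t * y = y * t →
      y * y = 1 → y ∈ vertexZ 2 v := by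
    intro y hy hyc hyt hy2
    rw [h.ZB_eq hv.symm hB, SThreeActive.omega_symm]
    refine Subgroup.subset_closure ⟨⟨hy, Subgroup.mem_centralizer_iff.2 fun g hg => ?_⟩, by rwa [sq]⟩
    by_cases hgQ : g ∈ vertexQ 2 a
    · exact hyc g hgQ
    have h1 := hyc _ (h.toSThreePair.mul_mem_Q hv hg ht hgQ htQ)
    have h3 : g * y * t = y * g * t := by rw [mul_assoc, ← hyt, ← mul_assoc, h1, mul_assoc]
    exact mul_right_cancel h3
  have hηE : η ∈ edgeStabilizer a v := h.toSThreePair.vertexQ_le_edge hv hη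
  have htt : t * t ∈ vertexQ 2 a := h.toSThreePair.mul_mem_Q hv ht ht htQ htQ
  set ζ := η * (t * η * t⁻¹) with hζ
  have hη' : t * η * t⁻¹ ∈ vertexQ 2 a := SThreePair.vertexQ_conj ht.1 hη
  have hη'c : ∀ q ∈ vertexQ 2 a, q * (t * η * t⁻¹) = (t * η * t⁻¹) * q := by
    intro q hq
    have hq' := hc _ (SThreePair.vertexQ_conj (inv_mem ht.1) hq)
    rw [inv_inv] at hq'
    calc q * (t * η * t⁻¹) = t * ((t⁻¹ * q * t) * η) * t⁻¹ := by group
      _ = t * (η * (t⁻¹ * q * t)) * t⁻¹ := by rw [hq']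
      _ = (t * η * t⁻¹) * q := by group
  have hζv : ζ ∈ vertexZ 2 v := by
    refine inΩ ζ (h.toSThreePair.vertexQ_le_edge hv (mul_mem hη hη')) (fun q hq => ?_) ?_ ?_
    · exact Commute.mul_right (hc q hq) (hη'c q hq)
    · calc t * ζ = (t * η * t⁻¹) * ((t * t) * η) * t⁻¹ := by rw [hζ]; group
        _ = (t * η * t⁻¹) * (η * (t * t)) * t⁻¹ := by rw [hc _ htt]
        _ = (t * η * t⁻¹) * η * t := by group
        _ = ζ * t := by rw [hc _ hη', hζ]
    · calc ζ * ζ = η * ((t * η * t⁻¹) * η) * (t * η * t⁻¹) := by rw [hζ]; group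
        _ = (η * η) * (t * (η * η) * t⁻¹) := by rw [hc _ hη']; group
        _ = 1 := by rw [h2]; group
  have hle := h.ZB_le hv.symm hB
  by_cases h1 : ζ = 1
  · refine hle (inΩ η hηE hc ?_ h2)
    have e : t * η * t⁻¹ = η := by
      calc t * η * t⁻¹ = η⁻¹ * ζ := by rw [hζ, inv_mul_cancel_left]
        _ = η := by rw [h1, mul_one]; exact inv_eq_of_mul_eq_one_right h2
    calc t * η = t * η * t⁻¹ * t := by rw [inv_mul_cancel_right]
      _ = η * t := by rw [e]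
  obtain ⟨s, hs, hsv⟩ := h.exists_mem_notMem hv hA
  have hs' := h.Z_conj_stab ht.1 hs
  have hsζ : s * (t * s * t⁻¹) ∈ vertexZ 2 v := by
    have := h.comm_mem hv hA ht hs
    rw [commutatorElement_def] at this
    rw [show t * s * t⁻¹ = t * s⁻¹ * t⁻¹ by rw [h.Z_inv hs]]
    simpa [mul_assoc] using this
  have hs1 : s * (t * s * t⁻¹) ≠ 1 := by
    intro e
    refine hsv (h.cent_eq hv hA ht htQ hs ?_)
    have e' : t * s * t⁻¹ = s := by rw [eq_inv_of_mul_eq_one_right e, h.Z_inv hs]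
    calc t * s = t * s * t⁻¹ * t := by rw [inv_mul_cancel_right]
      _ = s * t := by rw [e']
  have e := hk v hB ζ hζv _ hsζ h1 hs1
  have hηs : η * s ∈ vertexZ 2 v := by
    have hsQ := h.Z_le_Q a hs
    refine inΩ _ (h.toSThreePair.vertexQ_le_edge hv (mul_mem hη hsQ))
      (fun q hq => Commute.mul_right (hc q hq) (h.Z_commute_Q hs hq)) ?_ ?_
    · have e2 : t * η * t⁻¹ = η * ζ := by rw [hζ, ← mul_assoc η η, h2, one_mul]
      have e3 : t * s * t⁻¹ = s * ζ := by rw [e, ← mul_assoc s s, h.Z_sq hs, one_mul]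
      have e4 : t * (η * s) * t⁻¹ = η * s := by
        calc t * (η * s) * t⁻¹ = (t * η * t⁻¹) * (t * s * t⁻¹) := by group
          _ = η * (ζ * s) * ζ := by rw [e2, e3]; group
          _ = η * (s * ζ) * ζ := by rw [h.Z_comm (hle hζv) hs]
          _ = η * s * (ζ * ζ) := by group
          _ = η * s := by rw [h.Z_sq hζv, mul_one]
      calc t * (η * s) = t * (η * s) * t⁻¹ * t := by rw [inv_mul_cancel_right]
        _ = η * s * t := by rw [e4]
    · calc η * s * (η * s) = η * (s * η) * s := by group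
        _ = (η * η) * (s * s) := by rw [hc s hsQ]; group
        _ = 1 := by rw [h2, h.Z_sq hs, one_mul]
  rw [show η = η * s * s by rw [mul_assoc, h.Z_sq hs, mul_one]]
  exact mul_mem (hle hηs) hs

theorem share_false (hW : ¬ SumRel M₁ M₂) {b : ℕ} {p : ℕ → CosetVertex M₁ M₂} (c : ACrit b p)
    (hb : 3 ≤ b) {a v v' : CosetVertex M₁ M₂} (hA : IsA a) (hv : (cosetGraph M₁ M₂).Adj a v)
    (hv' : (cosetGraph M₁ M₂).Adj a v') (hne : v ≠ v') {ω ω' : X} (hω : IsW v ω) (hω' : IsW v' ω')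
    (hmem : ω * ω' ∈ vertexZ 2 a) : False := by
  have hB := isB_of_adj hv hA
  have hB' := isB_of_adj hv' hA
  have hωQ : ω ∈ vertexQ 2 a := h.nbrZ_le_Q c hb hB hv.symm (h.isW_mem hk hω)
  refine h.isW_notMem hk hW c hb hB hv.symm hω
    (h.mem_ZA_of_central hk hA hωQ (fun q hq => ?_) (h.isW_sq hk c hb hB hω))
  have h1 := h.isW_commutator hk c hb hB (h.Q_le_edge' hv hq).1 hω
  have h2 := h.isW_commutator hk c hb hB' (h.Q_le_edge' hv' hq).1 hω'
  set ζ := ω * ω' with hζ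
  have e0 : ω = ζ * ω' := by rw [hζ, mul_assoc, h.isW_sq hk c hb hB' hω', mul_one]
  have e : q * ω * q⁻¹ * ω = q * ω' * q⁻¹ * ω' := by
    have hco : ζ * ω' = ω' * ζ := (h.Z_commute_Q hmem
      (h.nbrZ_le_Q c hb hB' hv'.symm (h.isW_mem hk hω'))).symm
    have hq' := h.Z_commute_Q hmem hq
    have hco2 : (q * ω' * q⁻¹) * ζ = ζ * (q * ω' * q⁻¹) := h.Z_commute_Q hmem
      (SThreePair.vertexQ_conj (h.Q_le_stab a hq) (h.nbrZ_le_Q c hb hB' hv'.symm (h.isW_mem hk hω')))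
    calc q * ω * q⁻¹ * ω = (q * ζ * q⁻¹) * (q * ω' * q⁻¹) * (ζ * ω') := by rw [e0]; group
      _ = ζ * ((q * ω' * q⁻¹) * ζ) * ω' := by rw [hq', mul_inv_cancel_right]; group
      _ = (ζ * ζ) * (q * ω' * q⁻¹ * ω') := by rw [hco2]; group
      _ = _ := by rw [h.Z_sq hmem, one_mul]
  have := h.inf_eq hv hv' hA hne h1 (e ▸ h2)
  have e' : q * ω * q⁻¹ = ω := by
    rw [eq_inv_of_mul_eq_one_left this]
    exact inv_eq_of_mul_eq_one_right (h.isW_sq hk c hb hB hω)
  calc q * ω = q * ω * q⁻¹ * q := by rw [inv_mul_cancel_right]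
    _ = ω * q := by rw [e']

omit hk in
theorem oPath_x_edge {b : ℕ} {p : ℕ → CosetVertex M₁ M₂} (P : OPath b p) :
    vertexZ 2 (p (b + 1)) ≤ edgeStabilizer (p 1) (p 2) ∧ vertexZ 2 (p (b + 1)) ≤ vertexQ 2 (p 2) := by
  obtain ⟨h3, hP, hA0, hB1, hBb, hAe, hAb1, hadj⟩ := h.oPath_facts P
  have hd : (cosetGraph M₁ M₂).dist (p (b + 1)) (p 2) < b := by
    have := hP.dist_le' h.pair.1 (i := b + 1) (j := 2) le_rfl (by omega)
    omega
  exact ⟨fun x hx => mem_edge_symm (h.Z_le_edge_of_near P.crit hAe hd (P.crit.adj 1 (by omega)).symm hx),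
    P.crit.near _ _ hAe hd⟩

theorem commute_W_one {b : ℕ} {p : ℕ → CosetVertex M₁ M₂} (P : OPath b p) {x ω : X}
    (hx : x ∈ vertexZ 2 (p (b + 1))) (hxQ : x ∉ vertexQ 2 (p 1)) (hω : IsW (p 1) ω) :
    x * ω = ω * x := by
  obtain ⟨h3, hP, hA0, hB1, hBb, hAe, hAb1, hadj⟩ := h.oPath_facts P
  have h01 := P.crit.adj 0 (by omega)
  have h12 := P.crit.adj 1 (by omega)
  have hxE := (h.oPath_x_edge P).1 hx
  obtain ⟨s₂, hs₂, hs₂n⟩ := h.exists_mem_notMem h12.symm (isA_of_adj h12 hB1)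
  obtain ⟨z, hz, hzQ⟩ := Set.not_subset.1 P.crit.nc
  have hzn := h.notMem_of_notMem_Q P.crit P.odd hzQ
  set z' := x * z * x⁻¹ with hz'
  have hz'n : z' ∉ vertexZ 2 (p 1) := by
    intro hh
    refine hzn ?_
    have := h.Z_conj_stab (inv_mem hxE.1) hh
    simpa [hz', mul_assoc] using this
  have hxa : x • p 0 ≠ p 0 := h.toSThreePair.smul_ne_self h12 h01.symm (hP.nb 0 (by omega)).symm hxE hxQ
  have hω₀ : IsW (p 1) (z * z' * s₂) := ⟨p 0, x • p 0, p 2, z, z', s₂, h01.symm,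
    SThreePair.adj_of_mem_stabilizer hxE.1 h01.symm, h12, hxa.symm, hP.nb 0 (by omega), fun e => by
      have e2 : x • p 2 = x • p 0 := (MulAction.mem_stabilizer_iff.1 hxE.2).trans e
      exact hP.nb 0 (by omega) (MulAction.injective x e2), hz, h.Z_conj hz, hs₂, hzn, hz'n, hs₂n, rfl⟩
  have hm := h.isW_coset hk P.crit h3 hB1 hω₀ hω
  have c1 : x * (z * z') = z * z' * x := by
    have hxx := h.Z_sq hx
    have hxi : x⁻¹ = x := h.Z_inv hx
    have hcz : z' * z = z * z' := h.nbrZ_commute P.crit h3 hB1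
      (by rw [hz']; have := h.nbrZ_conj (g := x) (le_nbrZ h01.symm hz)
          rwa [MulAction.mem_stabilizer_iff.1 hxE.1] at this) (le_nbrZ h01.symm hz)
    calc x * (z * z') = x * z * (x * z * x⁻¹) := by rw [hz']; group
      _ = (x * z * x⁻¹) * (x * x) * z * x⁻¹ := by group
      _ = z' * z * x := by rw [hxx, mul_one, hxi, hz', hxi]
      _ = z * z' * x := by rw [hcz]
  have c2 : x * s₂ = s₂ * x := h.Z_commute_Q hs₂ ((h.oPath_x_edge P).2 hx)
  have c3 := (h.ZB_commute hB1 hm hxE.1 : x * (z * z' * s₂ * ω) = z * z' * s₂ * ω * x)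
  have e : ω = (z * z' * s₂)⁻¹ * (z * z' * s₂ * ω) := by rw [inv_mul_cancel_left]
  rw [e]
  exact Commute.mul_right (Commute.inv_right (Commute.mul_right c1 c2)) c3

theorem unbalanced (hW : ¬ SumRel M₁ M₂) {b : ℕ} {p : ℕ → CosetVertex M₁ M₂} (P : OPath b p)
    {v a u : CosetVertex M₁ M₂} (hB : IsB v) (ha : (cosetGraph M₁ M₂).Adj v a)
    (hu : (cosetGraph M₁ M₂).Adj v u) (hne : a ≠ u) :
    ∃ q ∈ vertexQ 2 v, q ∈ vertexQ 2 a ∧ q ∉ vertexQ 2 u := by
  by_contra hno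
  push Not at hno
  obtain ⟨h3, hP, hA0, hB1, hBb, hAe, hAb1, hadj⟩ := h.oPath_facts P
  have h01 := P.crit.adj 0 (by omega)
  have h12 := P.crit.adj 1 (by omega)
  have hall : ∀ u', (cosetGraph M₁ M₂).Adj (p 1) u' → ∀ q ∈ vertexQ 2 (p 1), q ∈ vertexQ 2 (p 2) →
      q ∈ vertexQ 2 u' := by
    intro u' hu' q hq1 hq2
    by_cases e : u' = p 2
    · rw [e]; exact hq2
    obtain ⟨g, hgv, hga⟩ := exists_smul_edge ha h12 (hB.trans hB1.symm)
    have hw' : (cosetGraph M₁ M₂).Adj (p 1) (g • u) := hgv ▸ adj_smul g hu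
    have hne' : g • u ≠ p 2 := by rw [← hga]; exact fun e' => hne (MulAction.injective g e').symm
    obtain ⟨k, hk', hkw⟩ := h.toSThreePair.exists_edge_smul h12 hw' hu' hne' e
    have ev : (k * g) • v = p 1 := by rw [mul_smul, hgv, MulAction.mem_stabilizer_iff.1 hk'.1]
    have ea : (k * g) • a = p 2 := by rw [mul_smul, hga, MulAction.mem_stabilizer_iff.1 hk'.2]
    have eu : (k * g) • u = u' := by rw [mul_smul, hkw]
    rw [← ev, ← map_vertexQ] at hq1
    rw [← ea, ← map_vertexQ] at hq2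
    obtain ⟨q₁, hq₁, rfl⟩ := hq1
    obtain ⟨q₂, hq₂, e₂⟩ := hq2
    rw [(MulAut.conj (k * g)).injective e₂] at hq₂
    rw [← eu, ← map_vertexQ]
    exact ⟨q₁, hno q₁ hq₁ hq₂, rfl⟩
  obtain ⟨x, hx, hxQ⟩ := Set.not_subset.1 P.back
  have hA2 := isA_of_adj h12 hB1
  obtain ⟨s₂, hs₂, hs₂n⟩ := h.exists_mem_notMem h12.symm hA2
  obtain ⟨s₀, hs₀, hs₀n⟩ := h.exists_mem_notMem h01 hA0
  obtain ⟨t, ht, ht0, ht2⟩ := h.toSThreePair.exists_third h01.symm (p 2)
  obtain ⟨st, hst, hstn⟩ := h.exists_mem_notMem ht.symm (isA_of_adj ht hB1)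
  have hω : IsW (p 1) (s₀ * s₂ * st) := ⟨p 0, p 2, t, _, _, _, h01.symm, h12, ht,
    (hP.nb 0 (by omega)).symm, ht0, ht2, hs₀, hs₂, hst, hs₀n, hs₂n, hstn, rfl⟩
  refine h.isW_notMem hk hW P.crit h3 hB1 h12 hω (h.mem_ZA_of_central hk hA2
    (h.nbrZ_le_Q P.crit h3 hB1 h12 (h.isW_mem hk hω)) (fun q hq => ?_) (h.isW_sq hk P.crit h3 hB1 hω))
  have hD : ∀ q ∈ vertexQ 2 (p 1), q ∈ vertexQ 2 (p 2) → q * (s₀ * s₂ * st) = (s₀ * s₂ * st) * q :=
    fun q hq1 hq2 => Commute.mul_right (Commute.mul_right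
      (h.Z_commute_Q hs₀ (hall _ h01.symm q hq1 hq2)) (h.Z_commute_Q hs₂ hq2))
      (h.Z_commute_Q hst (hall _ ht q hq1 hq2))
  by_cases hq1 : q ∈ vertexQ 2 (p 1)
  · exact hD q hq1 hq
  have hx2 := (h.oPath_x_edge P).2 hx
  have h1 := hD _ (h.toSThreePair.mul_mem_Q h12 (h.Q_le_edge' h12.symm hq) ((h.oPath_x_edge P).1 hx) hq1 hxQ)
    (mul_mem hq hx2)
  have h2 := h.commute_W_one hk P hx hxQ hω
  have h3 : q * (s₀ * s₂ * st) * x = (s₀ * s₂ * st) * q * x := by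
    calc q * (s₀ * s₂ * st) * x = q * (x * (s₀ * s₂ * st)) := by rw [h2, mul_assoc]
      _ = (s₀ * s₂ * st) * (q * x) := by rw [← mul_assoc, h1]
      _ = _ := (mul_assoc _ _ _).symm
  exact mul_right_cancel h3

theorem sumRel {b : ℕ} {p : ℕ → CosetVertex M₁ M₂} (P : OPath b p) : SumRel M₁ M₂ := by
  by_contra hW
  obtain ⟨h3, hP, hA0, hB1, hBb, hAe, hAb1, hadj⟩ := h.oPath_facts P
  have hc := P.crit
  have h01 := hc.adj 0 (by omega)
  have h12 := hc.adj 1 (by omega)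
  obtain ⟨q, Q, hqw, hqw1, hq0, hqj⟩ := h.exists_shift P
  obtain ⟨-, hQ, hQA0, hQB1, hQBb, hQAe, -, hQadj⟩ := h.oPath_facts Q
  have e2 : q 2 = p 0 := hqj 0 (by omega)
  have hqb : q b = p (b - 2) := by
    have := hqj (b - 2) (by omega)
    rwa [show b - 2 + 2 = b by omega] at this
  obtain ⟨zq, hzq, hzqQ⟩ := Set.not_subset.1 Q.crit.nc
  obtain ⟨xq, hxq, hxqQ⟩ := Set.not_subset.1 Q.back
  have hxqE := (h.oPath_x_edge Q).1 hxq
  have hzqn := h.notMem_of_notMem_Q Q.crit Q.odd hzqQ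
  set w := q 1 with hwdef
  set a'' := xq • q 0
  set z' := xq * zq * xq⁻¹ with hz'
  have hz'Z : z' ∈ vertexZ 2 a'' := h.Z_conj hzq
  have hz'n : z' ∉ vertexZ 2 w := by
    intro hh
    refine hzqn ?_
    have := h.Z_conj_stab (inv_mem hxqE.1) hh
    simpa [hz', mul_assoc] using this
  have hw01 : (cosetGraph M₁ M₂).Adj w (q 0) := (Q.crit.adj 0 (by omega)).symm
  have hqne : q 0 ≠ q 2 := (hQ.nb 0 (by omega)).symm
  have ha''0 : a'' ≠ q 0 :=
    h.toSThreePair.smul_ne_self (Q.crit.adj 1 (by omega)) hw01 hqne hxqE hxqQ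
  have ha''2 : a'' ≠ q 2 := fun e => by
    have e' : xq • q 2 = xq • q 0 := (MulAction.mem_stabilizer_iff.1 hxqE.2).trans e.symm
    exact hqne (MulAction.injective xq e').symm
  have mkW : ∀ s₀ ∈ vertexZ 2 (p 0), s₀ ∉ vertexZ 2 w → IsW w (zq * z' * s₀) := fun s₀ hs₀ hs₀n =>
    ⟨q 0, a'', q 2, zq, z', s₀, hw01, SThreePair.adj_of_mem_stabilizer hxqE.1 hw01,
      Q.crit.adj 1 (by omega), ha''0.symm, hqne.symm, ha''2.symm, hzq, hz'Z, e2.symm ▸ hs₀, hzqn,
      hz'n, hs₀n, rfl⟩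
  obtain ⟨r₁, hr₁, hr₁1⟩ := h.ZB_exists hB1
  have hr₁0 : r₁ ∈ vertexZ 2 (p 0) := h.ZB_le h01.symm hB1 hr₁
  have hr₁w : r₁ ∉ vertexZ 2 w := fun hh => hr₁1 (h.inf_eq hqw.symm h01 hA0 hqw1 hh hr₁)
  -- `zq * z'` is a commutator in the group of the neighbours of `q b`
  set xq' := zq * xq * zq⁻¹ with hxq'
  have hzqE := h.odd_z_edge Q.crit Q.odd hzq
  have hxq'Z : xq' ∈ vertexZ 2 (zq • q (b + 1)) := h.Z_conj hxq
  have er : zq * z' = xq' * xq := by
    rw [hz', hxq', h.Z_inv hzq, h.Z_inv hxq]; group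
  rcases (show b = 3 ∨ 5 ≤ b by
    rcases Nat.lt_or_ge b 5 with hlt | hge
    · left
      by_contra hb3
      exact P.odd ⟨2, by omega⟩
    · exact Or.inr hge) with rfl | hb5
  · obtain ⟨rw', hrw, hrw1⟩ := h.ZB_exists hQB1
    have hrw0 : rw' ∈ vertexZ 2 (p 0) := h.ZB_le hqw hQB1 hrw
    have hs1 : rw' * r₁ ∉ vertexZ 2 (p 1) := fun hh => hrw1
      (h.inf_eq hqw.symm h01 hA0 hqw1 hrw (by simpa using mul_mem hh (inv_mem hr₁)))
    have hsw : rw' * r₁ ∉ vertexZ 2 w := fun hh => hr₁w (by simpa using mul_mem (inv_mem hrw) hh)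
    have hs0 : rw' * r₁ ∈ vertexZ 2 (p 0) := mul_mem hrw0 hr₁0
    have hWw := mkW _ hs0 hsw
    rw [er] at hWw
    have e3 : q 3 = p 1 := hqj 1 (by omega)
    have hxqn : xq ∉ vertexZ 2 (p 1) := by
      intro hh
      refine hxqQ ((Q.crit.near (q 2) w (e2.symm ▸ hA0) ?_) (h.ZB_le (a := q 2) ?_ (e3 ▸ hB1) hh))
      · have hq21 : (cosetGraph M₁ M₂).Adj (q 2) w := (Q.crit.adj 1 (by omega)).symm
        have := SimpleGraph.dist_eq_one_iff_adj.2 hq21
        omega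
      · rw [e2]; exact h01.symm
    have hz1 : zq ∈ MulAction.stabilizer X (p 1) := e3 ▸ hzqE.1
    have hxq'n : xq' ∉ vertexZ 2 (p 1) := by
      intro hh
      refine hxqn ?_
      have := h.Z_conj_stab (inv_mem hz1) hh
      simpa [hxq', mul_assoc] using this
    have hne43 : q (3 + 1) ≠ q 2 := Q.neLast
    have hzmove : zq • q (3 + 1) ≠ q (3 + 1) :=
      h.toSThreePair.smul_ne_self hQadj Q.adjLast Q.neLast hzqE hzqQ
    have hne2 : zq • q (3 + 1) ≠ q 2 := fun e => by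
      have e' : zq • q 2 = zq • q (3 + 1) := (MulAction.mem_stabilizer_iff.1 hzqE.2).trans e.symm
      exact hne43 (MulAction.injective zq e').symm
    have hW1 : IsW (p 1) (xq' * xq * (rw' * r₁)) :=
      ⟨zq • q (3 + 1), q (3 + 1), p 0, xq', xq, rw' * r₁,
        SThreePair.adj_of_mem_stabilizer hz1 (e3 ▸ Q.adjLast), e3 ▸ Q.adjLast,
        h01.symm, hzmove, by rw [← e2]; exact hne2.symm, by rw [← e2]; exact hne43.symm,
        hxq'Z, hxq, hs0, hxq'n, hxqn, hs1, rfl⟩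
    refine h.share_false hk hW hc (by omega) hA0 hqw.symm h01 hqw1 hWw hW1 ?_
    rw [h.isW_sq hk hc (by omega) hQB1 hWw]
    exact one_mem _
  -- `b ≥ 5`
  obtain ⟨x, hx, hxQ⟩ := Set.not_subset.1 P.back
  have hxE := (h.oPath_x_edge P).1 hx
  set ω := zq * z' * r₁ with hω
  have hωW : IsW w ω := mkW r₁ hr₁0 hr₁w
  have hωx : x * ω = ω * x := by
    have c1 : x * r₁ = r₁ * x := h.ZB_commute hB1 hr₁ hxE.1
    have hnb : ∀ n, (cosetGraph M₁ M₂).Adj (q b) n → ∀ y ∈ vertexZ 2 n, x * y = y * x := by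
      intro n hn y hy
      refine h.Z_commute_Q hy (hc.near (p (b + 1)) n hAe ?_ hx)
      have h1 := SimpleGraph.dist_eq_one_iff_adj.2 hn
      have h2 := hP.dist_le' h.pair.1 (i := b + 1) (j := b - 2) le_rfl (by omega)
      rw [hqb] at h1
      have := (connected h.pair.1).dist_triangle (u := p (b + 1)) (v := p (b - 2)) (w := n)
      omega
    rw [hω, er]
    exact Commute.mul_right (Commute.mul_right
      (hnb _ (SThreePair.adj_of_mem_stabilizer hzqE.1 Q.adjLast) _ hxq'Z) (hnb _ Q.adjLast _ hxq)) c1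
  set c₀ := x • p 0 with hc₀
  have hA'' : IsA c₀ := by rw [IsA, isLeft_smul]; exact hA0
  have hc1 : (cosetGraph M₁ M₂).Adj (p 1) c₀ := SThreePair.adj_of_mem_stabilizer hxE.1 h01.symm
  have hc0 : c₀ ≠ p 0 := h.toSThreePair.smul_ne_self h12 h01.symm (hP.nb 0 (by omega)).symm hxE hxQ
  have hc2 : c₀ ≠ p 2 := fun e => by
    have e' : x • p 2 = x • p 0 := (MulAction.mem_stabilizer_iff.1 hxE.2).trans e.symm
    exact hP.nb 0 (by omega) (MulAction.injective x e')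
  have hω' : IsW (x • w) ω := by
    have := h.isW_conj hk (g := x) hωW
    rwa [hωx, mul_inv_cancel_right] at this
  have hw'' : (cosetGraph M₁ M₂).Adj c₀ (x • w) := adj_smul x hqw.symm
  have hw''1 : x • w ≠ p 1 := fun e => hqw1 (MulAction.injective x
    (e.trans (MulAction.mem_stabilizer_iff.1 hxE.1).symm))
  obtain ⟨g, hg1, hg0, hgn⟩ := h.unbalanced hk hW P hB1 h01.symm hc1 hc0.symm
  have hgc : g ∈ edgeStabilizer c₀ (p 1) := h.Q_le_edge' hc1 hg1
  have hgw : g ∈ MulAction.stabilizer X w := (h.Q_le_edge' hqw.symm hg0).1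
  have hmove : g • x • w ≠ x • w := h.toSThreePair.smul_ne_self hc1.symm hw'' hw''1 hgc hgn
  have hg3 : (cosetGraph M₁ M₂).Adj c₀ (g • x • w) := SThreePair.adj_of_mem_stabilizer hgc.1 hw''
  have hg31 : g • x • w ≠ p 1 := fun e => hw''1 (MulAction.injective g
    (e.trans (MulAction.mem_stabilizer_iff.1 hgc.2).symm))
  have hω3 := h.isW_conj hk (g := g) hω'
  set ρ := g * ω * g⁻¹ * ω with hρ
  have hρw : ρ ∈ vertexZ 2 w := h.isW_commutator hk hc h3 hQB1 hgw hωW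
  by_cases hρ1 : ρ = 1
  · have e : g * ω * g⁻¹ = ω := by
      rw [eq_inv_of_mul_eq_one_left hρ1]
      exact inv_eq_of_mul_eq_one_right (h.isW_sq hk hc h3 hQB1 hωW)
    rw [e] at hω3
    refine h.share_false hk hW hc h3 hA'' hg3 hw'' hmove hω3 hω' ?_
    rw [h.isW_sq hk hc h3 hQB1 hωW]
    exact one_mem _
  have hρ0 : ρ ∈ vertexZ 2 (p 0) := h.ZB_le hqw hQB1 hρw
  have hρn : ρ ∉ vertexZ 2 (p 1) := fun hh => hρ1 (h.inf_eq hqw.symm h01 hA0 hqw1 hρw hh)
  obtain ⟨k, hk1, hkQ⟩ := h.toSThreePair.exists_edge_not_Q hc1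
  have hk0 : k • p 0 = p 2 :=
    h.toSThreePair.swap_any hc1 h01.symm h12 hc0.symm hc2.symm (hP.nb 0 (by omega)).symm hk1 hkQ
  have hρk : k * ρ * k⁻¹ ∈ vertexZ 2 (p 2) := hk0 ▸ h.Z_conj hρ0
  have hρkn : k * ρ * k⁻¹ ∉ vertexZ 2 (p 1) := by
    intro hh
    refine hρn ?_
    have := h.Z_conj_stab (inv_mem hk1.1) hh
    simpa [mul_assoc] using this
  have hB'' := isB_of_adj hw'' hA''
  have hB3 := isB_of_adj hg3 hA''
  set ω' := g * ω * g⁻¹ with hω'def
  have third : ∀ n, (cosetGraph M₁ M₂).Adj c₀ n → n ≠ p 1 → n = x • w ∨ n = g • x • w := by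
    intro n hn hn1
    by_cases e : n = x • w
    · exact Or.inl e
    exact Or.inr (h.toSThreePair.eq_third hc1.symm hw'' hn hg3 hw''1.symm hn1 e hg31 hmove)
  have hkc : k ∈ MulAction.stabilizer X c₀ := hk1.2
  have hn1 : ∀ n, n ≠ p 1 → k • n ≠ p 1 := fun n hn e => hn (MulAction.injective k
    (e.trans (MulAction.mem_stabilizer_iff.1 hk1.1).symm))
  have hz₁ := h.isW_conj hk (g := k) hω'
  have hz₂ := h.isW_conj hk (g := k) hω3
  have hωQ : ω ∈ vertexQ 2 c₀ := h.nbrZ_le_Q hc h3 hB'' hw''.symm (h.isW_mem hk hω')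
  have hω'Q : ω' ∈ vertexQ 2 c₀ := h.nbrZ_le_Q hc h3 hB3 hg3.symm (h.isW_mem hk hω3)
  have swapcase : k * ρ * k⁻¹ * ρ ∈ vertexZ 2 c₀ := by
    have e0 : k * ρ * k⁻¹ * ρ = (k * ω' * k⁻¹) * (k * ω * k⁻¹ * ω') * ω := by rw [hρ]; group
    have lez : ∀ n, (cosetGraph M₁ M₂).Adj c₀ n → vertexZ 2 n ≤ vertexZ 2 c₀ := fun n hn =>
      h.ZB_le hn.symm (isB_of_adj hn hA'')
    rcases third _ (SThreePair.adj_of_mem_stabilizer hkc hw'') (hn1 _ hw''1) with e | e
    · -- both are fixed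
      have e3 : k • g • x • w = g • x • w := by
        rcases third _ (SThreePair.adj_of_mem_stabilizer hkc hg3) (hn1 _ hg31) with e' | e'
        · exact absurd (MulAction.injective k (e'.trans e.symm)) hmove
        · exact e'
      rw [e] at hz₁; rw [e3] at hz₂
      have m1 := lez _ hw'' (h.isW_coset hk hc h3 hB'' hz₁ hω')
      have m2 := lez _ hg3 (h.isW_coset hk hc h3 hB3 hz₂ hω3)
      set ζ := k * ω * k⁻¹ * ω with hζ
      have hζc := h.Z_commute_Q m1 hω'Q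
      have e1 : k * ω * k⁻¹ * ω' * ω = ζ * (ω * ω') * ω := by
        rw [hζ]
        calc k * ω * k⁻¹ * ω' * ω = k * ω * k⁻¹ * (ω * ω) * ω' * ω := by
              rw [h.isW_sq hk hc h3 hQB1 hωW, mul_one]
          _ = _ := by group
      have hωω' : ω * ω' = ω' * ω := by
        have h1 := h.isW_sq hk hc h3 hB'' hω'
        have h2 := h.isW_sq hk hc h3 hB3 hω3
        have h3' := h.Z_sq hρw
        rw [hρ] at h3'
        calc ω * ω' = (ω' * ω)⁻¹ := by
              rw [mul_inv_rev, inv_eq_of_mul_eq_one_right h1, inv_eq_of_mul_eq_one_right h2]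
          _ = ω' * ω := inv_eq_of_mul_eq_one_right h3'
      rw [e0]
      have e4 : (k * ω' * k⁻¹) * (k * ω * k⁻¹ * ω') * ω = (k * ω' * k⁻¹ * ω') * ζ := by
        calc (k * ω' * k⁻¹) * (k * ω * k⁻¹ * ω') * ω
            = (k * ω' * k⁻¹) * (k * ω * k⁻¹) * (ω' * ω) := by group
          _ = (k * ω' * k⁻¹) * (k * ω * k⁻¹) * (ω * ω') := by rw [hωω']
          _ = (k * ω' * k⁻¹) * (ζ * ω') := by rw [hζ]; group
          _ = (k * ω' * k⁻¹) * (ω' * ζ) := by rw [hζc]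
          _ = _ := by group
      rw [e4]
      exact mul_mem m2 m1
    · -- they are interchanged
      have e3 : k • g • x • w = x • w := by
        rcases third _ (SThreePair.adj_of_mem_stabilizer hkc hg3) (hn1 _ hg31) with e' | e'
        · exact e'
        · exact absurd (MulAction.injective k (e'.trans e.symm)) hmove
      rw [e] at hz₁; rw [e3] at hz₂
      have m1 := lez _ hg3 (h.isW_coset hk hc h3 hB3 hz₁ hω3)
      have m2 := lez _ hw'' (h.isW_coset hk hc h3 hB'' hz₂ hω')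
      rw [e0, show (k * ω' * k⁻¹) * (k * ω * k⁻¹ * ω') * ω =
        (k * ω' * k⁻¹) * ((k * ω * k⁻¹ * ω') * ω) by group, ← h.Z_commute_Q m1 hωQ,
        show (k * ω' * k⁻¹) * (ω * (k * ω * k⁻¹ * ω')) =
          (k * ω' * k⁻¹ * ω) * (k * ω * k⁻¹ * ω') by group]
      exact mul_mem m2 m1
  exact hW (h.sumRel_iff_exists hk hB1 h12 h01.symm hc1 (hP.nb 0 (by omega)) hc2 hc0 hρk hρ0 hρkn hρn
    swapcase)

end SThreeCentral

end CfsgLib.Amalgam
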