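import Cfsg.Agent.Amalgam.SThreeCentralLong

/-!
Critical distance 3: the edge stabilizers have order at most 128.
-/

set_option autoImplicit false
set_option linter.unusedSectionVars false
set_option linter.unusedVariables false
open Cfsg
open scoped Pointwise commutatorElement

namespace CfsgLib.Amalgam

variable {X : Type*} [Group X] {M₁ M₂ : Subgroup X}

/-- Two elements inducing the same transvection `s ↦ s * r` multiply into the centralizer of `s`. -/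
theorem mul_commute_of_conj_eq {g g' s r : X} (hg : g * s * g⁻¹ = s * r) (hg' : g' * s * g'⁻¹ = s * r)
    (hr : g * r = r * g) (hr2 : r * r = 1) : g * g' * s = s * (g * g') := by
  have e : g * g' * s * (g * g')⁻¹ = s := by
    calc g * g' * s * (g * g')⁻¹ = g * (g' * s * g'⁻¹) * g⁻¹ := by group
      _ = (g * s * g⁻¹) * (g * r * g⁻¹) := by rw [hg']; group
      _ = s * (r * r) := by rw [hg, hr, mul_inv_cancel_right, mul_assoc]
      _ = s := by rw [hr2, mul_one]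
  calc g * g' * s = g * g' * s * (g * g')⁻¹ * (g * g') := by rw [inv_mul_cancel_right]
    _ = s * (g * g') := by rw [e]

namespace SThreeCentral

variable (h : SThreeCentral M₁ M₂) [hp : Fact (Nat.Prime 2)]

include h

theorem transit_three {p : ℕ → CosetVertex M₁ M₂} (c : ACrit 3 p) : Transit M₁ M₂ 3 true := by
  have hP := c.isPath h.pair.1
  have h01 : (cosetGraph M₁ M₂).Adj (p 0) (p 1) := c.adj 0 (by omega)
  have h12 : (cosetGraph M₁ M₂).Adj (p 1) (p 2) := c.adj 1 (by omega)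
  refine h.odd_transit c (by decide) ?_
  obtain ⟨q, hq, hqQ⟩ := Set.not_subset.1 (h.Q_not_le h01)
  refine ⟨fun i => p (2 - i), q, (hP.take (by omega)).reverse, by simpa using c.start, fun i hi => ?_,
    by simpa using hqQ⟩
  show q • p (2 - i) = p (2 - i)
  have e0 := h.toSThreePair.vertexQ_le_edge h01.symm hq
  have e2 := h.toSThreePair.vertexQ_le_edge h12 hq
  rcases (show i = 0 ∨ i = 1 ∨ i = 2 by omega) with rfl | rfl | rfl
  · exact MulAction.mem_stabilizer_iff.1 e2.2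
  · exact MulAction.mem_stabilizer_iff.1 e0.1
  · exact MulAction.mem_stabilizer_iff.1 e0.2

variable (hk : KOne M₁ M₂) (hS : SumRel M₁ M₂) {p : ℕ → CosetVertex M₁ M₂} (c : ACrit 3 p)

include hk hS c

theorem rep_notMem_Q {a v v' u : CosetVertex M₁ M₂} (hA : IsA a) (hv : (cosetGraph M₁ M₂).Adj a v)
    (hv' : (cosetGraph M₁ M₂).Adj a v') (hne : v ≠ v') (hu : (cosetGraph M₁ M₂).Adj v u) (hua : u ≠ a)
    {s : X} (hs : s ∈ vertexZ 2 u) (hsn : s ∉ vertexZ 2 v) : s ∉ vertexQ 2 v' := by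
  have hq : IsPathN (0 + 1 + 1 + 1) (pcons u (pcons v (pcons a (fun _ => v')))) :=
    (((⟨fun i hi => absurd hi (by omega), fun i hi => by omega⟩ :
      IsPathN 0 (fun _ : ℕ => v')).pcons hv' (fun h1 => by omega)).pcons hv.symm
      (fun _ => by rw [pcons_succ]; exact hne)).pcons hu.symm (fun _ => by rw [pcons_succ]; exact hua)
  have hA' := isA_of_adj hu (isB_of_adj hv hA)
  have cq := h.crit_of_transit c (h.transit_three c) hq hA'
  exact fun hh => hsn ((h.mem_Qb_iff hk cq (by decide) hs).1 hh)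

theorem nbrZ_cases {a v u : CosetVertex M₁ M₂} (hA : IsA a) (hv : (cosetGraph M₁ M₂).Adj a v)
    (hu : (cosetGraph M₁ M₂).Adj v u) (hua : u ≠ a) {s η : X} (hs : s ∈ vertexZ 2 u)
    (hsn : s ∉ vertexZ 2 v) (hη : η ∈ nbrZ v) : η ∈ vertexZ 2 a ∨ η * s ∈ vertexZ 2 a := by
  have hB := isB_of_adj hv hA
  have hsN : s ∈ nbrZ v := le_nbrZ hu hs
  have co : ∀ {x y : X}, x ∈ nbrZ v → y ∈ nbrZ v → x * y = y * x :=
    fun hx hy => h.nbrZ_commute c (le_refl 3) hB hx hy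
  have haN : vertexZ 2 a ≤ nbrZ v := le_nbrZ hv.symm
  let S : Subgroup X :=
    { carrier := {η | η ∈ nbrZ v ∧ (η ∈ vertexZ 2 a ∨ η * s ∈ vertexZ 2 a)}
      one_mem' := ⟨one_mem _, Or.inl (one_mem _)⟩
      mul_mem' := fun {x y} hx hy => by
        refine ⟨mul_mem hx.1 hy.1, ?_⟩
        rcases hx.2 with h1 | h1 <;> rcases hy.2 with h2 | h2
        · exact Or.inl (mul_mem h1 h2)
        · exact Or.inr (by rw [mul_assoc]; exact mul_mem h1 h2)
        · refine Or.inr ?_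
          rw [mul_assoc, co hy.1 hsN, ← mul_assoc]
          exact mul_mem h1 h2
        · refine Or.inl ?_
          have e : x * y = (x * s) * (y * s) := by
            calc x * y = x * (s * s) * y := by rw [h.Z_sq hs, mul_one]
              _ = x * s * (s * y) := by group
              _ = _ := by rw [co hsN hy.1]
          rw [e]; exact mul_mem h1 h2
      inv_mem' := fun {x} hx => by
        refine ⟨inv_mem hx.1, ?_⟩
        rcases hx.2 with h1 | h1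
        · exact Or.inl (inv_mem h1)
        · refine Or.inr ?_
          have e : x⁻¹ * s = (x * s)⁻¹ := by rw [mul_inv_rev, h.Z_inv hs, co (inv_mem hx.1) hsN]
          rw [e]; exact inv_mem h1 }
  have hle : nbrZ v ≤ S := by
    refine nbrZ_le fun w hw y hy => ⟨le_nbrZ hw hy, ?_⟩
    by_cases hwa : w = a
    · exact Or.inl (hwa ▸ hy)
    by_cases hyv : y ∈ vertexZ 2 v
    · exact Or.inl (h.ZB_le hv.symm hB hyv)
    refine Or.inr ?_
    by_cases hwu : w = u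
    · subst hwu
      exact h.ZB_le hv.symm hB (h.ZA_coset hk hw.symm (isA_of_adj hw hB) hy hs hyv hsn)
    exact hS v w u a hB hw hu hv.symm hwu (Ne.symm hwa) hua.symm y hy s hs hyv hsn
  exact (hle hη).2

theorem comm_reps {a v v' u u' : CosetVertex M₁ M₂} (hA : IsA a) (hv : (cosetGraph M₁ M₂).Adj a v)
    (hv' : (cosetGraph M₁ M₂).Adj a v') (hne : v ≠ v') (hu : (cosetGraph M₁ M₂).Adj v u) (hua : u ≠ a)
    (hu' : (cosetGraph M₁ M₂).Adj v' u') (hua' : u' ≠ a) {s s' : X} (hs : s ∈ vertexZ 2 u)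
    (hsn : s ∉ vertexZ 2 v) (hs' : s' ∈ vertexZ 2 u') (hsn' : s' ∉ vertexZ 2 v')
    {v'' : CosetVertex M₁ M₂} (hv'' : (cosetGraph M₁ M₂).Adj a v'') (h1 : v'' ≠ v) (h2 : v'' ≠ v') :
    ⁅s, s'⁆ ∈ vertexZ 2 v'' ∧ ⁅s, s'⁆ ≠ 1 := by
  have half : ∀ (v v' u u' : CosetVertex M₁ M₂), (cosetGraph M₁ M₂).Adj a v →
      (cosetGraph M₁ M₂).Adj a v' → v ≠ v' → (cosetGraph M₁ M₂).Adj v u → u ≠ a →
      (cosetGraph M₁ M₂).Adj v' u' → u' ≠ a → ∀ s s', s ∈ vertexZ 2 u → s ∉ vertexZ 2 v →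
      s' ∈ vertexZ 2 u' → s' ∉ vertexZ 2 v' →
      ⁅s, s'⁆ ∈ vertexZ 2 a ∧ ⁅s, s'⁆ ∉ vertexZ 2 v' := by
    intro v v' u u' hv hv' hne hu hua hu' hua' s s' hs hsn hs' hsn'
    have hB := isB_of_adj hv hA
    have hB' := isB_of_adj hv' hA
    have hsE : s ∈ edgeStabilizer a v' :=
      h.toSThreePair.vertexQ_le_edge hv' (h.nbrZ_le_Q c (le_refl 3) hB hv.symm (le_nbrZ hu hs))
    have hsQ := h.rep_notMem_Q hk hS c hA hv hv' hne hu hua hs hsn
    have hmove : s • u' ≠ u' :=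
      h.toSThreePair.smul_ne_self hv'.symm hu' hua' (mem_edge_symm hsE) hsQ
    have hsn'' : s * s' * s⁻¹ ∉ vertexZ 2 v' := fun hh => hsn' (by
      have := h.Z_conj_stab (inv_mem hsE.2) hh
      simpa [mul_assoc] using this)
    have e : ⁅s, s'⁆ = (s * s' * s⁻¹) * s' := by rw [commutatorElement_def, h.Z_inv hs']
    rw [e]
    exact ⟨hS v' (s • u') u' a hB' (SThreePair.adj_of_mem_stabilizer hsE.2 hu') hu' hv'.symm hmove
      (fun e' => hua'.symm (MulAction.injective s ((MulAction.mem_stabilizer_iff.1 hsE.1).trans e')))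
      hua'.symm _ (h.Z_conj hs') s' hs' hsn'' hsn',
      h.sum_notMem hk hS (SThreePair.adj_of_mem_stabilizer hsE.2 hu') hu' hmove hB' (h.Z_conj hs') hs' hsn''⟩
  obtain ⟨m1, m2⟩ := half v v' u u' hv hv' hne hu hua hu' hua' s s' hs hsn hs' hsn'
  obtain ⟨-, m3'⟩ := half v' v u' u hv' hv hne.symm hu' hua' hu hua s' s hs' hsn' hs hsn
  have m3 : ⁅s, s'⁆ ∉ vertexZ 2 v := fun hh => m3' (by
    rw [← commutatorElement_inv]; exact inv_mem hh)
  refine ⟨?_, fun e => m2 (e ▸ one_mem _)⟩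
  obtain ⟨y, hy, y', hy', e⟩ := h.ZA_decomp hv hv' hA hne m1
  have hy1 : y ≠ 1 := fun e1 => m2 (by rw [← e, e1, one_mul]; exact hy')
  have hy1' : y' ≠ 1 := fun e1 => m3 (by rw [← e, e1, mul_one]; exact hy)
  obtain ⟨z, hz, hz1⟩ := h.ZB_exists (isB_of_adj hv'' hA)
  obtain ⟨w, hw, w', hw', ez⟩ := h.ZA_decomp hv hv' hA hne (h.ZB_le hv''.symm (isB_of_adj hv'' hA) hz)
  have hw1 : w ≠ 1 := fun e1 => hz1 (h.inf_eq hv' hv'' hA h2.symm (by rw [← ez, e1, one_mul]; exact hw') hz)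
  have hw1' : w' ≠ 1 := fun e1 => hz1 (h.inf_eq hv hv'' hA h1.symm (by rw [← ez, e1, mul_one]; exact hw) hz)
  rw [← e, hk _ (isB_of_adj hv hA) y hy w hw hy1 hw1, hk _ (isB_of_adj hv' hA) y' hy' w' hw' hy1' hw1', ez]
  exact hz

theorem three_x {a v₁ v₂ v₃ : CosetVertex M₁ M₂} (hA : IsA a) (hv₁ : (cosetGraph M₁ M₂).Adj a v₁)
    (hv₂ : (cosetGraph M₁ M₂).Adj a v₂) (hv₃ : (cosetGraph M₁ M₂).Adj a v₃) (h21 : v₂ ≠ v₁)
    (h31 : v₃ ≠ v₁) (h32 : v₃ ≠ v₂) :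
    ∃ x : X, x ∈ edgeStabilizer a v₁ ∧ x ∉ vertexQ 2 a ∧ ∀ l : X, l ∈ vertexQ 2 a → l ∈ vertexQ 2 v₁ →
      l ∈ vertexQ 2 v₂ → l ∈ vertexQ 2 v₃ → ⁅l, x⁆ ∈ vertexZ 2 v₁ := by
  have hB₁ := isB_of_adj hv₁ hA
  obtain ⟨u, hu, hua⟩ := h.toSThreePair.exists_other hv₁.symm
  have hAu := isA_of_adj hu hB₁
  obtain ⟨v', hv', hv'1⟩ := h.toSThreePair.exists_other hu.symm
  obtain ⟨v'', hv'', hv''1, hv''2⟩ := h.toSThreePair.exists_third hu.symm v'
  have hB' := isB_of_adj hv' hAu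
  have hB'' := isB_of_adj hv'' hAu
  obtain ⟨n', hn', hn'u⟩ := h.toSThreePair.exists_other hv'.symm
  obtain ⟨n'', hn'', hn''u⟩ := h.toSThreePair.exists_other hv''.symm
  obtain ⟨t, ht, htn⟩ := h.exists_mem_notMem hn'.symm (isA_of_adj hn' hB')
  obtain ⟨t', ht', htn'⟩ := h.exists_mem_notMem hn''.symm (isA_of_adj hn'' hB'')
  obtain ⟨r, hr, hr1⟩ := h.ZB_exists (isB_of_adj hv₂ hA)
  have hra : r ∈ vertexZ 2 a := h.ZB_le hv₂.symm (isB_of_adj hv₂ hA) hr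
  have hrn : r ∉ vertexZ 2 v₁ := fun hh => hr1 (h.inf_eq hv₁ hv₂ hA h21.symm hh hr)
  have htQu : t ∈ vertexQ 2 u := h.nbrZ_le_Q c (le_refl 3) hB' hv'.symm (le_nbrZ hn' ht)
  have htQu' : t' ∈ vertexQ 2 u := h.nbrZ_le_Q c (le_refl 3) hB'' hv''.symm (le_nbrZ hn'' ht')
  have htt : t * t' ∈ vertexQ 2 v₁ := h.toSThreePair.mul_mem_Q hu (h.Q_le_edge' hu.symm htQu)
    (h.Q_le_edge' hu.symm htQu') (h.rep_notMem_Q hk hS c hAu hv' hu.symm hv'1 hn' hn'u ht htn)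
    (h.rep_notMem_Q hk hS c hAu hv'' hu.symm hv''1 hn'' hn''u ht' htn')
  have hrQ : r ∈ vertexQ 2 v₁ := h.nbrZ_le_Q c (le_refl 3) hB₁ hu (le_nbrZ hv₁.symm hra) |> fun _ => by
    refine c.near a v₁ hA ?_ hra
    have := SimpleGraph.dist_eq_one_iff_adj.2 hv₁
    omega
  set x := r * (t * t') with hxdef
  have hxQ₁ : x ∈ vertexQ 2 v₁ := mul_mem hrQ htt
  have hxE : x ∈ edgeStabilizer a v₁ := h.Q_le_edge' hv₁.symm hxQ₁
  have hxu : x ∈ MulAction.stabilizer X u := (h.Q_le_edge' hu hxQ₁).1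
  obtain ⟨e1, e1'⟩ := h.comm_reps hk hS c hAu hu.symm hv' hv'1.symm hv₁.symm hua.symm hn' hn'u hra hrn ht htn
    hv'' hv''1 hv''2
  obtain ⟨e2, e2'⟩ := h.comm_reps hk hS c hAu hu.symm hv'' hv''1.symm hv₁.symm hua.symm hn'' hn''u hra hrn
    ht' htn' hv' hv'1 hv''2.symm
  have e1u := h.ZB_le hv''.symm hB'' e1
  have e2u := h.ZB_le hv'.symm hB' e2
  have hxQ : x ∉ vertexQ 2 a := by
    intro hh
    have hrx : ⁅r, x⁆ = 1 := commutatorElement_eq_one_iff_mul_comm.2 (h.Z_commute_Q hra hh).symm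
    have hprod : ⁅r, t * t'⁆ = ⁅r, t⁆ * ⁅r, t'⁆ := by
      rw [commutator_mul_right, h.Z_commute_Q e2u htQu, mul_inv_cancel_right]
    have hru : r * ⁅r, t * t'⁆ = ⁅r, t * t'⁆ * r := by
      rw [hprod]
      exact h.nbrZ_commute c (le_refl 3) hB₁ (le_nbrZ hv₁.symm hra) (le_nbrZ hu (mul_mem e1u e2u))
    have he : ⁅r, x⁆ = ⁅r, t * t'⁆ := by
      rw [hxdef, commutator_mul_right, commutatorElement_self, one_mul, hru, mul_inv_cancel_right]
    rw [he, hprod] at hrx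
    refine e1' (h.inf_eq hv'' hv' hAu hv''2 e1 ?_)
    rw [eq_inv_of_mul_eq_one_left hrx]
    exact inv_mem e2
  refine ⟨x, hxE, hxQ, fun l hla hl1 hl2 hl3 => ?_⟩
  have hlu : l ∈ MulAction.stabilizer X u := (h.Q_le_edge' hu hl1).1
  have hlr : l * r * l⁻¹ = r := by rw [h.Z_commute_Q hra hla, mul_inv_cancel_right]
  have cs : ∀ (v n : CosetVertex M₁ M₂) (s : X), (cosetGraph M₁ M₂).Adj u v →
      (cosetGraph M₁ M₂).Adj v n → n ≠ u → s ∈ vertexZ 2 n → s ∉ vertexZ 2 v →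
      ∀ y ∈ nbrZ v, y ∉ vertexZ 2 u → y * s ∈ vertexZ 2 u :=
    fun v n s hv hn hnu hs hsn y hy hyu => (h.nbrZ_cases hk hS c hAu hv hn hnu hs hsn hy).resolve_left hyu
  have notu : ∀ (s : X) (v n : CosetVertex M₁ M₂), (cosetGraph M₁ M₂).Adj u v →
      (cosetGraph M₁ M₂).Adj v n → n ≠ u → s ∈ vertexZ 2 n → s ∉ vertexZ 2 v →
      l * s * l⁻¹ ∉ vertexZ 2 u := by
    intro s v n hv hn hnu hs hsn hh
    have h1 := h.Z_conj_stab (inv_mem hlu) hh
    have h2 : s ∈ vertexZ 2 u := by simpa [mul_assoc] using h1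
    exact hsn (h.nbrs_inf hk hn hv.symm hnu (isB_of_adj hv hAu) hs h2)
  have hlt := h.nbrZ_conj (g := l) (le_nbrZ hn' ht)
  have hlt' := h.nbrZ_conj (g := l) (le_nbrZ hn'' ht')
  have other : ∀ w, (cosetGraph M₁ M₂).Adj u w → w ≠ v₁ → w = v' ∨ w = v'' := by
    intro w hw hw1
    by_cases e : w = v'
    · exact Or.inl e
    exact Or.inr (h.toSThreePair.eq_third hu.symm hv' hw hv'' hv'1.symm hw1 e hv''1 hv''2)
  have hl1' : ∀ w, w ≠ v₁ → l • w ≠ v₁ := fun w hw e => hw (MulAction.injective l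
    (e.trans (MulAction.mem_stabilizer_iff.1 (h.Q_le_stab _ hl1)).symm))
  have ct : ∀ ζ ∈ vertexZ 2 u, t' * ζ = ζ * t' := fun ζ hζ => h.Z_commute_Q hζ htQu'
  have fin : ∀ ζ ∈ vertexZ 2 u, l * x * l⁻¹ = x * ζ → ⁅l, x⁆ ∈ vertexZ 2 v₁ := by
    intro ζ hζ e
    have hm : ⁅l, x⁆ ∈ vertexZ 2 u := by
      rw [commutatorElement_def, e]
      exact h.Z_conj_stab hxu hζ
    by_contra hn
    refine h.rep_notMem_Q hk hS c hA hv₁ hv₂ h21.symm hu hua hm hn ?_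
    have hswap : x • v₃ = v₂ := h.toSThreePair.swap_any hv₁ hv₃ hv₂ h31 h21 h32 hxE hxQ
    rw [commutatorElement_def, show l * x * l⁻¹ * x⁻¹ = l * (x * l⁻¹ * x⁻¹) by group]
    refine mul_mem hl2 ?_
    rw [← hswap, ← map_vertexQ]
    exact Subgroup.mem_map_of_mem (MulAut.conj x).toMonoidHom (inv_mem hl3)
  rcases other _ (SThreePair.adj_of_mem_stabilizer hlu hv') (hl1' _ hv'1) with e | e
  · have e' : l • v'' = v'' := by
      rcases other _ (SThreePair.adj_of_mem_stabilizer hlu hv'') (hl1' _ hv''1) with e' | e'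
      · exact absurd (MulAction.injective l (e'.trans e.symm)) hv''2
      · exact e'
    rw [e] at hlt; rw [e'] at hlt'
    have m1 := cs v' n' t hv' hn' hn'u ht htn _ hlt (notu t v' n' hv' hn' hn'u ht htn)
    have m2 := cs v'' n'' t' hv'' hn'' hn''u ht' htn' _ hlt' (notu t' v'' n'' hv'' hn'' hn''u ht' htn')
    set ζ := l * t * l⁻¹ * t with hζ
    set ζ' := l * t' * l⁻¹ * t' with hζ'
    have f1 : l * t * l⁻¹ = t * ζ := by
      rw [h.Z_commute_Q m1 htQu, hζ, mul_assoc (l * t * l⁻¹), h.Z_sq ht, mul_one]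
    have f2 : l * t' * l⁻¹ = t' * ζ' := by
      rw [ct _ m2, hζ', mul_assoc (l * t' * l⁻¹), h.Z_sq ht', mul_one]
    refine fin (ζ * ζ') (mul_mem m1 m2) ?_
    calc l * x * l⁻¹ = (l * r * l⁻¹) * (l * t * l⁻¹) * (l * t' * l⁻¹) := by rw [hxdef]; group
      _ = r * t * (ζ * t') * ζ' := by rw [hlr, f1, f2]; group
      _ = x * (ζ * ζ') := by rw [← ct _ m1, hxdef]; group
  · have e' : l • v'' = v' := by
      rcases other _ (SThreePair.adj_of_mem_stabilizer hlu hv'') (hl1' _ hv''1) with e' | e'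
      · exact e'
      · exact absurd (MulAction.injective l (e'.trans e.symm)) hv''2
    rw [e] at hlt; rw [e'] at hlt'
    have m1 := cs v'' n'' t' hv'' hn'' hn''u ht' htn' _ hlt (notu t v' n' hv' hn' hn'u ht htn)
    have m2 := cs v' n' t hv' hn' hn'u ht htn _ hlt' (notu t' v'' n'' hv'' hn'' hn''u ht' htn')
    set ζ := l * t * l⁻¹ * t' with hζ
    set ζ' := l * t' * l⁻¹ * t with hζ'
    have f1 : l * t * l⁻¹ = t' * ζ := by
      rw [ct _ m1, hζ, mul_assoc (l * t * l⁻¹), h.Z_sq ht', mul_one]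
    have f2 : l * t' * l⁻¹ = t * ζ' := by
      rw [h.Z_commute_Q m2 htQu, hζ', mul_assoc (l * t' * l⁻¹), h.Z_sq ht, mul_one]
    obtain ⟨e3, -⟩ := h.comm_reps hk hS c hAu hv'' hv' hv''2 hn'' hn''u hn' hn'u ht' htn' ht htn
      hu.symm hv''1.symm hv'1.symm
    have e3u := h.ZB_le hu hB₁ e3
    refine fin (⁅t', t⁆ * (ζ * ζ')) (mul_mem e3u (mul_mem m1 m2)) ?_
    have ett : t' * t = t * t' * ⁅t', t⁆ := by
      rw [commutatorElement_def, h.Z_inv ht, h.Z_inv ht']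
      calc t' * t = t * (t' * t') * t * (t' * t) := by rw [h.Z_sq ht', mul_one, h.Z_sq ht, one_mul]
        _ = _ := by group
    calc l * x * l⁻¹ = (l * r * l⁻¹) * (l * t * l⁻¹) * (l * t' * l⁻¹) := by rw [hxdef]; group
      _ = r * t' * (ζ * t) * ζ' := by rw [hlr, f1, f2]; group
      _ = r * (t' * t) * (ζ * ζ') := by rw [← h.Z_commute_Q m1 htQu]; group
      _ = x * (⁅t', t⁆ * (ζ * ζ')) := by rw [ett, hxdef]; group

theorem three_bound {a v₁ : CosetVertex M₁ M₂} (hA : IsA a) (hv₁ : (cosetGraph M₁ M₂).Adj a v₁) :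
    Nat.card ↥(edgeStabilizer a v₁) ≤ 128 := by
  classical
  obtain ⟨v₂, hv₂, h21⟩ := h.toSThreePair.exists_other hv₁
  obtain ⟨v₃, hv₃, h31, h32⟩ := h.toSThreePair.exists_third hv₁ v₂
  have := h.toSThreePair.finite_Q a
  obtain ⟨x, hxE, hxQ, hxL⟩ := h.three_x hk hS c hA hv₁ hv₂ hv₃ h21 h31 h32
  obtain ⟨x₂, hxE₂, hxQ₂, hxL₂⟩ := h.three_x hk hS c hA hv₂ hv₁ hv₃ h21.symm h32 h31
  obtain ⟨u₁, hu₁, hua₁⟩ := h.toSThreePair.exists_other hv₁.symm
  obtain ⟨u₂, hu₂, hua₂⟩ := h.toSThreePair.exists_other hv₂.symm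
  obtain ⟨u₃, hu₃, hua₃⟩ := h.toSThreePair.exists_other hv₃.symm
  obtain ⟨s₁, hs₁, hsn₁⟩ := h.exists_mem_notMem hu₁.symm (isA_of_adj hu₁ (isB_of_adj hv₁ hA))
  obtain ⟨s₂, hs₂, hsn₂⟩ := h.exists_mem_notMem hu₂.symm (isA_of_adj hu₂ (isB_of_adj hv₂ hA))
  obtain ⟨s₃, hs₃, hsn₃⟩ := h.exists_mem_notMem hu₃.symm (isA_of_adj hu₃ (isB_of_adj hv₃ hA))
  have hB₁ := isB_of_adj hv₁ hA
  have hB₂ := isB_of_adj hv₂ hA
  have hB₃ := isB_of_adj hv₃ hA
  have third : ∀ v, (cosetGraph M₁ M₂).Adj a v → v = v₁ ∨ v = v₂ ∨ v = v₃ := by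
    intro v hv
    by_cases e1 : v = v₁
    · exact Or.inl e1
    by_cases e2 : v = v₂
    · exact Or.inr (Or.inl e2)
    exact Or.inr (Or.inr (h.toSThreePair.eq_third hv₁ hv₂ hv hv₃ h21.symm e1 e2 h31 h32))
  set L := vertexQ 2 a ⊓ vertexQ 2 v₁ ⊓ vertexQ 2 v₂ ⊓ vertexQ 2 v₃ with hL
  have hLQ : L ≤ vertexQ 2 a := fun l hl => hl.1.1.1
  have : Finite ↥L := Finite.of_injective (Subgroup.inclusion hLQ) (Subgroup.inclusion_injective _)
  let F : Subgroup X :=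
    { carrier := {q | q ∈ vertexQ 2 a ∧ ∀ v, (cosetGraph M₁ M₂).Adj a v → ∀ η ∈ nbrZ v, q * η = η * q}
      one_mem' := ⟨one_mem _, fun v _ η _ => by rw [one_mul, mul_one]⟩
      mul_mem' := fun {q q'} hq hq' => ⟨mul_mem hq.1 hq'.1, fun v hv η hη =>
        Commute.mul_left (hq.2 v hv η hη) (hq'.2 v hv η hη)⟩
      inv_mem' := fun {q} hq => ⟨inv_mem hq.1, fun v hv η hη => Commute.inv_left (hq.2 v hv η hη)⟩ }
  have hFn : MulAction.stabilizer X a ≤ Subgroup.normalizer (F : Set X) :=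
    le_normalizer_of_conj fun k hk' q hq => ⟨SThreePair.vertexQ_conj hk' hq.1, fun v hv η hη => by
      have hv' := SThreePair.adj_of_mem_stabilizer (inv_mem hk') hv
      have h1 := h.nbrZ_conj (g := k⁻¹) hη
      rw [inv_inv] at h1
      have h2 := hq.2 _ hv' _ h1
      calc k * q * k⁻¹ * η = k * (q * (k⁻¹ * η * k)) * k⁻¹ := by group
        _ = k * ((k⁻¹ * η * k) * q) * k⁻¹ := by rw [h2]
        _ = η * (k * q * k⁻¹) := by group⟩
  have fix : ∀ v u s, (cosetGraph M₁ M₂).Adj a v → (cosetGraph M₁ M₂).Adj v u → u ≠ a →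
      s ∈ vertexZ 2 u → s ∉ vertexZ 2 v → ∀ q ∈ vertexQ 2 a, q * s = s * q → q ∈ vertexQ 2 v := by
    intro v u s hv hu hua hs hsn q hq hqs
    have hqE := h.Q_le_edge' hv hq
    rw [← h.toSThreePair.edge_inf_eq hv.symm hu hua.symm]
    refine ⟨hqE, hqE.1, MulAction.mem_stabilizer_iff.2 (by_contra fun hne => hsn ?_)⟩
    have h1 := h.Z_conj (g := q) hs
    rw [hqs, mul_inv_cancel_right] at h1
    exact h.nbrs_inf hk hu (SThreePair.adj_of_mem_stabilizer hqE.1 hu) (Ne.symm hne) (isB_of_adj hv hA) hs h1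
  have hFL : F ≤ L := fun q hq => ⟨⟨⟨hq.1, fix v₁ u₁ s₁ hv₁ hu₁ hua₁ hs₁ hsn₁ q hq.1 (hq.2 v₁ hv₁ s₁ (le_nbrZ hu₁ hs₁))⟩,
    fix v₂ u₂ s₂ hv₂ hu₂ hua₂ hs₂ hsn₂ q hq.1 (hq.2 v₂ hv₂ s₂ (le_nbrZ hu₂ hs₂))⟩,
    fix v₃ u₃ s₃ hv₃ hu₃ hua₃ hs₃ hsn₃ q hq.1 (hq.2 v₃ hv₃ s₃ (le_nbrZ hu₃ hs₃))⟩
  have hFQ : F ≤ vertexQ 2 a := fun q hq => hq.1
  have : Finite ↥F := Finite.of_injective (Subgroup.inclusion hFQ) (Subgroup.inclusion_injective _)
  have cenV : ∀ v u s, (cosetGraph M₁ M₂).Adj a v → (cosetGraph M₁ M₂).Adj v u → u ≠ a →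
      s ∈ vertexZ 2 u → s ∉ vertexZ 2 v → ∀ l ∈ vertexQ 2 a, l * s = s * l →
      ∀ η ∈ nbrZ v, l * η = η * l := by
    intro v u s hv hu hua hs hsn l hl hls η hη
    rcases h.nbrZ_cases hk hS c hA hv hu hua hs hsn hη with h1 | h1
    · exact h.Z_commute_Q h1 hl
    · rw [show η = (η * s) * s by rw [mul_assoc, h.Z_sq hs, mul_one]]
      exact Commute.mul_right (h.Z_commute_Q h1 hl) hls
  -- `x` carries the centralizing property from one neighbour to another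
  have move : ∀ (v : CosetVertex M₁ M₂) (x : X), (cosetGraph M₁ M₂).Adj a v → x ∈ edgeStabilizer a v →
      ∀ l, ⁅l, x⁆ ∈ vertexZ 2 v → ∀ w w', (cosetGraph M₁ M₂).Adj a w' → x • w = w' →
      (∀ η ∈ nbrZ w, l * η = η * l) → ∀ η ∈ nbrZ w', l * η = η * l := by
    intro v x hv hx l hζ w w' hw' e hw η hη
    have hμ := h.nbrZ_conj (g := x⁻¹) hη
    rw [← e, inv_smul_smul, inv_inv] at hμ
    set μ := x⁻¹ * η * x with hμdef
    set ζ := ⁅l, x⁆ with hζdef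
    have hlx : l * x * l⁻¹ = ζ * x := by rw [hζdef, commutatorElement_def]; group
    have hlμ := hw μ hμ
    have hζη : η * ζ = ζ * η := h.Z_commute_Q (h.ZB_le hv.symm (isB_of_adj hv hA) hζ)
      (h.nbrZ_le_Q c (le_refl 3) (isB_of_adj hw' hA) hw'.symm hη)
    have e2 : l * η * l⁻¹ = η := by
      calc l * η * l⁻¹ = (l * x * l⁻¹) * (l * μ * l⁻¹) * (l * x * l⁻¹)⁻¹ := by rw [hμdef]; group
        _ = ζ * (x * μ * x⁻¹) * ζ⁻¹ := by rw [hlx, hlμ, mul_inv_cancel_right]; group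
        _ = ζ * η * ζ⁻¹ := by rw [hμdef]; group
        _ = η := by rw [← hζη, mul_inv_cancel_right]
    calc l * η = l * η * l⁻¹ * l := by rw [inv_mul_cancel_right]
      _ = η * l := by rw [e2]
  have x23 : x • v₂ = v₃ := h.toSThreePair.swap_any hv₁ hv₂ hv₃ h21 h31 h32.symm hxE hxQ
  have x32 : x • v₃ = v₂ := h.toSThreePair.swap_any hv₁ hv₃ hv₂ h31 h21 h32 hxE hxQ
  have y13 : x₂ • v₁ = v₃ := h.toSThreePair.swap_any hv₂ hv₁ hv₃ h21.symm h32 h31.symm hxE₂ hxQ₂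
  have hLF : ∀ l ∈ L, l * s₁ = s₁ * l → l ∈ F := by
    intro l hl hls
    have c1 := cenV v₁ u₁ s₁ hv₁ hu₁ hua₁ hs₁ hsn₁ l (hLQ hl) hls
    have c3 := move v₂ x₂ hv₂ hxE₂ l (hxL₂ l (hLQ hl) hl.1.2 hl.1.1.2 hl.2) v₁ v₃ hv₃ y13 c1
    have c2 := move v₁ x hv₁ hxE l (hxL l (hLQ hl) hl.1.1.2 hl.1.2 hl.2) v₃ v₂ hv₂ x32 c3
    refine ⟨hLQ hl, fun v hv => ?_⟩
    rcases third v hv with rfl | rfl | rfl
    exacts [c1, c2, c3]
  have flipr : ∀ (v : CosetVertex M₁ M₂), IsB v → ∀ g g' s : X, g ∈ MulAction.stabilizer X v →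
      s * (g * s * g⁻¹) ∈ vertexZ 2 v → s * (g' * s * g'⁻¹) ∈ vertexZ 2 v → s * s = 1 →
      g * s ≠ s * g → g' * s ≠ s * g' → g * g' * s = s * (g * g') := by
    intro v hB g g' s hg h1 h2 hss hn hn'
    have ne1 : ∀ k : X, k * s ≠ s * k → s * (k * s * k⁻¹) ≠ 1 := by
      intro k hkn e
      refine hkn ?_
      have e' : k * s * k⁻¹ = s := by
        rw [eq_inv_of_mul_eq_one_right e]; exact inv_eq_of_mul_eq_one_right hss
      calc k * s = k * s * k⁻¹ * k := by rw [inv_mul_cancel_right]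
        _ = s * k := by rw [e']
    have e := hk v hB _ h2 _ h1 (ne1 g' hn') (ne1 g hn)
    refine mul_commute_of_conj_eq (r := s * (g * s * g⁻¹)) ?_ ?_ (h.ZB_commute hB h1 hg) (h.Z_sq h1)
    · rw [← mul_assoc, hss, one_mul]
    · rw [← e, ← mul_assoc, hss, one_mul]
  -- `|Q_a : L| ≤ 8` and `|L : F| ≤ 2`
  have hQL : Nat.card ↥(vertexQ 2 a) ≤ 8 * Nat.card ↥L := by
    have flip : ∀ v, (cosetGraph M₁ M₂).Adj a v → ∀ H : Subgroup X, H ≤ vertexQ 2 a →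
        Nat.card ↥H ≤ 2 * Nat.card ↥(H ⊓ vertexQ 2 v) := by
      intro v hv H hH
      have : Finite ↥H := Finite.of_injective (Subgroup.inclusion hH) (Subgroup.inclusion_injective _)
      exact card_le_two_mul H (vertexQ 2 v) fun q hq q' hq' hn hn' =>
        h.toSThreePair.mul_mem_Q hv.symm (h.Q_le_edge' hv (hH hq)) (h.Q_le_edge' hv (hH hq')) hn hn'
    have h1 := flip v₁ hv₁ (vertexQ 2 a) le_rfl
    have h2 := flip v₂ hv₂ (vertexQ 2 a ⊓ vertexQ 2 v₁) inf_le_left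
    have h3 := flip v₃ hv₃ (vertexQ 2 a ⊓ vertexQ 2 v₁ ⊓ vertexQ 2 v₂) (inf_le_left.trans inf_le_left)
    rw [← hL] at h3
    omega
  have hLF2 : Nat.card ↥L ≤ 2 * Nat.card ↥F := by
    have h1 := card_le_two_mul L (Subgroup.centralizer ({s₁} : Set X)) fun l hl l' hl' hn hn' => by
      rw [Subgroup.mem_centralizer_singleton_iff] at hn hn' ⊢
      have inZ : ∀ k ∈ L, s₁ * (k * s₁ * k⁻¹) ∈ vertexZ 2 v₁ := fun k hk' =>
        h.ZA_coset hk hu₁.symm (isA_of_adj hu₁ hB₁) hs₁ (h.Z_conj_stab (h.Q_le_edge' hu₁ hk'.1.1.2).1 hs₁)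
          hsn₁ (fun hh => hsn₁ (by
            have := h.Z_conj_stab (inv_mem (h.Q_le_edge' hv₁ (hLQ hk')).1) hh
            simpa [mul_assoc] using this))
      exact flipr v₁ hB₁ l l' s₁ (h.Q_le_edge' hv₁ (hLQ hl)).1 (inZ l hl) (inZ l' hl') (h.Z_sq hs₁) hn hn'
    have h2 : Nat.card ↥(L ⊓ Subgroup.centralizer ({s₁} : Set X)) ≤ Nat.card ↥F :=
      Subgroup.card_le_of_le (fun l hl => hLF l hl.1 (Subgroup.mem_centralizer_singleton_iff.1 hl.2))
    omega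
  -- `F` is small
  set C₁ := F ⊓ Subgroup.centralizer ({x} : Set X) with hC₁
  set C₀ := C₁ ⊓ Subgroup.centralizer ({x₂} : Set X) with hC₀
  have : Finite ↥C₁ := Finite.of_injective (Subgroup.inclusion (inf_le_left : C₁ ≤ F)) (Subgroup.inclusion_injective _)
  have zx : ∀ (v : CosetVertex M₁ M₂) (x : X), (cosetGraph M₁ M₂).Adj a v → x ∈ edgeStabilizer a v →
      ∀ f, ⁅f, x⁆ ∈ vertexZ 2 v → f * x * f⁻¹ = x * ⁅f, x⁆ := by
    intro v x hv hx f hf
    rw [h.ZB_commute (isB_of_adj hv hA) hf hx.2, commutatorElement_def]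
    group
  have flipx : ∀ (v : CosetVertex M₁ M₂) (x : X), (cosetGraph M₁ M₂).Adj a v → x ∈ edgeStabilizer a v →
      ∀ f f', f ∈ MulAction.stabilizer X v → ⁅f, x⁆ ∈ vertexZ 2 v → ⁅f', x⁆ ∈ vertexZ 2 v →
      f * x ≠ x * f → f' * x ≠ x * f' → f * f' * x = x * (f * f') := by
    intro v x hv hx f f' hfv hf hf' hn hn'
    have hB := isB_of_adj hv hA
    have e := hk v hB _ hf' _ hf (fun e => hn' (commutatorElement_eq_one_iff_mul_comm.1 e))
      (fun e => hn (commutatorElement_eq_one_iff_mul_comm.1 e))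
    exact mul_commute_of_conj_eq (zx v x hv hx f hf) (e ▸ zx v x hv hx f' hf') (h.ZB_commute hB hf hfv)
      (h.Z_sq hf)
  have hFx : ∀ f ∈ F, ⁅f, x⁆ ∈ vertexZ 2 v₁ := fun f hf =>
    hxL f (hLQ (hFL hf)) (hFL hf).1.1.2 (hFL hf).1.2 (hFL hf).2
  have hFx₂ : ∀ f ∈ F, ⁅f, x₂⁆ ∈ vertexZ 2 v₂ := fun f hf =>
    hxL₂ f (hLQ (hFL hf)) (hFL hf).1.2 (hFL hf).1.1.2 (hFL hf).2
  have hF4 : Nat.card ↥F ≤ 4 * Nat.card ↥C₀ := by
    have h1 := card_le_two_mul F (Subgroup.centralizer ({x} : Set X)) fun f hf f' hf' hn hn' => by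
      rw [Subgroup.mem_centralizer_singleton_iff] at hn hn' ⊢
      exact flipx v₁ x hv₁ hxE f f' (h.Q_le_edge' hv₁ hf.1).1 (hFx f hf) (hFx f' hf') hn hn'
    have h2 := card_le_two_mul C₁ (Subgroup.centralizer ({x₂} : Set X)) fun f hf f' hf' hn hn' => by
      rw [Subgroup.mem_centralizer_singleton_iff] at hn hn' ⊢
      exact flipx v₂ x₂ hv₂ hxE₂ f f' (h.Q_le_edge' hv₂ hf.1.1).1 (hFx₂ f hf.1) (hFx₂ f' hf'.1) hn hn'
    rw [← hC₁] at h1
    rw [← hC₀] at h2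
    omega
  have hC₀F : C₀ ≤ F := inf_le_left.trans inf_le_left
  have hcx : ∀ g ∈ C₀, g * x = x * g := fun g hg => Subgroup.mem_centralizer_singleton_iff.1 hg.1.2
  have hcx₂ : ∀ g ∈ C₀, g * x₂ = x₂ * g := fun g hg => Subgroup.mem_centralizer_singleton_iff.1 hg.2
  have hmeet : ∀ y ∈ C₀, y ∈ vertexZ 2 a → y = 1 := fun y hy hya =>
    h.inf_eq hv₁ hv₂ hA h21.symm (h.cent_eq hv₁ hA hxE hxQ hya (hcx y hy).symm)
      (h.cent_eq hv₂ hA hxE₂ hxQ₂ hya (hcx₂ y hy).symm)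
  have hZF : vertexZ 2 a ≤ F := fun y hy => ⟨h.Z_le_Q a hy, fun v hv η hη =>
    (h.Z_commute_Q hy (h.nbrZ_le_Q c (le_refl 3) (isB_of_adj hv hA) hv.symm hη)).symm⟩
  obtain ⟨r₁, hr₁, hr₁1⟩ := h.ZB_exists hB₁
  obtain ⟨r₂, hr₂, hr₂1⟩ := h.ZB_exists hB₂
  have hr₁a := h.ZB_le hv₁.symm hB₁ hr₁
  have hr₂a := h.ZB_le hv₂.symm hB₂ hr₂
  have dec : ∀ η ∈ F, ∃ ζ ∈ vertexZ 2 a, ζ * η ∈ C₀ := by
    intro η hη
    have step : ∀ (v : CosetVertex M₁ M₂) (x r : X), (cosetGraph M₁ M₂).Adj a v → x ∈ edgeStabilizer a v →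
        x ∉ vertexQ 2 a → r ∈ vertexZ 2 a → r ∉ vertexZ 2 v → ∀ η, η ∈ F → ⁅η, x⁆ ∈ vertexZ 2 v →
        ∃ ζ ∈ vertexZ 2 a, (ζ = 1 ∨ ζ = r) ∧ ζ * η * x = x * (ζ * η) := by
      intro v x r hv hx hxQ hr hrn η hη hc'
      by_cases e : η * x = x * η
      · exact ⟨1, one_mem _, Or.inl rfl, by rw [one_mul]; exact e⟩
      refine ⟨r, hr, Or.inr rfl, flipx v x hv hx r η (h.Z_le_edge hv hr).2 (h.comm_mem hv hA hx hr) hc' ?_ e⟩
      exact fun e' => hrn (h.cent_eq hv hA hx hxQ hr e'.symm)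
    obtain ⟨ζ, hζ, -, hζc⟩ := step v₁ x r₂ hv₁ hxE hxQ hr₂a
      (fun hh => hr₂1 (h.inf_eq hv₁ hv₂ hA h21.symm hh hr₂)) η hη (hFx η hη)
    have hζη : ζ * η ∈ F := mul_mem (hZF hζ) hη
    obtain ⟨ζ', hζ', hcase, hζc'⟩ := step v₂ x₂ r₁ hv₂ hxE₂ hxQ₂ hr₁a
      (fun hh => hr₁1 (h.inf_eq hv₂ hv₁ hA h21 hh hr₁)) (ζ * η) hζη (hFx₂ _ hζη)
    refine ⟨ζ' * ζ, mul_mem hζ' hζ, ?_⟩
    rw [mul_assoc]
    refine ⟨⟨mul_mem (hZF hζ') hζη, Subgroup.mem_centralizer_singleton_iff.2 ?_⟩,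
      Subgroup.mem_centralizer_singleton_iff.2 hζc'⟩
    rcases hcase with e | e
    · rw [e, one_mul]; exact hζc
    · rw [e]; exact Commute.mul_left (h.ZB_commute hB₁ hr₁ hxE.2).symm hζc
  have hFsq : ∀ η ∈ F, η * η = 1 := by
    let S : Subgroup X := Subgroup.closure {y : X | ∃ η ∈ F, y = η * η}
    have hSn : MulAction.stabilizer X a ≤ Subgroup.normalizer (S : Set X) :=
      le_normalizer_of_conj fun g hg y hy => by
        have hle : S ≤ S.comap (MulAut.conj g).toMonoidHom := (Subgroup.closure_le _).2 (by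
          rintro _ ⟨η, hη, rfl⟩
          exact Subgroup.subset_closure ⟨g * η * g⁻¹, (Subgroup.mem_normalizer_iff.1 (hFn hg) η).1 hη,
            by simp [mul_assoc]⟩)
        exact hle hy
    have hSC : S ≤ C₀ := (Subgroup.closure_le _).2 (by
      rintro _ ⟨η, hη, rfl⟩
      obtain ⟨ζ, hζ, hc'⟩ := dec η hη
      have hcom : η * ζ = ζ * η := h.Z_commute_Q hζ hη.1
      have e : η * η = (ζ * η) * (ζ * η) := by
        calc η * η = (ζ * ζ) * (η * η) := by rw [h.Z_sq hζ, one_mul]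
          _ = ζ * (ζ * η) * η := by group
          _ = ζ * (η * ζ) * η := by rw [hcom]
          _ = _ := by group
      rw [e]
      exact mul_mem hc' hc')
    intro η hη
    have hS' : S = ⊥ := by
      by_contra hne
      have hZ := h.normal_meets hk hA (fun y hy => hFQ (hC₀F (hSC hy))) hSn hne
      exact hr₁1 (hmeet r₁ (hSC (hZ hr₁a)) hr₁a)
    have : η * η ∈ S := Subgroup.subset_closure ⟨η, hη, rfl⟩
    rwa [hS', Subgroup.mem_bot] at this
  have hFcomm : ∀ f ∈ F, ∀ g ∈ F, f * g = g * f := by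
    intro f hf g hg
    have e := hFsq _ (mul_mem hf hg)
    have ef : f⁻¹ = f := inv_eq_of_mul_eq_one_right (hFsq f hf)
    have eg : g⁻¹ = g := inv_eq_of_mul_eq_one_right (hFsq g hg)
    calc f * g = (f * g)⁻¹ := (inv_eq_of_mul_eq_one_right e).symm
      _ = g * f := by rw [mul_inv_rev, ef, eg]
  have hFZ : F ≤ vertexZ 2 a := by
    by_contra hnle
    have := h.toSThreePair.finite_edge a v₁
    set T := edgeStabilizer a v₁ with hT
    have hFT : F ≤ T := hFQ.trans (h.toSThreePair.vertexQ_le_edge hv₁)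
    set N := (vertexZ 2 a).subgroupOf T with hN
    have : N.Normal := ⟨fun y hy g => h.Z_conj_stab g.2.1 hy⟩
    set π := QuotientGroup.mk' N with hπ
    have : (F.subgroupOf T).Normal :=
      ⟨fun y hy g => (Subgroup.mem_normalizer_iff.1 (hFn g.2.1) y).1 hy⟩
    have : ((F.subgroupOf T).map π).Normal :=
      Subgroup.Normal.map inferInstance π (QuotientGroup.mk'_surjective N)
    have hne : (F.subgroupOf T).map π ≠ ⊥ := by
      intro e
      refine hnle fun f hf => ?_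
      have h1 : π ⟨f, hFT hf⟩ ∈ (F.subgroupOf T).map π := Subgroup.mem_map_of_mem π hf
      rw [e, Subgroup.mem_bot, hπ, QuotientGroup.mk'_apply, QuotientGroup.eq_one_iff] at h1
      exact h1
    have hI := CfsgLib.PGroup.inf_center_ne_bot ((h.toSThreePair.edge_isPGroup hv₁).to_quotient N)
      ((F.subgroupOf T).map π) hne
    obtain ⟨y, hyI, hy1⟩ := SetLike.exists_of_lt (bot_lt_iff_ne_bot.2 hI)
    obtain ⟨⟨η, hηT⟩, hη, rfl⟩ := hyI.1
    have hη' : η ∈ F := hη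
    have hηn : η ∉ vertexZ 2 a := fun hh => hy1 (by
      rw [Subgroup.mem_bot, hπ, QuotientGroup.mk'_apply, QuotientGroup.eq_one_iff]; exact hh)
    have hηc : ∀ g ∈ T, ⁅g, η⁆ ∈ vertexZ 2 a := by
      intro g hg
      have e := Subgroup.mem_center_iff.1 hyI.2 (π ⟨g, hg⟩)
      have h1 : π ⁅(⟨g, hg⟩ : ↥T), ⟨η, hηT⟩⁆ = 1 := by
        rw [map_commutatorElement]
        exact commutatorElement_eq_one_iff_mul_comm.2 e
      rw [hπ, QuotientGroup.mk'_apply, QuotientGroup.eq_one_iff] at h1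
      exact h1
    obtain ⟨ζ, hζ, hc₀⟩ := dec η hη'
    set d := ζ * η with hd
    have hd1 : d ≠ 1 := fun e => hηn (by rw [eq_inv_of_mul_eq_one_right e]; exact inv_mem hζ)
    have hdF : d ∈ F := hC₀F hc₀
    have hdQ : ∀ q ∈ vertexQ 2 a, ⁅q, d⁆ ∈ vertexZ 2 a := by
      intro q hq
      rw [hd, commutator_mul_right,
        commutatorElement_eq_one_iff_mul_comm.2 (h.Z_commute_Q hζ hq), one_mul]
      exact h.Z_conj_stab (h.Q_le_stab a (h.Z_le_Q a hζ))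
        (hηc q (h.toSThreePair.vertexQ_le_edge hv₁ hq))
    set K := vertexQ 2 a ⊓ Subgroup.centralizer ({d} : Set X) with hK
    have hKQ : K ≤ vertexQ 2 a := inf_le_left
    have : Finite ↥K := Finite.of_injective (Subgroup.inclusion hKQ) (Subgroup.inclusion_injective _)
    have hFK : F ≤ K := fun f hf => ⟨hFQ hf, Subgroup.mem_centralizer_singleton_iff.2 (hFcomm f hf d hdF)⟩
    have sK : ∀ v u s, (cosetGraph M₁ M₂).Adj a v → (cosetGraph M₁ M₂).Adj v u → s ∈ vertexZ 2 u → s ∈ K :=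
      fun v u s hv hu hs => ⟨h.nbrZ_le_Q c (le_refl 3) (isB_of_adj hv hA) hv.symm (le_nbrZ hu hs),
        Subgroup.mem_centralizer_singleton_iff.2 (hdF.2 v hv s (le_nbrZ hu hs)).symm⟩
    have k1 := sK v₁ u₁ s₁ hv₁ hu₁ hs₁
    have k2 := sK v₂ u₂ s₂ hv₂ hu₂ hs₂
    have k3 := sK v₃ u₃ s₃ hv₃ hu₃ hs₃
    have q11 : s₁ ∈ vertexQ 2 v₁ := c.near u₁ v₁ (isA_of_adj hu₁ hB₁)
      (by have := SimpleGraph.dist_eq_one_iff_adj.2 hu₁.symm; omega) hs₁
    have q22 : s₂ ∈ vertexQ 2 v₂ := c.near u₂ v₂ (isA_of_adj hu₂ hB₂)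
      (by have := SimpleGraph.dist_eq_one_iff_adj.2 hu₂.symm; omega) hs₂
    have q33 : s₃ ∈ vertexQ 2 v₃ := c.near u₃ v₃ (isA_of_adj hu₃ hB₃)
      (by have := SimpleGraph.dist_eq_one_iff_adj.2 hu₃.symm; omega) hs₃
    have n12 := h.rep_notMem_Q hk hS c hA hv₁ hv₂ h21.symm hu₁ hua₁ hs₁ hsn₁
    have n13 := h.rep_notMem_Q hk hS c hA hv₁ hv₃ h31.symm hu₁ hua₁ hs₁ hsn₁
    have n21 := h.rep_notMem_Q hk hS c hA hv₂ hv₁ h21 hu₂ hua₂ hs₂ hsn₂
    have n23 := h.rep_notMem_Q hk hS c hA hv₂ hv₃ h32.symm hu₂ hua₂ hs₂ hsn₂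
    have n31 := h.rep_notMem_Q hk hS c hA hv₃ hv₁ h31 hu₃ hua₃ hs₃ hsn₃
    have n32 := h.rep_notMem_Q hk hS c hA hv₃ hv₂ h32 hu₃ hua₃ hs₃ hsn₃
    have mm : ∀ v, (cosetGraph M₁ M₂).Adj a v → ∀ q q' : X, q ∈ K → q' ∈ K → q ∉ vertexQ 2 v →
        q' ∉ vertexQ 2 v → q * q' ∈ vertexQ 2 v := fun v hv q q' hq hq' hn hn' =>
      h.toSThreePair.mul_mem_Q hv.symm (h.Q_le_edge' hv (hKQ hq)) (h.Q_le_edge' hv (hKQ hq')) hn hn'
    have hPL : s₁ * s₂ * s₃ ∈ L := by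
      refine ⟨⟨⟨mul_mem (mul_mem (hKQ k1) (hKQ k2)) (hKQ k3), ?_⟩, ?_⟩, ?_⟩
      · rw [mul_assoc]; exact mul_mem q11 (mm v₁ hv₁ s₂ s₃ k2 k3 n21 n31)
      · rw [show s₁ * s₂ * s₃ = (s₁ * s₂ * s₁⁻¹) * (s₁ * s₃) by group]
        exact mul_mem (SThreePair.vertexQ_conj (h.Q_le_edge' hv₂ (hKQ k1)).1 q22) (mm v₂ hv₂ s₁ s₃ k1 k3 n12 n32)
      · exact mul_mem (mm v₃ hv₃ s₁ s₂ k1 k2 n13 n23) q33
    have hPF : s₁ * s₂ * s₃ ∉ F := by
      intro hh
      have e0 := hh.2 v₁ hv₁ s₁ (le_nbrZ hu₁ hs₁)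
      obtain ⟨e3, e3'⟩ := h.comm_reps hk hS c hA hv₂ hv₁ h21 hu₂ hua₂ hu₁ hua₁ hs₂ hsn₂ hs₁ hsn₁
        hv₃ h32 h31
      obtain ⟨e2, e2'⟩ := h.comm_reps hk hS c hA hv₃ hv₁ h31 hu₃ hua₃ hu₁ hua₁ hs₃ hsn₃ hs₁ hsn₁
        hv₂ h32.symm h21
      have e2a := h.ZB_le hv₂.symm hB₂ e2
      have e3a := h.ZB_le hv₃.symm hB₃ e3
      have h1 : ⁅s₁ * s₂ * s₃, s₁⁆ = 1 := commutatorElement_eq_one_iff_mul_comm.2 e0
      have c1 := h.Z_commute_Q e2a (mul_mem (hKQ k1) (hKQ k2))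
      have c2 := h.Z_commute_Q e3a (hKQ k1)
      rw [commutator_mul_left, c1, mul_inv_cancel_right, commutator_mul_left, c2, mul_inv_cancel_right,
        commutatorElement_self, mul_one] at h1
      refine e2' (h.inf_eq hv₂ hv₃ hA h32.symm e2 ?_)
      rw [eq_inv_of_mul_eq_one_left h1]
      exact inv_mem e3
    have : Finite ↥(K ⊓ L) := Finite.of_injective (Subgroup.inclusion (inf_le_left : K ⊓ L ≤ K))
      (Subgroup.inclusion_injective _)
    have hKL : 2 * Nat.card ↥F ≤ Nat.card ↥(K ⊓ L) := by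
      obtain ⟨m, hm⟩ := Subgroup.card_dvd_of_le (le_inf hFK hFL : F ≤ K ⊓ L)
      have hlt : Nat.card ↥F < Nat.card ↥(K ⊓ L) := by
        refine lt_of_le_of_ne (Subgroup.card_le_of_le (le_inf hFK hFL)) fun e => ?_
        have hP : s₁ * s₂ * s₃ ∈ K ⊓ L := ⟨mul_mem (mul_mem k1 k2) k3, hPL⟩
        rw [← Subgroup.eq_of_le_of_card_ge (le_inf hFK hFL) e.ge] at hP
        exact hPF hP
      have hm2 : 2 ≤ m := by
        rcases m with _ | _ | m <;> omega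
      rw [hm, mul_comm 2]
      exact Nat.mul_le_mul_left _ hm2
    have hK4 : 4 * Nat.card ↥(K ⊓ L) ≤ Nat.card ↥K := by
      have hrep : ∀ i : Fin 4, (![1, s₁, s₂, s₃] i : X) ∈ K := by
        intro i; fin_cases i
        exacts [one_mem _, k1, k2, k3]
      have hinj : Function.Injective (fun t : Fin 4 × ↥(K ⊓ L) =>
          (⟨![1, s₁, s₂, s₃] t.1 * t.2, mul_mem (hrep t.1) t.2.2.1⟩ : ↥K)) := by
        rintro ⟨i, m⟩ ⟨j, n⟩ e
        have e' : (![1, s₁, s₂, s₃] i : X) * m = ![1, s₁, s₂, s₃] j * n := congrArg Subtype.val e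
        have hl : (![1, s₁, s₂, s₃] i : X)⁻¹ * ![1, s₁, s₂, s₃] j ∈ L := by
          have : (![1, s₁, s₂, s₃] i : X)⁻¹ * ![1, s₁, s₂, s₃] j = m * (n : X)⁻¹ := by
            calc _ = (![1, s₁, s₂, s₃] i : X)⁻¹ * (![1, s₁, s₂, s₃] j * n) * (n : X)⁻¹ := by group
              _ = _ := by rw [← e']; group
          rw [this]; exact mul_mem m.2.2 (inv_mem n.2.2)
        have hij : i = j := by
          fin_cases i <;> fin_cases j <;> first
            | rfl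
            | (exfalso
               simp only [Matrix.cons_val, inv_one, one_mul, mul_one, Fin.isValue, Fin.zero_eta,
                 Fin.mk_one, Matrix.cons_val_zero, Matrix.cons_val_one, Fin.reduceFinMk] at hl
               have a1 := hl.1.1.2
               have a2 := hl.1.2
               have a3 := hl.2
               first
                 | exact n12 (by simpa using a2)
                 | exact n21 (by simpa using a1)
                 | exact n31 (by simpa using a1)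
                 | exact n21 (by simpa using mul_mem q11 a1)
                 | exact n31 (by simpa using mul_mem q11 a1)
                 | exact n12 (by simpa using mul_mem q22 a2)
                 | exact n32 (by simpa using mul_mem q22 a2)
                 | exact n13 (by simpa using mul_mem q33 a3)
                 | exact n23 (by simpa using mul_mem q33 a3))
        subst hij
        exact Prod.ext rfl (Subtype.ext (mul_left_cancel e'))
      have := Nat.card_le_card_of_injective _ hinj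
      rwa [Nat.card_prod, Nat.card_eq_fintype_card (α := Fin 4), Fintype.card_fin] at this
    have hKall : vertexQ 2 a ≤ K := by
      intro q hq
      by_contra hqK
      have hi2 : (K.subgroupOf (vertexQ 2 a)).index = 2 := by
        have hc := (K.subgroupOf (vertexQ 2 a)).card_mul_index
        rw [Nat.card_congr (Subgroup.subgroupOfEquivOfLe hKQ).toEquiv] at hc
        have hne1 : (K.subgroupOf (vertexQ 2 a)).index ≠ 1 := fun e => hqK (by
          have h1 := Subgroup.index_eq_one.1 e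
          have : (⟨q, hq⟩ : ↥(vertexQ 2 a)) ∈ K.subgroupOf (vertexQ 2 a) := h1 ▸ Subgroup.mem_top _
          exact this)
        have hne0 : (K.subgroupOf (vertexQ 2 a)).index ≠ 0 := Subgroup.index_ne_zero_of_finite
        by_contra hne
        have h3 : 3 ≤ (K.subgroupOf (vertexQ 2 a)).index := by omega
        have := Nat.mul_le_mul_left (Nat.card ↥K) h3
        have := (Nat.card_pos : 0 < Nat.card ↥F)
        omega
      have hρ : ⁅q, d⁆ ≠ 1 := fun e => hqK ⟨hq, Subgroup.mem_centralizer_singleton_iff.2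
        (commutatorElement_eq_one_iff_mul_comm.1 e)⟩
      have hρa := hdQ q hq
      have key : ∀ (v : CosetVertex M₁ M₂) (x : X), (cosetGraph M₁ M₂).Adj a v → x ∈ edgeStabilizer a v →
          x ∉ vertexQ 2 a → d * x = x * d → ⁅q, d⁆ ∈ vertexZ 2 v := by
        intro v x hv hx hxQ hdx
        have hq' : x * q * x⁻¹ ∈ vertexQ 2 a := SThreePair.vertexQ_conj hx.1 hq
        have hconj : ⁅x * q * x⁻¹, d⁆ = x * ⁅q, d⁆ * x⁻¹ := by
          rw [← commutator_conj, ← hdx, mul_inv_cancel_right]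
        have hq'K : x * q * x⁻¹ ∉ K := fun hh => hρ (by
          have h1 : ⁅x * q * x⁻¹, d⁆ = 1 := commutatorElement_eq_one_iff_mul_comm.2
            (Subgroup.mem_centralizer_singleton_iff.1 hh.2)
          rw [hconj] at h1
          exact conj_eq_one_iff.1 h1)
        have hk' : q⁻¹ * (x * q * x⁻¹) ∈ K :=
          (Subgroup.mul_mem_iff_of_index_two hi2 (a := ⟨q⁻¹, inv_mem hq⟩) (b := ⟨_, hq'⟩)).2
            (iff_of_false (fun hh => hqK (by simpa using inv_mem (show q⁻¹ ∈ K from hh))) hq'K)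
        have h1 : ⁅q⁻¹ * (x * q * x⁻¹), d⁆ = 1 := commutatorElement_eq_one_iff_mul_comm.2
          (Subgroup.mem_centralizer_singleton_iff.1 hk'.2)
        have h2 : ⁅x * q * x⁻¹, d⁆ = ⁅q, d⁆ := by
          calc ⁅x * q * x⁻¹, d⁆ = ⁅q * (q⁻¹ * (x * q * x⁻¹)), d⁆ := by rw [mul_inv_cancel_left]
            _ = ⁅q, d⁆ := by rw [commutator_mul_left, h1, mul_one, mul_inv_cancel, one_mul]
        refine h.cent_eq hv hA hx hxQ hρa ?_
        calc x * ⁅q, d⁆ = x * ⁅q, d⁆ * x⁻¹ * x := by rw [inv_mul_cancel_right]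
          _ = ⁅q, d⁆ * x := by rw [← hconj, h2]
      exact hρ (h.inf_eq hv₁ hv₂ hA h21.symm (key v₁ x hv₁ hxE hxQ (hcx d hc₀))
        (key v₂ x₂ hv₂ hxE₂ hxQ₂ (hcx₂ d hc₀)))
    have hQd : ∀ q ∈ vertexQ 2 a, q * d = d * q := fun q hq =>
      Subgroup.mem_centralizer_singleton_iff.1 (hKall hq).2
    have hTd : ∀ g ∈ T, g * d = d * g := by
      intro g hg
      by_cases hgQ : g ∈ vertexQ 2 a
      · exact hQd g hgQ
      have h1 := hQd _ (h.toSThreePair.mul_mem_Q hv₁ hg hxE hgQ hxQ)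
      have h2 : x * d = d * x := (hcx d hc₀).symm
      have h3 : g * d * x = d * g * x := by
        calc g * d * x = g * (d * x) := mul_assoc _ _ _
          _ = g * x * d := by rw [← h2, mul_assoc]
          _ = d * g * x := h1.trans (mul_assoc _ _ _).symm
      exact mul_right_cancel h3
    have hdΩ : d ∈ vertexZ 2 a := h.omega_le_Z hv₁ (Subgroup.subset_closure
      ⟨⟨hFT hdF, Subgroup.mem_centralizer_iff.2 hTd⟩, by rw [sq]; exact hFsq d hdF⟩)
    exact hd1 (hmeet d hc₀ hdΩ)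
  have hC₀1 : Nat.card ↥C₀ = 1 := by
    rw [show C₀ = ⊥ from eq_bot_iff.2 fun g hg => Subgroup.mem_bot.2 (hmeet g hg (hFZ (hC₀F hg)))]
    exact Subgroup.card_bot
  have h5 := h.toSThreePair.card_edge_eq_two_mul hv₁
  omega

end SThreeCentral

end CfsgLib.Amalgam
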