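import Cfsg.Agent.Amalgam.SThree

/-!
General tools for amalgam pairs of index (3, 3) at the prime 2, and the bound in the case that
`O₂` of some vertex stabilizer does not contain its centralizer.
-/

set_option autoImplicit false
set_option linter.unusedSectionVars false
open Cfsg
open scoped Pointwise

namespace CfsgLib.Amalgam

variable {X : Type*} [Group X] {M₁ M₂ : Subgroup X}

/-- A set closed under conjugation by the elements of a subgroup and by their inverses. -/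
theorem le_normalizer_of_conj {N H : Subgroup X} (hn : ∀ g ∈ H, ∀ x ∈ N, g * x * g⁻¹ ∈ N) :
    H ≤ Subgroup.normalizer (N : Set X) := fun g hg =>
  Subgroup.mem_normalizer_iff.2 fun x => ⟨hn g hg x, fun hx => by
    simpa [mul_assoc] using hn g⁻¹ (inv_mem hg) _ hx⟩

theorem adj_ne_of_adj {δ μ : CosetVertex M₁ M₂} (h : (cosetGraph M₁ M₂).Adj δ μ) : δ ≠ μ := h.ne

namespace SThreePair

variable (h : SThreePair M₁ M₂)

include h

theorem eq_bot_of_normalized {δ μ : CosetVertex M₁ M₂} (hμ : (cosetGraph M₁ M₂).Adj δ μ)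
    {N : Subgroup X} (hN : N ≤ edgeStabilizer δ μ)
    (hδ : MulAction.stabilizer X δ ≤ Subgroup.normalizer (N : Set X))
    (hμ' : MulAction.stabilizer X μ ≤ Subgroup.normalizer (N : Set X)) : N = ⊥ := by
  refine normalizer_transitive_eq_bot h.pair hμ hN (fun ν hν => ?_) (fun ν hν => ?_)
  · obtain ⟨g, hg, he⟩ := neighbours_transitive hμ hν
    exact ⟨g, ⟨hδ hg, hg⟩, he⟩
  · obtain ⟨g, hg, he⟩ := neighbours_transitive hμ.symm hν
    exact ⟨g, ⟨hμ' hg, hg⟩, he⟩

theorem exists_order_three {δ : CosetVertex M₁ M₂} {N : Subgroup X}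
    (hle : N ≤ MulAction.stabilizer X δ)
    (hn : ∀ g ∈ MulAction.stabilizer X δ, ∀ x ∈ N, g * x * g⁻¹ ∈ N)
    (hQ : ¬ N ≤ vertexQ 2 δ) : ∃ d ∈ N, orderOf d = 3 := by
  obtain ⟨μ, hμ⟩ : ∃ μ, (cosetGraph M₁ M₂).Adj δ μ := by
    obtain ⟨x, rfl | rfl⟩ := vertex_cases δ
    · exact ⟨_, adj_smul_base x⟩
    · exact ⟨_, (adj_smul_base x).symm⟩
  have := h.finite δ
  have := h.finite_edge δ μ
  have : Fact (Nat.Prime 3) := ⟨Nat.prime_three⟩
  have : Fact (Nat.Prime 2) := ⟨Nat.prime_two⟩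
  have : Finite ↥N := Finite.of_injective (Subgroup.inclusion hle) (Subgroup.inclusion_injective _)
  by_cases h3 : 3 ∣ Nat.card ↥N
  · obtain ⟨⟨d, hd⟩, hd3⟩ := exists_prime_orderOf_dvd_card' (G := ↥N) 3 h3
    exact ⟨d, hd, by rwa [Subgroup.orderOf_mk] at hd3⟩
  exfalso
  obtain ⟨k, hk⟩ := IsPGroup.iff_card.1 (h.edge_isPGroup hμ)
  have hd := Subgroup.card_dvd_of_le hle
  rw [h.card_edge hμ, hk] at hd
  have hc : Nat.Coprime (Nat.card ↥N) 3 := (Nat.Prime.coprime_iff_not_dvd Nat.prime_three).2 h3 |>.symm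
  obtain ⟨j, -, hj⟩ := (Nat.dvd_prime_pow Nat.prime_two).1 (hc.dvd_of_dvd_mul_left hd)
  exact hQ (le_pCoreOf hle (IsPGroup.of_card hj) hn)

theorem order_three_notMem_edge {δ μ : CosetVertex M₁ M₂} (hμ : (cosetGraph M₁ M₂).Adj δ μ) {d : X}
    (hd : orderOf d = 3) : d ∉ edgeStabilizer δ μ := by
  intro hdE
  obtain ⟨k, hk⟩ := IsPGroup.iff_orderOf.1 (h.edge_isPGroup hμ) ⟨d, hdE⟩
  rw [Subgroup.orderOf_mk, hd] at hk
  cases k with
  | zero => simp at hk
  | succ k => rw [pow_succ] at hk; omega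

/-- If an element of order 3 of `G_δ` centralizes `Q_δ`, then the edge stabilizers have order at most 16. -/
theorem card_le_of_centralizing {δ μ : CosetVertex M₁ M₂} (hμ : (cosetGraph M₁ M₂).Adj δ μ) {d : X}
    (hd : d ∈ MulAction.stabilizer X δ) (hd3 : orderOf d = 3)
    (hc : ∀ q ∈ vertexQ 2 δ, d * q = q * d) :
    Nat.card ↥(edgeStabilizer δ μ) ≤ 16 := by
  classical
  have hdμ : d • μ ≠ μ := fun e =>
    h.order_three_notMem_edge hμ hd3 ⟨hd, MulAction.mem_stabilizer_iff.2 e⟩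
  have hsmall : ∀ N : Subgroup X, N ≤ vertexQ 2 δ ⊓ vertexQ 2 μ →
      MulAction.stabilizer X μ ≤ Subgroup.normalizer (N : Set X) → N = ⊥ := by
    intro N hN hn
    refine h.eq_bot_of_normalized hμ (fun x hx => h.vertexQ_le_edge hμ (hN hx).1) ?_ hn
    refine h.stab_le_of_edge_le hμ (fun x hx => hn hx.2) hd hdμ ?_
    refine Subgroup.mem_normalizer_iff.2 fun x => ⟨fun hx => ?_, fun hx => ?_⟩
    · rwa [hc x (hN hx).1, mul_inv_cancel_right]
    · have e : d * (d * x * d⁻¹) = d * x * d⁻¹ * d := hc _ (hN hx).1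
      have e2 : d * x * d⁻¹ = x := by
        rw [inv_mul_cancel_right] at e
        calc d * x * d⁻¹ = d⁻¹ * (d * (d * x * d⁻¹)) := by rw [inv_mul_cancel_left]
          _ = x := by rw [e, inv_mul_cancel_left]
      rwa [e2] at hx
  have hQe : vertexQ 2 μ ≤ edgeStabilizer δ μ := fun x hx => by
    have := h.vertexQ_le_edge hμ.symm hx
    exact ⟨this.2, this.1⟩
  have hsq : ∀ q ∈ vertexQ 2 μ, q * q = 1 := by
    intro q hq
    have hbot := hsmall (Subgroup.closure {w : X | ∃ q ∈ vertexQ 2 μ, w = q * q})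
      ((Subgroup.closure_le _).2 (by
        rintro _ ⟨q, hq, rfl⟩
        refine ⟨?_, mul_mem hq hq⟩
        by_cases hqδ : q ∈ vertexQ 2 δ
        · exact mul_mem hqδ hqδ
        · exact h.mul_mem_Q hμ (hQe hq) (hQe hq) hqδ hqδ))
      (le_normalizer_of_conj fun g hg x hx => by
        have : Subgroup.closure {w : X | ∃ q ∈ vertexQ 2 μ, w = q * q} ≤
            (Subgroup.closure {w : X | ∃ q ∈ vertexQ 2 μ, w = q * q}).comap
              (MulAut.conj g).toMonoidHom := (Subgroup.closure_le _).2 (by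
          rintro _ ⟨q, hq, rfl⟩
          exact Subgroup.subset_closure ⟨g * q * g⁻¹, SThreePair.vertexQ_conj hg hq, by simp [mul_assoc]⟩)
        exact this hx)
    have : q * q ∈ Subgroup.closure {w : X | ∃ q ∈ vertexQ 2 μ, w = q * q} :=
      Subgroup.subset_closure ⟨q, hq, rfl⟩
    rwa [hbot, Subgroup.mem_bot] at this
  -- three neighbours of `μ`
  obtain ⟨ν, hν, hne⟩ := h.exists_other hμ.symm
  obtain ⟨ρ, hρ, hρδ, hρν⟩ := h.exists_third hμ.symm ν
  set I := vertexQ 2 μ ⊓ (vertexQ 2 δ ⊓ vertexQ 2 ν ⊓ vertexQ 2 ρ) with hI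
  have hIbot : I = ⊥ := by
    refine hsmall I (le_inf (fun x hx => hx.2.1.1) inf_le_left) (le_normalizer_of_conj fun g hg x hx => ?_)
    have hall : ∀ σ, (cosetGraph M₁ M₂).Adj μ σ → x ∈ vertexQ 2 σ := by
      intro σ hσ
      by_cases e1 : σ = δ
      · exact e1 ▸ hx.2.1.1
      by_cases e2 : σ = ν
      · exact e2 ▸ hx.2.1.2
      exact (h.eq_third hμ.symm hν hσ hρ hne.symm e1 e2 hρδ hρν) ▸ hx.2.2
    have key : ∀ σ, (cosetGraph M₁ M₂).Adj μ σ → g * x * g⁻¹ ∈ vertexQ 2 σ := by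
      intro σ hσ
      have hσ' : (cosetGraph M₁ M₂).Adj μ (g⁻¹ • σ) := adj_of_mem_stabilizer (inv_mem hg) hσ
      have hx' := hall _ hσ'
      have := Subgroup.mem_map_of_mem (MulAut.conj g).toMonoidHom hx'
      obtain ⟨y, hy, e⟩ := this
      obtain ⟨z, hz, rfl⟩ := hy
      have hsm : (MulAction.stabilizer X (g⁻¹ • σ)).map (MulAut.conj g).toMonoidHom =
          MulAction.stabilizer X σ := by rw [← stabilizer_smul_vertex, smul_inv_smul]
      have hle : (pCoreOf 2 (MulAction.stabilizer X (g⁻¹ • σ))).map (MulAut.conj g).toMonoidHom ≤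
          pCoreOf 2 (MulAction.stabilizer X σ) := by
        refine le_pCoreOf (hsm ▸ Subgroup.map_mono (Subgroup.map_subtype_le _))
          (((pCore_isPGroup 2 _).map _).map _) ?_
        intro k hk y hy
        rw [← hsm] at hk
        obtain ⟨k, hk, rfl⟩ := hk
        obtain ⟨y, hy, rfl⟩ := hy
        exact ⟨k * y * k⁻¹, conj_mem_pCoreOf hk hy, by simp [mul_assoc]⟩
      exact hle ⟨x, hx', rfl⟩
    exact ⟨SThreePair.vertexQ_conj hg hx.1, ⟨key δ hμ.symm, key ν hν⟩, key ρ hρ⟩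
  have hflip : ∀ σ, (cosetGraph M₁ M₂).Adj μ σ → ∀ a ∈ vertexQ 2 μ, ∀ b ∈ vertexQ 2 μ,
      (a ∈ vertexQ 2 σ ↔ b ∈ vertexQ 2 σ) → a * b ∈ vertexQ 2 σ := by
    intro σ hσ a ha b hb hiff
    by_cases has : a ∈ vertexQ 2 σ
    · exact mul_mem has (hiff.1 has)
    · have hQσ : vertexQ 2 μ ≤ edgeStabilizer σ μ := fun x hx => by
        have := h.vertexQ_le_edge hσ hx
        exact ⟨this.2, this.1⟩
      exact h.mul_mem_Q hσ.symm (hQσ ha) (hQσ hb) has (fun hh => has (hiff.2 hh))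
  have hinj : Function.Injective (fun a : ↥(vertexQ 2 μ) =>
      (decide ((a : X) ∈ vertexQ 2 δ), decide ((a : X) ∈ vertexQ 2 ν), decide ((a : X) ∈ vertexQ 2 ρ))) := by
    intro a b e
    simp only [Prod.mk.injEq, decide_eq_decide] at e
    have : (a : X) * b ∈ I := ⟨mul_mem a.2 b.2, ⟨hflip δ hμ.symm a a.2 b b.2 e.1,
      hflip ν hν a a.2 b b.2 e.2.1⟩, hflip ρ hρ a a.2 b b.2 e.2.2⟩
    rw [hIbot, Subgroup.mem_bot] at this
    refine Subtype.ext ?_
    calc (a : X) = a * ((b : X) * b) := by rw [hsq b b.2, mul_one]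
      _ = b := by rw [← mul_assoc, this, one_mul]
  have hle := Nat.card_le_card_of_injective _ hinj
  have h8 : Nat.card (Bool × Bool × Bool) = 8 := by simp [Nat.card_prod]
  have h2 := h.card_edge_eq_two_mul hμ
  rw [h.card_Q_adj hμ] at h2
  omega

end SThreePair

end CfsgLib.Amalgam
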